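import Mathlib
import Cfsg.Prelude.Def_Sporadic_a

set_option autoImplicit false

namespace Cfsg.Agent.Lib.Helper95

open Finset

/-- Number of `k`-subsets of `b` containing a given subset `I ⊆ b`. -/
theorem card_powersetCard_superset {α : Type*} [DecidableEq α] (b I : Finset α) (hI : I ⊆ b)
    (k : ℕ) (hk : I.card ≤ k) :
    ((b.powersetCard k).filter (fun S => I ⊆ S)).card = (b.card - I.card).choose (k - I.card) := by
  rw [← Finset.card_sdiff_of_subset hI, ← Finset.card_powersetCard]
  apply Finset.card_bij (fun S _ => S \ I)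
  · intro S hS
    rw [Finset.mem_filter, Finset.mem_powersetCard] at hS
    rw [Finset.mem_powersetCard]
    refine ⟨Finset.sdiff_subset_sdiff hS.1.1 (le_refl _), ?_⟩
    rw [Finset.card_sdiff_of_subset hS.2, hS.1.2]
  · intro S hS S' hS' h
    rw [Finset.mem_filter] at hS hS'
    have h1 : S = (S \ I) ∪ I := (Finset.sdiff_union_of_subset hS.2).symm
    have h2 : S' = (S' \ I) ∪ I := (Finset.sdiff_union_of_subset hS'.2).symm
    rw [h1, h2, h]
  · intro T hT
    rw [Finset.mem_powersetCard] at hT
    have hdisj : Disjoint T I :=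
      Finset.disjoint_of_subset_left hT.1 (Finset.sdiff_disjoint)
    refine ⟨T ∪ I, ?_, ?_⟩
    · rw [Finset.mem_filter, Finset.mem_powersetCard]
      refine ⟨⟨Finset.union_subset (hT.1.trans Finset.sdiff_subset) hI, ?_⟩, Finset.subset_union_right⟩
      rw [Finset.card_union_of_disjoint hdisj, hT.2]
      omega
    · rw [Finset.union_sdiff_right]
      exact Finset.sdiff_eq_self_of_disjoint hdisj

/-- In a Steiner system `S(t,k,v)`, the number `N` of blocks through an `i`-set (`i ≤ t`) satisfies
`N * C(k-i, t-i) = C(v-i, t-i)`. -/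
theorem steiner_blocks_through {α : Type*} [Fintype α] [DecidableEq α] (t k : ℕ)
    (B : Finset (Finset α)) (hB : Cfsg.IsSteinerSystem t k (B : Set (Finset α)))
    (I : Finset α) (hI : I.card ≤ t) :
    (B.filter (fun b => I ⊆ b)).card * (k - I.card).choose (t - I.card)
      = (Fintype.card α - I.card).choose (t - I.card) := by
  classical
  -- double count pairs (S, b) with I ⊆ S ⊆ b, |S| = t
  have h1 : ∑ b ∈ B.filter (fun b => I ⊆ b),
      ((b.powersetCard t).filter (fun S => I ⊆ S)).card
      = (B.filter (fun b => I ⊆ b)).card * (k - I.card).choose (t - I.card) := by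
    rw [Finset.sum_const_nat]
    intro b hb
    rw [Finset.mem_filter] at hb
    rw [card_powersetCard_superset b I hb.2 t hI, hB.1 b (by exact_mod_cast hb.1)]
  have h2 : ∑ b ∈ B.filter (fun b => I ⊆ b),
      ((b.powersetCard t).filter (fun S => I ⊆ S)).card
      = ∑ S ∈ ((Finset.univ : Finset α).powersetCard t).filter (fun S => I ⊆ S),
          (B.filter (fun b => S ⊆ b)).card := by
    have e1 : ∀ b ∈ B.filter (fun b => I ⊆ b), ((b.powersetCard t).filter (fun S => I ⊆ S)).card
        = ∑ S ∈ ((Finset.univ : Finset α).powersetCard t).filter (fun S => I ⊆ S),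
            (if S ⊆ b then 1 else 0) := by
      intro b hb
      rw [Finset.card_eq_sum_ones, ← Finset.sum_filter]
      apply Finset.sum_congr _ (fun _ _ => rfl)
      ext S
      simp only [Finset.mem_filter, Finset.mem_powersetCard, Finset.subset_univ, true_and]
      tauto
    have e2 : ∀ S ∈ ((Finset.univ : Finset α).powersetCard t).filter (fun S => I ⊆ S),
        (B.filter (fun b => S ⊆ b)).card
        = ∑ b ∈ B.filter (fun b => I ⊆ b), (if S ⊆ b then 1 else 0) := by
      intro S hS
      rw [Finset.mem_filter] at hS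
      rw [Finset.card_eq_sum_ones, ← Finset.sum_filter]
      apply Finset.sum_congr _ (fun _ _ => rfl)
      ext b
      simp only [Finset.mem_filter]
      constructor
      · rintro ⟨h1, h2⟩
        exact ⟨⟨h1, hS.2.trans h2⟩, h2⟩
      · rintro ⟨⟨h1, _⟩, h2⟩
        exact ⟨h1, h2⟩
    rw [Finset.sum_congr rfl e1, Finset.sum_congr rfl e2, Finset.sum_comm]
  have h3 : ∑ S ∈ ((Finset.univ : Finset α).powersetCard t).filter (fun S => I ⊆ S),
          (B.filter (fun b => S ⊆ b)).card
      = (Fintype.card α - I.card).choose (t - I.card) := by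
    rw [← Finset.card_univ (α := α), ← card_powersetCard_superset Finset.univ I (Finset.subset_univ I) t hI]
    rw [Finset.card_eq_sum_ones]
    apply Finset.sum_congr rfl
    intro S hS
    rw [Finset.mem_filter, Finset.mem_powersetCard] at hS
    obtain ⟨b, hb, hbu⟩ := hB.2 S hS.1.2
    rw [Finset.card_eq_one]
    refine ⟨b, ?_⟩
    ext c
    rw [Finset.mem_filter, Finset.mem_singleton]
    constructor
    · rintro ⟨hc, hSc⟩
      exact hbu c ⟨by exact_mod_cast hc, hSc⟩
    · rintro rfl
      exact ⟨by exact_mod_cast hb.1, hb.2⟩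
  rw [← h1, h2, h3]

end Cfsg.Agent.Lib.Helper95
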