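import Mathlib
import Cfsg.Prelude.Def_Sporadic_a
import Cfsg.Agent.Lib.Helper95.Steiner

set_option autoImplicit false

namespace Cfsg.Agent.Lib.Helper95

open Finset

/-- A projective plane of order 4 presented as a Steiner system S(2,5,21). -/
structure P4 {α : Type*} [Fintype α] [DecidableEq α] (L : Set (Finset α)) : Prop where
  card : Fintype.card α = 21
  st : Cfsg.IsSteinerSystem 2 5 L

namespace P4

variable {α : Type*} [Fintype α] [DecidableEq α] {L : Set (Finset α)}

theorem card_line (h : P4 L) {l : Finset α} (hl : l ∈ L) : l.card = 5 := h.st.1 l hl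

open Classical in
/-- The line through two points (empty if the points coincide). -/
noncomputable def ln (h : P4 L) (a b : α) : Finset α :=
  if hab : a = b then ∅ else Classical.choose (h.st.2 {a, b} (Finset.card_pair hab)).exists

theorem ln_self (h : P4 L) (a : α) : h.ln a a = ∅ := by
  unfold ln; simp

theorem ln_spec (h : P4 L) {a b : α} (hab : a ≠ b) : h.ln a b ∈ L ∧ {a, b} ⊆ h.ln a b := by
  unfold ln
  rw [dif_neg hab]
  exact Classical.choose_spec (h.st.2 {a, b} (Finset.card_pair hab)).exists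

theorem ln_mem (h : P4 L) {a b : α} (hab : a ≠ b) : h.ln a b ∈ L := (h.ln_spec hab).1

theorem left_mem_ln (h : P4 L) {a b : α} (hab : a ≠ b) : a ∈ h.ln a b :=
  (h.ln_spec hab).2 (by simp)

theorem right_mem_ln (h : P4 L) {a b : α} (hab : a ≠ b) : b ∈ h.ln a b :=
  (h.ln_spec hab).2 (by simp)

theorem line_ext (h : P4 L) {l m : Finset α} (hl : l ∈ L) (hm : m ∈ L) {a b : α} (hab : a ≠ b)
    (ha : a ∈ l) (hb : b ∈ l) (ha' : a ∈ m) (hb' : b ∈ m) : l = m := by
  obtain ⟨k, _, hk⟩ := h.st.2 {a, b} (Finset.card_pair hab)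
  have h1 : {a, b} ⊆ l := by
    intro x hx
    rw [Finset.mem_insert, Finset.mem_singleton] at hx
    rcases hx with rfl | rfl <;> assumption
  have h2 : {a, b} ⊆ m := by
    intro x hx
    rw [Finset.mem_insert, Finset.mem_singleton] at hx
    rcases hx with rfl | rfl <;> assumption
  rw [hk l ⟨hl, h1⟩, hk m ⟨hm, h2⟩]

theorem eq_ln (h : P4 L) {l : Finset α} (hl : l ∈ L) {a b : α} (hab : a ≠ b) (ha : a ∈ l)
    (hb : b ∈ l) : l = h.ln a b :=
  h.line_ext hl (h.ln_mem hab) hab ha hb (h.left_mem_ln hab) (h.right_mem_ln hab)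

theorem ln_comm (h : P4 L) (a b : α) : h.ln a b = h.ln b a := by
  by_cases hab : a = b
  · rw [hab]
  · exact h.eq_ln (h.ln_mem hab) (Ne.symm hab) (h.right_mem_ln hab) (h.left_mem_ln hab)

open Classical in
/-- The lines as a finset. -/
noncomputable def linesF (_h : P4 L) : Finset (Finset α) := Finset.univ.filter (· ∈ L)

theorem mem_linesF (h : P4 L) {l : Finset α} : l ∈ h.linesF ↔ l ∈ L := by
  classical
  simp [linesF]

theorem coe_linesF (h : P4 L) : (h.linesF : Set (Finset α)) = L := by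
  ext l
  rw [Finset.mem_coe, mem_linesF]

theorem st' (h : P4 L) : Cfsg.IsSteinerSystem 2 5 (h.linesF : Set (Finset α)) := by
  rw [coe_linesF]; exact h.st

theorem card_linesF (h : P4 L) : h.linesF.card = 21 := by
  have h1 := steiner_blocks_through 2 5 h.linesF h.st' ∅ (by simp)
  rw [Finset.card_empty, h.card] at h1
  have e : h.linesF.filter (fun b => ∅ ⊆ b) = h.linesF := by
    apply Finset.filter_true_of_mem
    intro b _
    exact Finset.empty_subset b
  rw [e] at h1
  have c1 : Nat.choose (5 - 0) (2 - 0) = 10 := by decide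
  have c2 : Nat.choose (21 - 0) (2 - 0) = 210 := by decide
  rw [c1, c2] at h1
  omega

/-- The pencil of lines through a point. -/
noncomputable def pencil (h : P4 L) (p : α) : Finset (Finset α) :=
  h.linesF.filter (fun l => p ∈ l)

theorem mem_pencil (h : P4 L) {p : α} {l : Finset α} : l ∈ h.pencil p ↔ l ∈ L ∧ p ∈ l := by
  unfold pencil
  rw [Finset.mem_filter, mem_linesF]

theorem card_pencil (h : P4 L) (p : α) : (h.pencil p).card = 5 := by
  have h1 := steiner_blocks_through 2 5 h.linesF h.st' {p} (by simp)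
  rw [Finset.card_singleton, h.card] at h1
  have e : h.linesF.filter (fun b => {p} ⊆ b) = h.pencil p := by
    unfold pencil
    apply Finset.filter_congr
    intro b _
    exact Finset.singleton_subset_iff
  rw [e] at h1
  have c1 : Nat.choose (5 - 1) (2 - 1) = 4 := by decide
  have c2 : Nat.choose (21 - 1) (2 - 1) = 20 := by decide
  rw [c1, c2] at h1
  omega

/-- If `Q` is a set of five points not containing `p`, no two of them collinear with `p`, then
every line through `p` meets `Q`. -/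
theorem pencil_meets (h : P4 L) (p : α) (Q : Finset α) (hQ : Q.card = 5) (hp : p ∉ Q)
    (hinj : ∀ q ∈ Q, ∀ q' ∈ Q, h.ln p q = h.ln p q' → q = q') {l : Finset α} (hl : l ∈ L)
    (hpl : p ∈ l) : ∃ q ∈ Q, l = h.ln p q := by
  have hne : ∀ q ∈ Q, p ≠ q := fun q hq e => hp (e ▸ hq)
  have hsub : Q.image (fun q => h.ln p q) ⊆ h.pencil p := by
    intro m hm
    rw [Finset.mem_image] at hm
    obtain ⟨q, hq, rfl⟩ := hm
    rw [mem_pencil]
    exact ⟨h.ln_mem (hne q hq), h.left_mem_ln (hne q hq)⟩
  have hcard : (Q.image (fun q => h.ln p q)).card = 5 := by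
    rw [Finset.card_image_of_injOn, hQ]
    intro q hq q' hq' e
    exact hinj q hq q' hq' e
  have heq : Q.image (fun q => h.ln p q) = h.pencil p :=
    Finset.eq_of_subset_of_card_le hsub (by rw [hcard, h.card_pencil])
  have hl' : l ∈ h.pencil p := h.mem_pencil.mpr ⟨hl, hpl⟩
  rw [← heq, Finset.mem_image] at hl'
  obtain ⟨q, hq, rfl⟩ := hl'
  exact ⟨q, hq, rfl⟩

/-- Two distinct lines meet. -/
theorem meet (h : P4 L) {l m : Finset α} (hl : l ∈ L) (hm : m ∈ L) (hne : l ≠ m) :
    ∃ p, p ∈ l ∧ p ∈ m := by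
  by_contra hcon
  push Not at hcon
  have hmne : m.Nonempty := by
    rw [← Finset.card_pos, h.card_line hm]; norm_num
  obtain ⟨p, hp⟩ := hmne
  have hpl : p ∉ l := fun hpl => hcon p hpl hp
  obtain ⟨q, hq, rfl⟩ := h.pencil_meets p l (h.card_line hl) hpl (by
    intro q hq q' hq' e
    by_contra hqq
    have hpq : p ≠ q := fun e => hpl (e ▸ hq)
    have hpq' : p ≠ q' := fun e => hpl (e ▸ hq')
    have h1 : l = h.ln p q := h.line_ext hl (h.ln_mem hpq) hqq hq hq' (h.right_mem_ln hpq)
      (e ▸ h.right_mem_ln hpq')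
    exact hpl (h1 ▸ h.left_mem_ln hpq)) hm hp
  have hpq : p ≠ q := fun e => hpl (e ▸ hq)
  exact hcon q hq (h.right_mem_ln hpq)

theorem inter_card (h : P4 L) {l m : Finset α} (hl : l ∈ L) (hm : m ∈ L) (hne : l ≠ m) :
    (l ∩ m).card = 1 := by
  obtain ⟨p, hpl, hpm⟩ := h.meet hl hm hne
  rw [Finset.card_eq_one]
  refine ⟨p, ?_⟩
  ext x
  rw [Finset.mem_inter, Finset.mem_singleton]
  constructor
  · rintro ⟨hxl, hxm⟩
    by_contra hxp
    exact hne (h.line_ext hl hm hxp hxl hpl hxm hpm)
  · rintro rfl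
    exact ⟨hpl, hpm⟩

end P4

end Cfsg.Agent.Lib.Helper95
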