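import Mathlib
import Cfsg.Prelude.Def_Sporadic_a
import Cfsg.Agent.Lib.Helper95.Plane4

set_option autoImplicit false

namespace Cfsg.Agent.Lib.Helper95

open Finset

/-- An arc: no line meets `S` in more than two points. -/
def IsArc {α : Type*} [DecidableEq α] (L : Set (Finset α)) (S : Finset α) : Prop :=
  ∀ l ∈ L, (l ∩ S).card ≤ 2

namespace P4

variable {α : Type*} [Fintype α] [DecidableEq α] {L : Set (Finset α)}

omit [Fintype α] in
theorem IsArc.subset {S T : Finset α} (hS : IsArc L S) (hT : T ⊆ S) : IsArc L T :=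
  fun l hl => (Finset.card_le_card (Finset.inter_subset_inter_left hT)).trans (hS l hl)

omit [Fintype α] in
theorem isArc_of_card_le_two {S : Finset α} (hS : S.card ≤ 2) : IsArc L S :=
  fun _ _ => (Finset.card_le_card Finset.inter_subset_right).trans hS

theorem IsArc.not_mem_ln (h : P4 L) {S : Finset α} (hS : IsArc L S) {a b c : α} (ha : a ∈ S)
    (hb : b ∈ S) (hc : c ∈ S) (hab : a ≠ b) (hac : a ≠ c) (hbc : b ≠ c) : c ∉ h.ln a b := by
  intro hcl
  have h1 := hS (h.ln a b) (h.ln_mem hab)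
  have h2 : ({a, b, c} : Finset α) ⊆ h.ln a b ∩ S := by
    intro x hx
    simp only [Finset.mem_insert, Finset.mem_singleton] at hx
    rw [Finset.mem_inter]
    rcases hx with rfl | rfl | rfl
    · exact ⟨h.left_mem_ln hab, ha⟩
    · exact ⟨h.right_mem_ln hab, hb⟩
    · exact ⟨hcl, hc⟩
  have h3 : ({a, b, c} : Finset α).card = 3 := Finset.card_eq_three.mpr ⟨a, b, c, hab, hac, hbc, rfl⟩
  have := Finset.card_le_card h2
  omega

/-- The union of the secants of `S`. -/
noncomputable def cov (h : P4 L) (S : Finset α) : Finset α :=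
  S.biUnion (fun a => S.biUnion (fun b => h.ln a b))

theorem mem_cov (h : P4 L) {S : Finset α} {p : α} :
    p ∈ h.cov S ↔ ∃ a ∈ S, ∃ b ∈ S, a ≠ b ∧ p ∈ h.ln a b := by
  unfold cov
  simp only [Finset.mem_biUnion]
  constructor
  · rintro ⟨a, ha, b, hb, hp⟩
    refine ⟨a, ha, b, hb, ?_, hp⟩
    rintro rfl
    rw [h.ln_self] at hp
    exact absurd hp (Finset.notMem_empty p)
  · rintro ⟨a, ha, b, hb, _, hp⟩
    exact ⟨a, ha, b, hb, hp⟩

theorem subset_cov (h : P4 L) {S : Finset α} (hS : 2 ≤ S.card) : S ⊆ h.cov S := by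
  intro a ha
  obtain ⟨b, hb, hba⟩ := Finset.exists_mem_ne (by omega : 1 < S.card) a
  rw [mem_cov]
  exact ⟨a, ha, b, hb, hba.symm, h.left_mem_ln hba.symm⟩

/-- Extending an arc by a point. -/
theorem isArc_insert_iff (h : P4 L) {S : Finset α} (hS : IsArc L S) {p : α} (hp : p ∉ S) :
    IsArc L (insert p S) ↔ p ∉ h.cov S := by
  constructor
  · intro harc hcov
    obtain ⟨a, ha, b, hb, hab, hpl⟩ := h.mem_cov.mp hcov
    have hpa : p ≠ a := fun e => hp (e ▸ ha)
    have hpb : p ≠ b := fun e => hp (e ▸ hb)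
    exact IsArc.not_mem_ln h harc (Finset.mem_insert_of_mem ha) (Finset.mem_insert_of_mem hb)
      (Finset.mem_insert_self p S) hab hpa.symm hpb.symm hpl
  · intro hcov l hl
    by_cases hpl : p ∈ l
    · have h1 : (l ∩ S).card ≤ 1 := by
        by_contra hcon
        obtain ⟨a, ha, b, hb, hab⟩ := Finset.one_lt_card.mp (by omega : 1 < (l ∩ S).card)
        rw [Finset.mem_inter] at ha hb
        apply hcov
        rw [mem_cov]
        refine ⟨a, ha.2, b, hb.2, hab, ?_⟩
        rw [← h.eq_ln hl hab ha.1 hb.1]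
        exact hpl
      have h2 : l ∩ insert p S = insert p (l ∩ S) := by
        rw [Finset.inter_insert_of_mem hpl]
      rw [h2]
      have := Finset.card_insert_le p (l ∩ S)
      omega
    · have h2 : l ∩ insert p S = l ∩ S := by
        rw [Finset.inter_insert_of_notMem hpl]
      rw [h2]
      exact hS l hl

open Classical in
/-- The `k`-arcs as a finset. -/
noncomputable def arcsF (_h : P4 L) (k : ℕ) : Finset (Finset α) :=
  ((Finset.univ : Finset α).powersetCard k).filter (fun S => IsArc L S)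

theorem mem_arcsF (h : P4 L) {k : ℕ} {S : Finset α} : S ∈ h.arcsF k ↔ S.card = k ∧ IsArc L S := by
  classical
  unfold arcsF
  rw [Finset.mem_filter, Finset.mem_powersetCard]
  simp

/-- Double counting for extensions of arcs. -/
theorem card_arcsF_succ (h : P4 L) (k e : ℕ) (hk : 2 ≤ k)
    (he : ∀ T ∈ h.arcsF k, (Finset.univ \ h.cov T).card = e) :
    (h.arcsF (k + 1)).card * (k + 1) = (h.arcsF k).card * e := by
  classical
  have h1 : ((h.arcsF k).sigma (fun T => Finset.univ \ h.cov T)).card = (h.arcsF k).card * e := by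
    rw [Finset.card_sigma, Finset.sum_const_nat he]
  have h2 : ((h.arcsF (k + 1)).sigma (fun S => S)).card = (h.arcsF (k + 1)).card * (k + 1) := by
    rw [Finset.card_sigma, Finset.sum_const_nat]
    intro S hS
    exact (h.mem_arcsF.mp hS).1
  rw [← h1, ← h2]
  symm
  apply Finset.card_nbij' (fun x => ⟨insert x.2 x.1, x.2⟩) (fun x => ⟨x.1.erase x.2, x.2⟩)
  · rintro ⟨T, p⟩ hx
    rw [Finset.mem_coe, Finset.mem_sigma] at hx
    obtain ⟨hT, hp⟩ := hx
    simp only at hT hp
    rw [Finset.mem_sdiff] at hp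
    obtain ⟨hTc, hTa⟩ := h.mem_arcsF.mp hT
    have hpT : p ∉ T := fun hpT => hp.2 (h.subset_cov (by omega) hpT)
    rw [Finset.mem_coe, Finset.mem_sigma]
    refine ⟨?_, Finset.mem_insert_self p T⟩
    rw [mem_arcsF]
    exact ⟨by rw [Finset.card_insert_of_notMem hpT, hTc], (h.isArc_insert_iff hTa hpT).mpr hp.2⟩
  · rintro ⟨S, p⟩ hx
    rw [Finset.mem_coe, Finset.mem_sigma] at hx
    obtain ⟨hS, hp⟩ := hx
    simp only at hS hp
    obtain ⟨hSc, hSa⟩ := h.mem_arcsF.mp hS
    have hTa : IsArc L (S.erase p) := IsArc.subset hSa (Finset.erase_subset p S)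
    rw [Finset.mem_coe, Finset.mem_sigma]
    refine ⟨?_, ?_⟩
    · rw [mem_arcsF]
      exact ⟨by rw [Finset.card_erase_of_mem hp, hSc]; rfl, hTa⟩
    · simp only
      rw [Finset.mem_sdiff]
      refine ⟨Finset.mem_univ p, ?_⟩
      rw [← h.isArc_insert_iff hTa (Finset.notMem_erase p S), Finset.insert_erase hp]
      exact hSa
  · rintro ⟨T, p⟩ hx
    rw [Finset.mem_coe, Finset.mem_sigma] at hx
    obtain ⟨hT, hp⟩ := hx
    simp only at hT hp
    rw [Finset.mem_sdiff] at hp
    obtain ⟨hTc, hTa⟩ := h.mem_arcsF.mp hT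
    have hpT : p ∉ T := fun hpT => hp.2 (h.subset_cov (by omega) hpT)
    simp only [Finset.erase_insert hpT]
  · rintro ⟨S, p⟩ hx
    rw [Finset.mem_coe, Finset.mem_sigma] at hx
    obtain ⟨hS, hp⟩ := hx
    simp only at hS hp
    simp only [Finset.insert_erase hp]

theorem cov_pair (h : P4 L) {a b : α} (hab : a ≠ b) : h.cov {a, b} = h.ln a b := by
  ext p
  rw [mem_cov]
  constructor
  · rintro ⟨x, hx, y, hy, hxy, hp⟩
    simp only [Finset.mem_insert, Finset.mem_singleton] at hx hy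
    rcases hx with rfl | rfl <;> rcases hy with rfl | rfl
    · exact absurd rfl hxy
    · exact hp
    · rw [h.ln_comm]; exact hp
    · exact absurd rfl hxy
  · intro hp
    exact ⟨a, by simp, b, by simp, hab, hp⟩

theorem cov_triple (h : P4 L) {a b c : α} (hab : a ≠ b) (hac : a ≠ c) (hbc : b ≠ c) :
    h.cov {a, b, c} = h.ln a b ∪ h.ln a c ∪ h.ln b c := by
  ext p
  rw [mem_cov]
  simp only [Finset.mem_union]
  constructor
  · rintro ⟨x, hx, y, hy, hxy, hp⟩
    simp only [Finset.mem_insert, Finset.mem_singleton] at hx hy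
    rcases hx with rfl | rfl | rfl <;> rcases hy with rfl | rfl | rfl
    · exact absurd rfl hxy
    · exact Or.inl (Or.inl hp)
    · exact Or.inl (Or.inr hp)
    · rw [h.ln_comm] at hp; exact Or.inl (Or.inl hp)
    · exact absurd rfl hxy
    · exact Or.inr hp
    · rw [h.ln_comm] at hp; exact Or.inl (Or.inr hp)
    · rw [h.ln_comm] at hp; exact Or.inr hp
    · exact absurd rfl hxy
  · rintro ((hp | hp) | hp)
    · exact ⟨a, by simp, b, by simp, hab, hp⟩
    · exact ⟨a, by simp, c, by simp, hac, hp⟩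
    · exact ⟨b, by simp, c, by simp, hbc, hp⟩

theorem card_compl_cov_two (h : P4 L) {T : Finset α} (hT : T ∈ h.arcsF 2) :
    (Finset.univ \ h.cov T).card = 16 := by
  obtain ⟨hTc, _⟩ := h.mem_arcsF.mp hT
  obtain ⟨a, b, hab, rfl⟩ := Finset.card_eq_two.mp hTc
  rw [h.cov_pair hab, Finset.card_sdiff_of_subset (Finset.subset_univ _), Finset.card_univ, h.card,
    h.card_line (h.ln_mem hab)]

theorem card_cov_triple (h : P4 L) {a b c : α} (hab : a ≠ b) (hac : a ≠ c) (hbc : b ≠ c)
    (harc : IsArc L {a, b, c}) : (h.cov {a, b, c}).card = 12 := by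
  have hc : c ∉ h.ln a b :=
    IsArc.not_mem_ln h harc (by simp) (by simp) (by simp) hab hac hbc
  have hb : b ∉ h.ln a c :=
    IsArc.not_mem_ln h harc (by simp) (by simp) (by simp) hac hab hbc.symm
  have ha : a ∉ h.ln b c :=
    IsArc.not_mem_ln h harc (by simp) (by simp) (by simp) hbc hab.symm hac.symm
  have n1 : h.ln a b ≠ h.ln a c := fun e => hc (e ▸ h.right_mem_ln hac)
  have n2 : h.ln a b ≠ h.ln b c := fun e => hc (e ▸ h.right_mem_ln hbc)
  have n3 : h.ln a c ≠ h.ln b c := fun e => hb (e ▸ h.left_mem_ln hbc)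
  have i1 := h.inter_card (h.ln_mem hab) (h.ln_mem hac) n1
  have i2 : h.ln a b ∩ h.ln b c = {b} := by
    have := h.inter_card (h.ln_mem hab) (h.ln_mem hbc) n2
    obtain ⟨x, hx⟩ := Finset.card_eq_one.mp this
    have hb' : b ∈ h.ln a b ∩ h.ln b c :=
      Finset.mem_inter.mpr ⟨h.right_mem_ln hab, h.left_mem_ln hbc⟩
    rw [hx, Finset.mem_singleton] at hb'
    rw [hx, hb']
  have i3 : h.ln a c ∩ h.ln b c = {c} := by
    have := h.inter_card (h.ln_mem hac) (h.ln_mem hbc) n3
    obtain ⟨x, hx⟩ := Finset.card_eq_one.mp this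
    have hc' : c ∈ h.ln a c ∩ h.ln b c :=
      Finset.mem_inter.mpr ⟨h.right_mem_ln hac, h.right_mem_ln hbc⟩
    rw [hx, Finset.mem_singleton] at hc'
    rw [hx, hc']
  have u1 := Finset.card_union_add_card_inter (h.ln a b) (h.ln a c)
  have u2 := Finset.card_union_add_card_inter (h.ln a b ∪ h.ln a c) (h.ln b c)
  rw [Finset.union_inter_distrib_right, i2, i3] at u2
  have hpair : ({b} ∪ {c} : Finset α).card = 2 := by
    rw [← Finset.insert_eq]; exact Finset.card_pair hbc
  rw [hpair] at u2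
  rw [h.cov_triple hab hac hbc]
  have l1 := h.card_line (h.ln_mem hab)
  have l2 := h.card_line (h.ln_mem hac)
  have l3 := h.card_line (h.ln_mem hbc)
  omega

theorem card_compl_cov_three (h : P4 L) {T : Finset α} (hT : T ∈ h.arcsF 3) :
    (Finset.univ \ h.cov T).card = 9 := by
  obtain ⟨hTc, hTa⟩ := h.mem_arcsF.mp hT
  obtain ⟨a, b, c, hab, hac, hbc, rfl⟩ := Finset.card_eq_three.mp hTc
  rw [Finset.card_sdiff_of_subset (Finset.subset_univ _), Finset.card_univ, h.card,
    h.card_cov_triple hab hac hbc hTa]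

theorem card_arcsF_two (h : P4 L) : (h.arcsF 2).card = 210 := by
  classical
  have e : h.arcsF 2 = (Finset.univ : Finset α).powersetCard 2 := by
    ext S
    rw [mem_arcsF, Finset.mem_powersetCard]
    constructor
    · intro hS; exact ⟨Finset.subset_univ S, hS.1⟩
    · intro hS; exact ⟨hS.2, isArc_of_card_le_two (le_of_eq hS.2)⟩
  rw [e, Finset.card_powersetCard, Finset.card_univ, h.card]
  decide

theorem card_arcsF_three (h : P4 L) : (h.arcsF 3).card = 1120 := by
  have key : (h.arcsF 3).card * 3 = (h.arcsF 2).card * 16 :=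
    h.card_arcsF_succ 2 16 (le_refl 2) (fun T hT => h.card_compl_cov_two hT)
  rw [h.card_arcsF_two] at key
  omega

theorem card_arcsF_four (h : P4 L) : (h.arcsF 4).card = 2520 := by
  have key : (h.arcsF 4).card * 4 = (h.arcsF 3).card * 9 :=
    h.card_arcsF_succ 3 9 (by norm_num) (fun T hT => h.card_compl_cov_three hT)
  rw [h.card_arcsF_three] at key
  omega

/-- The point of intersection of a line `t` with the secant `ln a b`. -/
theorem inter_ln_eq_singleton (h : P4 L) {t : Finset α} (ht : t ∈ L) {a b : α} (hab : a ≠ b)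
    (hne : t ≠ h.ln a b) : ∃ z, t ∩ h.ln a b = {z} :=
  Finset.card_eq_one.mp (h.inter_card ht (h.ln_mem hab) hne)

/-- A tangent line at a point of a 4-arc contains exactly one uncovered point. -/
theorem tangent_uncovered (h : P4 L) {S : Finset α} (hS : S ∈ h.arcsF 4) {p : α} (hp : p ∈ S)
    {t : Finset α} (ht : t ∈ L) (htS : t ∩ S = {p}) : (t \ h.cov S).card = 1 := by
  classical
  obtain ⟨hSc, hSa⟩ := h.mem_arcsF.mp hS
  have hpt : p ∈ t := by
    have : p ∈ t ∩ S := by rw [htS]; exact Finset.mem_singleton_self p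
    exact (Finset.mem_inter.mp this).1
  have hE : (S.erase p).card = 3 := by rw [Finset.card_erase_of_mem hp, hSc]
  obtain ⟨q, r, s, hqr, hqs, hrs, hE'⟩ := Finset.card_eq_three.mp hE
  have hmemE : ∀ x, x ∈ S.erase p ↔ x = q ∨ x = r ∨ x = s := by
    intro x; rw [hE']; simp
  have hq : q ∈ S ∧ q ≠ p := by
    have := (hmemE q).mpr (Or.inl rfl)
    rw [Finset.mem_erase] at this; exact ⟨this.2, this.1⟩
  have hr : r ∈ S ∧ r ≠ p := by
    have := (hmemE r).mpr (Or.inr (Or.inl rfl))
    rw [Finset.mem_erase] at this; exact ⟨this.2, this.1⟩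
  have hs : s ∈ S ∧ s ≠ p := by
    have := (hmemE s).mpr (Or.inr (Or.inr rfl))
    rw [Finset.mem_erase] at this; exact ⟨this.2, this.1⟩
  have hnotin : ∀ x ∈ S, x ≠ p → x ∉ t := by
    intro x hx hxp hxt
    have : x ∈ t ∩ S := Finset.mem_inter.mpr ⟨hxt, hx⟩
    rw [htS, Finset.mem_singleton] at this
    exact hxp this
  have hne : ∀ a ∈ S, ∀ b ∈ S, a ≠ b → b ≠ p → t ≠ h.ln a b := by
    intro a _ b hb hab hbp e
    exact hnotin b hb hbp (e ▸ h.right_mem_ln hab)
  obtain ⟨z1, hz1⟩ := h.inter_ln_eq_singleton ht hqr (hne q hq.1 r hr.1 hqr hr.2)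
  obtain ⟨z2, hz2⟩ := h.inter_ln_eq_singleton ht hqs (hne q hq.1 s hs.1 hqs hs.2)
  obtain ⟨z3, hz3⟩ := h.inter_ln_eq_singleton ht hrs (hne r hr.1 s hs.1 hrs hs.2)
  have m1 : z1 ∈ t ∧ z1 ∈ h.ln q r := by
    have : z1 ∈ t ∩ h.ln q r := by rw [hz1]; exact Finset.mem_singleton_self _
    exact Finset.mem_inter.mp this
  have m2 : z2 ∈ t ∧ z2 ∈ h.ln q s := by
    have : z2 ∈ t ∩ h.ln q s := by rw [hz2]; exact Finset.mem_singleton_self _
    exact Finset.mem_inter.mp this
  have m3 : z3 ∈ t ∧ z3 ∈ h.ln r s := by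
    have : z3 ∈ t ∩ h.ln r s := by rw [hz3]; exact Finset.mem_singleton_self _
    exact Finset.mem_inter.mp this
  -- the covered points of t
  have hcovt : t ∩ h.cov S = {p, z1, z2, z3} := by
    ext x
    rw [Finset.mem_inter, mem_cov]
    simp only [Finset.mem_insert, Finset.mem_singleton]
    constructor
    · rintro ⟨hxt, a, ha, b, hb, hab, hxl⟩
      by_cases hxp : x = p
      · exact Or.inl hxp
      · right
        have hap : a ≠ p := by
          rintro rfl
          have : t = h.ln a b := h.line_ext ht (h.ln_mem hab) hxp hxt hpt hxl (h.left_mem_ln hab)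
          exact hnotin b hb hab.symm (this ▸ h.right_mem_ln hab)
        have hbp : b ≠ p := by
          rintro rfl
          have : t = h.ln a b := h.line_ext ht (h.ln_mem hab) hxp hxt hpt hxl (h.right_mem_ln hab)
          exact hnotin a ha hab (this ▸ h.left_mem_ln hab)
        have ha' := (hmemE a).mp (Finset.mem_erase.mpr ⟨hap, ha⟩)
        have hb' := (hmemE b).mp (Finset.mem_erase.mpr ⟨hbp, hb⟩)
        have key : ∀ (u v z : α), t ∩ h.ln u v = {z} → x ∈ h.ln u v → x = z := by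
          intro u v z hz hx
          have : x ∈ t ∩ h.ln u v := Finset.mem_inter.mpr ⟨hxt, hx⟩
          rw [hz, Finset.mem_singleton] at this
          exact this
        rcases ha' with rfl | rfl | rfl <;> rcases hb' with rfl | rfl | rfl
        · exact absurd rfl hab
        · exact Or.inl (key _ _ _ hz1 hxl)
        · exact Or.inr (Or.inl (key _ _ _ hz2 hxl))
        · rw [h.ln_comm] at hxl; exact Or.inl (key _ _ _ hz1 hxl)
        · exact absurd rfl hab
        · exact Or.inr (Or.inr (key _ _ _ hz3 hxl))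
        · rw [h.ln_comm] at hxl; exact Or.inr (Or.inl (key _ _ _ hz2 hxl))
        · rw [h.ln_comm] at hxl; exact Or.inr (Or.inr (key _ _ _ hz3 hxl))
        · exact absurd rfl hab
    · rintro (rfl | rfl | rfl | rfl)
      · exact ⟨hpt, x, hp, q, hq.1, hq.2.symm, h.left_mem_ln hq.2.symm⟩
      · exact ⟨m1.1, q, hq.1, r, hr.1, hqr, m1.2⟩
      · exact ⟨m2.1, q, hq.1, s, hs.1, hqs, m2.2⟩
      · exact ⟨m3.1, r, hr.1, s, hs.1, hrs, m3.2⟩
  -- distinctness
  have hpl : ∀ a ∈ S, ∀ b ∈ S, a ≠ b → a ≠ p → b ≠ p → p ∉ h.ln a b := by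
    intro a ha b hb hab hap hbp
    exact IsArc.not_mem_ln h hSa ha hb hp hab hap hbp
  have d1 : p ≠ z1 := fun e => hpl q hq.1 r hr.1 hqr hq.2 hr.2 (e ▸ m1.2)
  have d2 : p ≠ z2 := fun e => hpl q hq.1 s hs.1 hqs hq.2 hs.2 (e ▸ m2.2)
  have d3 : p ≠ z3 := fun e => hpl r hr.1 s hs.1 hrs hr.2 hs.2 (e ▸ m3.2)
  have hsq : s ∉ h.ln q r := IsArc.not_mem_ln h hSa hq.1 hr.1 hs.1 hqr hqs hrs
  have hrq : r ∉ h.ln q s := IsArc.not_mem_ln h hSa hq.1 hs.1 hr.1 hqs hqr hrs.symm
  have hqq : q ∉ h.ln r s := IsArc.not_mem_ln h hSa hr.1 hs.1 hq.1 hrs hqr.symm hqs.symm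
  have d4 : z1 ≠ z2 := by
    intro e
    have n : h.ln q r ≠ h.ln q s := fun e' => hsq (e' ▸ h.right_mem_ln hqs)
    have : z1 = q := by
      by_contra hzq
      exact n (h.line_ext (h.ln_mem hqr) (h.ln_mem hqs) hzq m1.2 (h.left_mem_ln hqr)
        (e ▸ m2.2) (h.left_mem_ln hqs))
    exact hnotin q hq.1 hq.2 (this ▸ m1.1)
  have d5 : z1 ≠ z3 := by
    intro e
    have n : h.ln q r ≠ h.ln r s := fun e' => hsq (e' ▸ h.right_mem_ln hrs)
    have : z1 = r := by
      by_contra hzq
      exact n (h.line_ext (h.ln_mem hqr) (h.ln_mem hrs) hzq m1.2 (h.right_mem_ln hqr)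
        (e ▸ m3.2) (h.left_mem_ln hrs))
    exact hnotin r hr.1 hr.2 (this ▸ m1.1)
  have d6 : z2 ≠ z3 := by
    intro e
    have n : h.ln q s ≠ h.ln r s := fun e' => hrq (e' ▸ h.left_mem_ln hrs)
    have : z2 = s := by
      by_contra hzq
      exact n (h.line_ext (h.ln_mem hqs) (h.ln_mem hrs) hzq m2.2 (h.right_mem_ln hqs)
        (e ▸ m3.2) (h.right_mem_ln hrs))
    exact hnotin s hs.1 hs.2 (this ▸ m2.1)
  have hcard4 : ({p, z1, z2, z3} : Finset α).card = 4 := by
    rw [Finset.card_insert_of_notMem, Finset.card_insert_of_notMem, Finset.card_pair d6]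
    · simp only [Finset.mem_insert, Finset.mem_singleton]
      push Not
      exact ⟨d4, d5⟩
    · simp only [Finset.mem_insert, Finset.mem_singleton]
      push Not
      exact ⟨d1, d2, d3⟩
  have := Finset.card_inter_add_card_sdiff t (h.cov S)
  rw [hcovt, hcard4, h.card_line ht] at this
  omega

/-- A 4-arc has exactly two uncovered points. -/
theorem card_uncovered (h : P4 L) {S : Finset α} (hS : S ∈ h.arcsF 4) :
    (Finset.univ \ h.cov S).card = 2 := by
  classical
  obtain ⟨hSc, hSa⟩ := h.mem_arcsF.mp hS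
  have hne : S.Nonempty := by rw [← Finset.card_pos, hSc]; norm_num
  obtain ⟨p, hp⟩ := hne
  have hpc : p ∈ h.cov S := h.subset_cov (by omega) hp
  set Sec : Finset (Finset α) := (S.erase p).image (fun b => h.ln p b) with hSec
  have hSecCard : Sec.card = 3 := by
    rw [hSec, Finset.card_image_of_injOn, Finset.card_erase_of_mem hp, hSc]
    intro b hb b' hb' e
    rw [Finset.mem_coe, Finset.mem_erase] at hb hb'
    by_contra hbb
    have e' : h.ln p b = h.ln p b' := e
    exact IsArc.not_mem_ln h hSa hp hb.2 hb'.2 hb.1.symm hb'.1.symm hbb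
      (e' ▸ h.right_mem_ln hb'.1.symm)
  have hSecSub : Sec ⊆ h.pencil p := by
    intro l hl
    rw [hSec, Finset.mem_image] at hl
    obtain ⟨b, hb, rfl⟩ := hl
    rw [Finset.mem_erase] at hb
    rw [mem_pencil]
    exact ⟨h.ln_mem hb.1.symm, h.left_mem_ln hb.1.symm⟩
  have hTan : (h.pencil p \ Sec).card = 2 := by
    rw [Finset.card_sdiff_of_subset hSecSub, h.card_pencil, hSecCard]
  obtain ⟨t1, t2, ht12, hT⟩ := Finset.card_eq_two.mp hTan
  have htan : ∀ t, t ∈ h.pencil p \ Sec → t ∈ L ∧ p ∈ t ∧ t ∩ S = {p} := by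
    intro t ht
    rw [Finset.mem_sdiff, mem_pencil] at ht
    refine ⟨ht.1.1, ht.1.2, ?_⟩
    ext x
    rw [Finset.mem_inter, Finset.mem_singleton]
    constructor
    · rintro ⟨hxt, hxS⟩
      by_contra hxp
      apply ht.2
      rw [hSec, Finset.mem_image]
      exact ⟨x, Finset.mem_erase.mpr ⟨hxp, hxS⟩,
        (h.eq_ln ht.1.1 (Ne.symm hxp) ht.1.2 hxt).symm⟩
    · rintro rfl; exact ⟨ht.1.2, hp⟩
  have h1 := htan t1 (by rw [hT]; simp)
  have h2 := htan t2 (by rw [hT]; simp)
  have hU : Finset.univ \ h.cov S = (t1 \ h.cov S) ∪ (t2 \ h.cov S) := by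
    ext x
    rw [Finset.mem_union, Finset.mem_sdiff, Finset.mem_sdiff, Finset.mem_sdiff]
    constructor
    · rintro ⟨_, hx⟩
      have hxp : p ≠ x := fun e => hx (e ▸ hpc)
      have hl : h.ln p x ∈ h.pencil p \ Sec := by
        rw [Finset.mem_sdiff, mem_pencil]
        refine ⟨⟨h.ln_mem hxp, h.left_mem_ln hxp⟩, ?_⟩
        intro hmem
        rw [hSec, Finset.mem_image] at hmem
        obtain ⟨b, hb, e⟩ := hmem
        rw [Finset.mem_erase] at hb
        apply hx
        rw [mem_cov]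
        exact ⟨p, hp, b, hb.2, hb.1.symm, e ▸ h.right_mem_ln hxp⟩
      rw [hT, Finset.mem_insert, Finset.mem_singleton] at hl
      rcases hl with e | e
      · exact Or.inl ⟨e ▸ h.right_mem_ln hxp, hx⟩
      · exact Or.inr ⟨e ▸ h.right_mem_ln hxp, hx⟩
    · rintro (⟨_, hx⟩ | ⟨_, hx⟩) <;> exact ⟨Finset.mem_univ x, hx⟩
  have hdisj : Disjoint (t1 \ h.cov S) (t2 \ h.cov S) := by
    rw [Finset.disjoint_left]
    intro x hx1 hx2
    rw [Finset.mem_sdiff] at hx1 hx2
    have hxp : x ≠ p := fun e => hx1.2 (e ▸ hpc)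
    exact ht12 (h.line_ext h1.1 h2.1 hxp hx1.1 h1.2.1 hx2.1 h2.2.1)
  rw [hU, Finset.card_union_of_disjoint hdisj, h.tangent_uncovered hS hp h1.1 h1.2.2,
    h.tangent_uncovered hS hp h2.1 h2.2.2]

/-- Every 4-arc lies in a unique hyperoval. -/
theorem exists_unique_hyperoval (h : P4 L) {S : Finset α} (hS : S ∈ h.arcsF 4) :
    ∃! H, H ∈ h.arcsF 6 ∧ S ⊆ H := by
  classical
  obtain ⟨hSc, hSa⟩ := h.mem_arcsF.mp hS
  have hU := h.card_uncovered hS
  obtain ⟨x, y, hxy, hUe⟩ := Finset.card_eq_two.mp hU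
  have hx : x ∉ h.cov S := by
    have : x ∈ Finset.univ \ h.cov S := by rw [hUe]; simp
    exact (Finset.mem_sdiff.mp this).2
  have hy : y ∉ h.cov S := by
    have : y ∈ Finset.univ \ h.cov S := by rw [hUe]; simp
    exact (Finset.mem_sdiff.mp this).2
  have hsub : S ⊆ h.cov S := h.subset_cov (by omega)
  have hxS : x ∉ S := fun hh => hx (hsub hh)
  have hyS : y ∉ S := fun hh => hy (hsub hh)
  have harc1 : IsArc L (insert x S) := (h.isArc_insert_iff hSa hxS).mpr hx
  have hy1 : y ∉ insert x S := by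
    rw [Finset.mem_insert]; push Not; exact ⟨hxy.symm, hyS⟩
  have hycov : y ∉ h.cov (insert x S) := by
    intro hcov
    obtain ⟨a, ha, b, hb, hab, hyl⟩ := h.mem_cov.mp hcov
    rw [Finset.mem_insert] at ha hb
    -- reduce to the case of a line through x and a point of S
    have key : ∀ b ∈ S, y ∉ h.ln x b := by
      intro b hb hyl
      have hxb : x ≠ b := fun e => hxS (e ▸ hb)
      have htS : h.ln x b ∩ S = {b} := by
        ext c
        rw [Finset.mem_inter, Finset.mem_singleton]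
        constructor
        · rintro ⟨hct, hcS⟩
          by_contra hcb
          apply hx
          rw [mem_cov]
          refine ⟨c, hcS, b, hb, hcb, ?_⟩
          rw [← h.eq_ln (h.ln_mem hxb) hcb hct (h.right_mem_ln hxb)]
          exact h.left_mem_ln hxb
        · rintro rfl; exact ⟨h.right_mem_ln hxb, hb⟩
      have h1 := h.tangent_uncovered hS hb (h.ln_mem hxb) htS
      have h2 : ({x, y} : Finset α) ⊆ h.ln x b \ h.cov S := by
        intro z hz
        rw [Finset.mem_insert, Finset.mem_singleton] at hz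
        rw [Finset.mem_sdiff]
        rcases hz with rfl | rfl
        · exact ⟨h.left_mem_ln hxb, hx⟩
        · exact ⟨hyl, hy⟩
      have := Finset.card_le_card h2
      rw [Finset.card_pair hxy] at this
      omega
    rcases ha with rfl | ha <;> rcases hb with rfl | hb
    · exact hab rfl
    · exact key b hb hyl
    · rw [h.ln_comm] at hyl; exact key a ha hyl
    · apply hy
      rw [mem_cov]
      exact ⟨a, ha, b, hb, hab, hyl⟩
  have harc2 : IsArc L (insert y (insert x S)) := (h.isArc_insert_iff harc1 hy1).mpr hycov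
  refine ⟨insert y (insert x S), ⟨?_, ?_⟩, ?_⟩
  · rw [mem_arcsF]
    refine ⟨?_, harc2⟩
    rw [Finset.card_insert_of_notMem hy1, Finset.card_insert_of_notMem hxS, hSc]
  · intro z hz
    exact Finset.mem_insert_of_mem (Finset.mem_insert_of_mem hz)
  · rintro H' ⟨hH', hSH'⟩
    obtain ⟨hHc, hHa⟩ := h.mem_arcsF.mp hH'
    have hsubU : H' \ S ⊆ Finset.univ \ h.cov S := by
      intro z hz
      rw [Finset.mem_sdiff] at hz
      rw [Finset.mem_sdiff]
      refine ⟨Finset.mem_univ z, ?_⟩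
      intro hcov
      obtain ⟨a, ha, b, hb, hab, hzl⟩ := h.mem_cov.mp hcov
      have hza : a ≠ z := fun e => hz.2 (e ▸ ha)
      have hzb : b ≠ z := fun e => hz.2 (e ▸ hb)
      exact IsArc.not_mem_ln h hHa (hSH' ha) (hSH' hb) hz.1 hab hza hzb hzl
    have hcardd : (H' \ S).card = 2 := by
      rw [Finset.card_sdiff_of_subset hSH', hHc, hSc]
    have heq : H' \ S = Finset.univ \ h.cov S :=
      Finset.eq_of_subset_of_card_le hsubU (by rw [hU, hcardd])
    rw [hUe] at heq
    have : H' = (H' \ S) ∪ S := (Finset.sdiff_union_of_subset hSH').symm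
    rw [this, heq]
    ext z
    simp only [Finset.mem_union, Finset.mem_insert, Finset.mem_singleton]
    tauto

theorem card_arcsF_six (h : P4 L) : (h.arcsF 6).card = 168 := by
  classical
  have e1 : ∀ H ∈ h.arcsF 6, ((h.arcsF 4).filter (fun S => S ⊆ H)).card = 15 := by
    intro H hH
    obtain ⟨hHc, hHa⟩ := h.mem_arcsF.mp hH
    have : (h.arcsF 4).filter (fun S => S ⊆ H) = H.powersetCard 4 := by
      ext S
      rw [Finset.mem_filter, mem_arcsF, Finset.mem_powersetCard]
      constructor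
      · rintro ⟨⟨h1, _⟩, h2⟩; exact ⟨h2, h1⟩
      · rintro ⟨h2, h1⟩; exact ⟨⟨h1, IsArc.subset hHa h2⟩, h2⟩
    rw [this, Finset.card_powersetCard, hHc]
    decide
  have e2 : ∀ S ∈ h.arcsF 4, ((h.arcsF 6).filter (fun H => S ⊆ H)).card = 1 := by
    intro S hS
    obtain ⟨H, ⟨hH, hSH⟩, huniq⟩ := h.exists_unique_hyperoval hS
    rw [Finset.card_eq_one]
    refine ⟨H, ?_⟩
    ext H'
    rw [Finset.mem_filter, Finset.mem_singleton]
    constructor
    · intro hh; exact huniq H' hh
    · rintro rfl; exact ⟨hH, hSH⟩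
  have hsum : ∑ H ∈ h.arcsF 6, ((h.arcsF 4).filter (fun S => S ⊆ H)).card
      = ∑ S ∈ h.arcsF 4, ((h.arcsF 6).filter (fun H => S ⊆ H)).card := by
    simp only [Finset.card_eq_sum_ones, Finset.sum_filter]
    rw [Finset.sum_comm]
  rw [Finset.sum_const_nat e1, Finset.sum_const_nat e2, h.card_arcsF_four] at hsum
  omega

end P4

end Cfsg.Agent.Lib.Helper95
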