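import Mathlib

set_option autoImplicit false

namespace Cfsg.Agent.Lib.Helper95

/-- The fifteen fixed-point-free involutions of `Fin 6`, packed in base 6. -/
def synCode : ℕ := 431915427907881748115410356932975806161192304147568187467563912449325

/-- Table lookup on natural numbers. -/
def synNat (s i : ℕ) : ℕ := synCode / 6 ^ (6 * s + i) % 6

/-- Disjointness check. -/
def dB (s t : ℕ) : Bool := (List.range 6).all fun i => synNat s i != synNat t i

/-- The check for `synTab_total`. -/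
def totalCheck : Bool :=
  (List.range 15).all fun s1 => (List.range 15).all fun s2 => !dB s1 s2 ||
    (List.range 15).all fun s3 => !(dB s1 s3 && dB s2 s3) ||
    (List.range 15).all fun s4 => !(dB s1 s4 && dB s2 s4 && dB s3 s4) ||
    (List.range 15).all fun s3' => !(dB s1 s3' && dB s2 s3') ||
    (List.range 15).all fun s4' => !(dB s1 s4' && dB s2 s4' && dB s3' s4') ||
      (s3 == s3' || dB s3 s3')

theorem totalCheck_eq : totalCheck = true := by decide +kernel

/-- A function on naturals given by six values. -/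
def tupN (a0 a1 a2 a3 a4 a5 : ℕ) (i : ℕ) : ℕ :=
  if i = 0 then a0 else if i = 1 then a1 else if i = 2 then a2 else
    if i = 3 then a3 else if i = 4 then a4 else a5

/-- The check for `synTab_complete`. -/
def complCheck : Bool :=
  (List.range 6).all fun a0 => a0 == 0 ||
  (List.range 6).all fun a1 => a1 == 1 || !((a0 == 1) == (a1 == 0)) ||
  (List.range 6).all fun a2 => a2 == 2 || !((a0 == 2) == (a2 == 0)) || !((a1 == 2) == (a2 == 1)) ||
  (List.range 6).all fun a3 => a3 == 3 || !((a0 == 3) == (a3 == 0)) || !((a1 == 3) == (a3 == 1)) || !((a2 == 3) == (a3 == 2)) ||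
  (List.range 6).all fun a4 => a4 == 4 || !((a0 == 4) == (a4 == 0)) || !((a1 == 4) == (a4 == 1)) || !((a2 == 4) == (a4 == 2)) || !((a3 == 4) == (a4 == 3)) ||
  (List.range 6).all fun a5 => a5 == 5 || !((a0 == 5) == (a5 == 0)) || !((a1 == 5) == (a5 == 1)) || !((a2 == 5) == (a5 == 2)) || !((a3 == 5) == (a5 == 3)) || !((a4 == 5) == (a5 == 4)) ||
    (List.range 15).any fun s => (List.range 6).all fun i => synNat s i == tupN a0 a1 a2 a3 a4 a5 i

theorem complCheck_eq : complCheck = true := by decide +kernel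

theorem synNat_lt (s i : ℕ) : synNat s i < 6 := Nat.mod_lt _ (by norm_num)

/-- The fifteen fixed-point-free involutions of `Fin 6`. -/
def synTab (s : Fin 15) (i : Fin 6) : Fin 6 := ⟨synNat s.val i.val, synNat_lt _ _⟩

theorem beq_eq_beq_of_iff {a b c d : ℕ} (h : a = b ↔ c = d) : (a == b) = (c == d) := by
  rw [Bool.eq_iff_iff, beq_iff_eq, beq_iff_eq]
  exact h

theorem complN : ∀ a0 < 6, a0 ≠ 0 → ∀ a1 < 6, a1 ≠ 1 → (a0 = 1 ↔ a1 = 0) →
    ∀ a2 < 6, a2 ≠ 2 → (a0 = 2 ↔ a2 = 0) → (a1 = 2 ↔ a2 = 1) →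
    ∀ a3 < 6, a3 ≠ 3 → (a0 = 3 ↔ a3 = 0) → (a1 = 3 ↔ a3 = 1) → (a2 = 3 ↔ a3 = 2) →
    ∀ a4 < 6, a4 ≠ 4 → (a0 = 4 ↔ a4 = 0) → (a1 = 4 ↔ a4 = 1) → (a2 = 4 ↔ a4 = 2) →
      (a3 = 4 ↔ a4 = 3) →
    ∀ a5 < 6, a5 ≠ 5 → (a0 = 5 ↔ a5 = 0) → (a1 = 5 ↔ a5 = 1) → (a2 = 5 ↔ a5 = 2) →
      (a3 = 5 ↔ a5 = 3) → (a4 = 5 ↔ a5 = 4) →
    ∃ s < 15, ∀ i < 6, synNat s i = tupN a0 a1 a2 a3 a4 a5 i := by
  have h := complCheck_eq
  simp only [complCheck, List.all_eq_true, List.any_eq_true, List.mem_range, Bool.or_eq_true,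
    Bool.not_eq_true', beq_iff_eq, beq_eq_false_iff_ne, ne_eq] at h
  intro a0 h0 n0 a1 h1 n1 e01 a2 h2 n2 e02 e12 a3 h3 n3 e03 e13 e23 a4 h4 n4 e04 e14 e24 e34
    a5 h5 n5 e05 e15 e25 e35 e45
  have b01 := beq_eq_beq_of_iff e01
  have b02 := beq_eq_beq_of_iff e02
  have b12 := beq_eq_beq_of_iff e12
  have b03 := beq_eq_beq_of_iff e03
  have b13 := beq_eq_beq_of_iff e13
  have b23 := beq_eq_beq_of_iff e23
  have b04 := beq_eq_beq_of_iff e04
  have b14 := beq_eq_beq_of_iff e14
  have b24 := beq_eq_beq_of_iff e24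
  have b34 := beq_eq_beq_of_iff e34
  have b05 := beq_eq_beq_of_iff e05
  have b15 := beq_eq_beq_of_iff e15
  have b25 := beq_eq_beq_of_iff e25
  have b35 := beq_eq_beq_of_iff e35
  have b45 := beq_eq_beq_of_iff e45
  have g0 := (h a0 h0).resolve_left n0
  have g1 := (g0 a1 h1).resolve_left (fun c => c.elim n1 (fun c => c b01))
  have g2 := (g1 a2 h2).resolve_left
    (fun c => c.elim (fun c => c.elim n2 (fun c => c b02)) (fun c => c b12))
  have g3 := (g2 a3 h3).resolve_left
    (fun c => c.elim (fun c => c.elim (fun c => c.elim n3 (fun c => c b03)) (fun c => c b13))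
      (fun c => c b23))
  have g4 := (g3 a4 h4).resolve_left
    (fun c => c.elim (fun c => c.elim (fun c => c.elim (fun c => c.elim n4 (fun c => c b04))
      (fun c => c b14)) (fun c => c b24)) (fun c => c b34))
  exact (g4 a5 h5).resolve_left
    (fun c => c.elim (fun c => c.elim (fun c => c.elim (fun c => c.elim (fun c => c.elim n5
      (fun c => c b05)) (fun c => c b15)) (fun c => c b25)) (fun c => c b35)) (fun c => c b45))

theorem synTab_complete (f : Fin 6 → Fin 6) (hfpf : ∀ i, f i ≠ i) (hinv : ∀ i, f (f i) = i) :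
    ∃ s : Fin 15, ∀ i, synTab s i = f i := by
  have key : ∀ i j : Fin 6, ((f i).val = j.val ↔ (f j).val = i.val) := by
    intro i j
    constructor
    · intro e
      have : f i = j := Fin.ext e
      rw [← this, hinv]
    · intro e
      have : f j = i := Fin.ext e
      rw [← this, hinv]
  have nz : ∀ i : Fin 6, (f i).val ≠ i.val := fun i e => hfpf i (Fin.ext e)
  obtain ⟨s, hs, hsi⟩ := complN (f 0).val (f 0).isLt (nz 0) (f 1).val (f 1).isLt (nz 1) (key 0 1)
    (f 2).val (f 2).isLt (nz 2) (key 0 2) (key 1 2)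
    (f 3).val (f 3).isLt (nz 3) (key 0 3) (key 1 3) (key 2 3)
    (f 4).val (f 4).isLt (nz 4) (key 0 4) (key 1 4) (key 2 4) (key 3 4)
    (f 5).val (f 5).isLt (nz 5) (key 0 5) (key 1 5) (key 2 5) (key 3 5) (key 4 5)
  refine ⟨⟨s, hs⟩, ?_⟩
  intro i
  apply Fin.ext
  show synNat s i.val = (f i).val
  rw [hsi i.val i.isLt]
  fin_cases i <;> rfl

theorem synTab_fpf (s : Fin 15) (i : Fin 6) : synTab s i ≠ i := by
  revert s i; decide +kernel

theorem synTab_invol (s : Fin 15) (i : Fin 6) : synTab s (synTab s i) = i := by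
  revert s i; decide +kernel

/-- Disjointness of two synthemes. -/
def synD (s t : Fin 15) : Prop := ∀ i : Fin 6, synTab s i ≠ synTab t i

theorem dB_iff (s t : Fin 15) : dB s.val t.val = true ↔ synD s t := by
  unfold dB synD
  simp only [List.all_eq_true, List.mem_range, bne_iff_ne, ne_eq]
  constructor
  · intro h i e
    apply h i.val i.isLt
    exact congrArg Fin.val e
  · intro h i hi e
    exact h ⟨i, hi⟩ (Fin.ext e)

theorem synTab_total (s1 s2 : Fin 15) (h12 : synD s1 s2) (s3 : Fin 15) (h13 : synD s1 s3)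
    (h23 : synD s2 s3) (s4 : Fin 15) (h14 : synD s1 s4) (h24 : synD s2 s4) (h34 : synD s3 s4)
    (s3' : Fin 15) (h13' : synD s1 s3') (h23' : synD s2 s3')
    (s4' : Fin 15) (h14' : synD s1 s4') (h24' : synD s2 s4') (h34' : synD s3' s4') :
    s3 = s3' ∨ synD s3 s3' := by
  have h := totalCheck_eq
  simp only [totalCheck, List.all_eq_true, List.mem_range, Bool.or_eq_true,
    Bool.not_eq_true', beq_iff_eq, Bool.and_eq_false_iff] at h
  rw [← dB_iff] at h12 h13 h23 h14 h24 h34 h13' h23' h14' h24' h34' ⊢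
  have g0 := (h s1.val s1.isLt s2.val s2.isLt).resolve_left (by simp [h12])
  have g1 := (g0 s3.val s3.isLt).resolve_left (by simp [h13, h23])
  have g2 := (g1 s4.val s4.isLt).resolve_left (by simp [h14, h24, h34])
  have g3 := (g2 s3'.val s3'.isLt).resolve_left (by simp [h13', h23'])
  have g4 := (g3 s4'.val s4'.isLt).resolve_left (by simp [h14', h24', h34'])
  rcases g4 with e | e
  · left; exact Fin.ext e
  · right; exact e

theorem synD_symm {s t : Fin 15} (h : synD s t) : synD t s := fun i e => h i e.symm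

end Cfsg.Agent.Lib.Helper95
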