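import Mathlib
import Cfsg.Prelude.Def_Sporadic_a
import Cfsg.Agent.Lib.Helper95.Plane4Arc
import Cfsg.Agent.Lib.Helper95.Syntheme

set_option autoImplicit false

namespace Cfsg.Agent.Lib.Helper95

open Finset

namespace P4

variable {α : Type*} [Fintype α] [DecidableEq α] {L : Set (Finset α)}

/-- A labelled hyperoval: six points, no three collinear. -/
structure LHyp (L : Set (Finset α)) (pt : Fin 6 → α) : Prop where
  inj : Function.Injective pt
  arc : IsArc L (Finset.univ.image pt)

variable {pt : Fin 6 → α}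

theorem LHyp.not_collinear (h : P4 L) (hh : LHyp L pt) {l : Finset α} (hl : l ∈ L) {i j k : Fin 6}
    (hi : pt i ∈ l) (hj : pt j ∈ l) (hk : pt k ∈ l) (hij : i ≠ j) (hik : i ≠ k) : j = k := by
  by_contra hjk
  have hpij : pt i ≠ pt j := fun e => hij (hh.inj e)
  have hpik : pt i ≠ pt k := fun e => hik (hh.inj e)
  have hpjk : pt j ≠ pt k := fun e => hjk (hh.inj e)
  have := IsArc.not_mem_ln h hh.arc (Finset.mem_image_of_mem pt (Finset.mem_univ i))
    (Finset.mem_image_of_mem pt (Finset.mem_univ j))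
    (Finset.mem_image_of_mem pt (Finset.mem_univ k)) hpij hpik hpjk
  rw [← h.eq_ln hl hpij hi hj] at this
  exact this hk

/-- Every line through a point of a hyperoval contains a second point of it. -/
theorem LHyp.second (h : P4 L) (hh : LHyp L pt) {l : Finset α} (hl : l ∈ L) {i : Fin 6}
    (hi : pt i ∈ l) : ∃ j, j ≠ i ∧ pt j ∈ l := by
  classical
  have hQ : (((Finset.univ : Finset (Fin 6)).erase i).image pt).card = 5 := by
    rw [Finset.card_image_of_injective _ hh.inj, Finset.card_erase_of_mem (Finset.mem_univ i)]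
    simp
  have hp : pt i ∉ ((Finset.univ : Finset (Fin 6)).erase i).image pt := by
    intro hmem
    rw [Finset.mem_image] at hmem
    obtain ⟨j, hj, e⟩ := hmem
    rw [Finset.mem_erase] at hj
    exact hj.1 (hh.inj e)
  obtain ⟨q, hq, rfl⟩ := h.pencil_meets (pt i) _ hQ hp (by
    intro q hq q' hq' e
    rw [Finset.mem_image] at hq hq'
    obtain ⟨j, hj, rfl⟩ := hq
    obtain ⟨j', hj', rfl⟩ := hq'
    rw [Finset.mem_erase] at hj hj'
    have hij : pt i ≠ pt j := fun e => hj.1 (hh.inj e).symm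
    have hij' : pt i ≠ pt j' := fun e => hj'.1 (hh.inj e).symm
    have : j = j' := hh.not_collinear h (h.ln_mem hij) (h.left_mem_ln hij) (h.right_mem_ln hij)
      (e ▸ h.right_mem_ln hij') hj.1.symm hj'.1.symm
    rw [this]) hl hi
  rw [Finset.mem_image] at hq
  obtain ⟨j, hj, rfl⟩ := hq
  rw [Finset.mem_erase] at hj
  have hij : pt i ≠ pt j := fun e => hj.1 (hh.inj e).symm
  exact ⟨j, hj.1, h.right_mem_ln hij⟩

open Classical in
/-- The syntheme of a point off the hyperoval, as a function on labels. -/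
noncomputable def syn (h : P4 L) (pt : Fin 6 → α) (x : α) (i : Fin 6) : Fin 6 :=
  if hx : ∃ j, j ≠ i ∧ pt j ∈ h.ln x (pt i) then Classical.choose hx else i

theorem LHyp.syn_spec (h : P4 L) (hh : LHyp L pt) {x : α} (hx : ∀ i, pt i ≠ x) (i : Fin 6) :
    h.syn pt x i ≠ i ∧ pt (h.syn pt x i) ∈ h.ln x (pt i) := by
  have hex : ∃ j, j ≠ i ∧ pt j ∈ h.ln x (pt i) :=
    hh.second h (h.ln_mem (hx i).symm) (h.right_mem_ln (hx i).symm)
  unfold syn
  rw [dif_pos hex]
  exact Classical.choose_spec hex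

theorem LHyp.syn_unique (h : P4 L) (hh : LHyp L pt) {x : α} (hx : ∀ i, pt i ≠ x) {i j : Fin 6}
    (hji : j ≠ i) (hj : pt j ∈ h.ln x (pt i)) : j = h.syn pt x i := by
  have hs := hh.syn_spec h hx i
  exact hh.not_collinear h (h.ln_mem (hx i).symm) (h.right_mem_ln (hx i).symm) hj hs.2 hji.symm
    hs.1.symm

theorem LHyp.ln_syn (h : P4 L) (hh : LHyp L pt) {x : α} (hx : ∀ i, pt i ≠ x) (i : Fin 6) :
    h.ln x (pt (h.syn pt x i)) = h.ln x (pt i) := by
  have hs := hh.syn_spec h hx i
  exact (h.eq_ln (h.ln_mem (hx i).symm) (hx _).symm (h.left_mem_ln (hx i).symm) hs.2).symm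

theorem LHyp.syn_invol (h : P4 L) (hh : LHyp L pt) {x : α} (hx : ∀ i, pt i ≠ x) (i : Fin 6) :
    h.syn pt x (h.syn pt x i) = i := by
  have hs := hh.syn_spec h hx i
  symm
  apply hh.syn_unique h hx hs.1.symm
  rw [hh.ln_syn h hx i]
  exact h.right_mem_ln (hx i).symm

/-- The secant through `x` and `pt i` is the line through `pt i` and its partner. -/
theorem LHyp.ln_eq_secant (h : P4 L) (hh : LHyp L pt) {x : α} (hx : ∀ i, pt i ≠ x) (i : Fin 6) :
    h.ln x (pt i) = h.ln (pt i) (pt (h.syn pt x i)) := by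
  have hs := hh.syn_spec h hx i
  have hne : pt i ≠ pt (h.syn pt x i) := fun e => hs.1 (hh.inj e).symm
  exact h.eq_ln (h.ln_mem (hx i).symm) hne (h.right_mem_ln (hx i).symm) hs.2

/-- Points off the hyperoval with the same syntheme coincide. -/
theorem LHyp.syn_injective (h : P4 L) (hh : LHyp L pt) {x y : α} (hx : ∀ i, pt i ≠ x)
    (hy : ∀ i, pt i ≠ y) (hxy : h.syn pt x = h.syn pt y) : x = y := by
  by_contra hne
  have hsec : ∀ i, y ∈ h.ln x (pt i) := by
    intro i
    rw [hh.ln_eq_secant h hx i, hxy, ← hh.ln_eq_secant h hy i]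
    exact h.left_mem_ln (hy i).symm
  -- a label k different from 0 and syn x 0
  obtain ⟨k, hk0, hk1⟩ : ∃ k : Fin 6, k ≠ 0 ∧ k ≠ h.syn pt x 0 := by
    by_contra hcon
    push Not at hcon
    have h1 := hcon 1 (by decide)
    have h2 := hcon 2 (by decide)
    rw [← h1] at h2
    exact absurd h2 (by decide)
  have hlines : h.ln x (pt 0) = h.ln x (pt k) :=
    h.line_ext (h.ln_mem (hx 0).symm) (h.ln_mem (hx k).symm) hne (h.left_mem_ln (hx 0).symm)
      (hsec 0) (h.left_mem_ln (hx k).symm) (hsec k)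
  have : k = h.syn pt x 0 := hh.syn_unique h hx hk0 (hlines ▸ h.right_mem_ln (hx k).symm)
  exact hk1 this

open Classical in
/-- The index of the syntheme of a point off the hyperoval. -/
noncomputable def idx (h : P4 L) (pt : Fin 6 → α) (x : α) : Fin 15 :=
  if hx : ∃ s : Fin 15, ∀ i, synTab s i = h.syn pt x i then Classical.choose hx else 0

theorem LHyp.idx_spec (h : P4 L) (hh : LHyp L pt) {x : α} (hx : ∀ i, pt i ≠ x) (i : Fin 6) :
    synTab (h.idx pt x) i = h.syn pt x i := by
  have hex : ∃ s : Fin 15, ∀ i, synTab s i = h.syn pt x i :=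
    synTab_complete (h.syn pt x) (fun i => (hh.syn_spec h hx i).1) (hh.syn_invol h hx)
  unfold idx
  rw [dif_pos hex]
  exact Classical.choose_spec hex i

theorem LHyp.idx_injective (h : P4 L) (hh : LHyp L pt) {x y : α} (hx : ∀ i, pt i ≠ x)
    (hy : ∀ i, pt i ≠ y) (hxy : h.idx pt x = h.idx pt y) : x = y := by
  apply hh.syn_injective h hx hy
  funext i
  rw [← hh.idx_spec h hx i, ← hh.idx_spec h hy i, hxy]

open Classical in
/-- The map to the standard model. -/
noncomputable def toStd (h : P4 L) (pt : Fin 6 → α) (x : α) : Fin 6 ⊕ Fin 15 :=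
  if hx : ∃ i, pt i = x then Sum.inl (Classical.choose hx) else Sum.inr (h.idx pt x)

theorem LHyp.toStd_pt (h : P4 L) (hh : LHyp L pt) (i : Fin 6) : h.toStd pt (pt i) = Sum.inl i := by
  have hex : ∃ j, pt j = pt i := ⟨i, rfl⟩
  unfold toStd
  rw [dif_pos hex]
  congr 1
  exact hh.inj (Classical.choose_spec hex)

theorem toStd_off (h : P4 L) {x : α} (hx : ∀ i, pt i ≠ x) :
    h.toStd pt x = Sum.inr (h.idx pt x) := by
  have hex : ¬ ∃ j, pt j = x := by
    rintro ⟨j, hj⟩; exact hx j hj
  unfold toStd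
  rw [dif_neg hex]

theorem LHyp.toStd_eq_inl (h : P4 L) (hh : LHyp L pt) {x : α} {i : Fin 6}
    (e : h.toStd pt x = Sum.inl i) : x = pt i := by
  by_cases hx : ∃ j, pt j = x
  · obtain ⟨j, rfl⟩ := hx
    rw [hh.toStd_pt h] at e
    rw [Sum.inl.inj e]
  · push Not at hx
    rw [toStd_off h hx] at e
    exact absurd e (by simp)

theorem LHyp.toStd_eq_inr (h : P4 L) (hh : LHyp L pt) {x : α} {s : Fin 15}
    (e : h.toStd pt x = Sum.inr s) : (∀ i, pt i ≠ x) ∧ h.idx pt x = s := by
  by_cases hx : ∃ j, pt j = x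
  · obtain ⟨j, rfl⟩ := hx
    rw [hh.toStd_pt h] at e
    exact absurd e (by simp)
  · push Not at hx
    rw [toStd_off h hx] at e
    exact ⟨hx, Sum.inr.inj e⟩

theorem LHyp.toStd_injective (h : P4 L) (hh : LHyp L pt) : Function.Injective (h.toStd pt) := by
  intro x y e
  rcases hxs : h.toStd pt x with i | s
  · rw [hxs] at e
    rw [hh.toStd_eq_inl h hxs, hh.toStd_eq_inl h e.symm]
  · rw [hxs] at e
    obtain ⟨hx, hix⟩ := hh.toStd_eq_inr h hxs
    obtain ⟨hy, hiy⟩ := hh.toStd_eq_inr h e.symm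
    exact hh.idx_injective h hx hy (hix.trans hiy.symm)

theorem LHyp.toStd_bijective (h : P4 L) (hh : LHyp L pt) : Function.Bijective (h.toStd pt) := by
  rw [Fintype.bijective_iff_injective_and_card]
  refine ⟨hh.toStd_injective h, ?_⟩
  rw [h.card]
  simp

/-- The equivalence with the standard point set. -/
noncomputable def LHyp.equiv (h : P4 L) (hh : LHyp L pt) : α ≃ Fin 6 ⊕ Fin 15 :=
  Equiv.ofBijective (h.toStd pt) (hh.toStd_bijective h)

theorem LHyp.equiv_apply (h : P4 L) (hh : LHyp L pt) (x : α) : hh.equiv h x = h.toStd pt x := rfl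

/-- The standard secant line through labels `i`, `j`. -/
def stdSec (i j : Fin 6) : Finset (Fin 6 ⊕ Fin 15) :=
  {Sum.inl i, Sum.inl j} ∪ (Finset.univ.filter (fun s : Fin 15 => synTab s i = j)).image Sum.inr

/-- The standard lines: secants and totals. -/
def StdL : Set (Finset (Fin 6 ⊕ Fin 15)) :=
  {b | (∃ i j : Fin 6, i ≠ j ∧ b = stdSec i j) ∨
    (∃ T : Finset (Fin 15), T.card = 5 ∧ (∀ s ∈ T, ∀ t ∈ T, s ≠ t → synD s t) ∧
      b = T.image Sum.inr)}

/-- The image of a secant. -/
theorem LHyp.image_secant (h : P4 L) (hh : LHyp L pt) {l : Finset α} (hl : l ∈ L) {i j : Fin 6}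
    (hij : i ≠ j) (hi : pt i ∈ l) (hj : pt j ∈ l) : l.image (h.toStd pt) = stdSec i j := by
  ext y
  rw [Finset.mem_image]
  unfold stdSec
  simp only [Finset.mem_union, Finset.mem_insert, Finset.mem_singleton, Finset.mem_image,
    Finset.mem_filter, Finset.mem_univ, true_and]
  constructor
  · rintro ⟨x, hxl, rfl⟩
    by_cases hx : ∃ k, pt k = x
    · obtain ⟨k, rfl⟩ := hx
      left
      rw [hh.toStd_pt h]
      by_cases hki : k = i
      · left; rw [hki]
      · right
        have : j = k := hh.not_collinear h hl hi hj hxl hij (Ne.symm hki)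
        rw [this]
    · push Not at hx
      right
      refine ⟨h.idx pt x, ?_, (toStd_off h hx).symm⟩
      rw [hh.idx_spec h hx i]
      symm
      apply hh.syn_unique h hx hij.symm
      rw [← h.eq_ln hl (hx i).symm hxl hi]
      exact hj
  · rintro ((rfl | rfl) | ⟨s, hs, rfl⟩)
    · exact ⟨pt i, hi, hh.toStd_pt h i⟩
    · exact ⟨pt j, hj, hh.toStd_pt h j⟩
    · obtain ⟨x, hx⟩ := (hh.toStd_bijective h).2 (Sum.inr s)
      obtain ⟨hxo, hxi⟩ := hh.toStd_eq_inr h hx
      refine ⟨x, ?_, hx⟩
      have h1 := hh.syn_spec h hxo i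
      rw [← hh.idx_spec h hxo i, hxi, hs] at h1
      have hpij : pt i ≠ pt j := fun e => hij (hh.inj e)
      have : h.ln x (pt i) = l :=
        h.line_ext (h.ln_mem (hxo i).symm) hl hpij (h.right_mem_ln (hxo i).symm) h1.2 hi hj
      rw [← this]
      exact h.left_mem_ln (hxo i).symm

omit [Fintype α] [DecidableEq α] in
theorem off_of_external {l : Finset α} (hext : ∀ i, pt i ∉ l) {x : α}
    (hx : x ∈ l) : ∀ i, pt i ≠ x := fun i e => hext i (e ▸ hx)

/-- Two points on a line missing the hyperoval have disjoint synthemes. -/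
theorem LHyp.synD_of_external (h : P4 L) (hh : LHyp L pt) {l : Finset α} (hl : l ∈ L)
    (hext : ∀ i, pt i ∉ l) {x y : α} (hx : x ∈ l) (hy : y ∈ l) (hxy : x ≠ y) :
    synD (h.idx pt x) (h.idx pt y) := by
  have hxo := off_of_external hext hx
  have hyo := off_of_external hext hy
  intro i e
  rw [hh.idx_spec h hxo i, hh.idx_spec h hyo i] at e
  have e1 : h.ln x (pt i) = h.ln y (pt i) := by
    rw [hh.ln_eq_secant h hxo i, hh.ln_eq_secant h hyo i, e]
  have : h.ln x (pt i) = l :=
    h.line_ext (h.ln_mem (hxo i).symm) hl hxy (h.left_mem_ln (hxo i).symm)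
      (e1 ▸ h.left_mem_ln (hyo i).symm) hx hy
  exact hext i (this ▸ h.right_mem_ln (hxo i).symm)

/-- The image of a line missing the hyperoval. -/
theorem LHyp.image_external (h : P4 L) (hh : LHyp L pt) {l : Finset α} (hl : l ∈ L)
    (hext : ∀ i, pt i ∉ l) :
    ∃ T : Finset (Fin 15), T.card = 5 ∧ (∀ s ∈ T, ∀ t ∈ T, s ≠ t → synD s t) ∧
      l.image (h.toStd pt) = T.image Sum.inr := by
  refine ⟨l.image (h.idx pt), ?_, ?_, ?_⟩
  · rw [Finset.card_image_of_injOn, h.card_line hl]
    intro x hx y hy e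
    exact hh.idx_injective h (off_of_external hext hx) (off_of_external hext hy) e
  · intro s hs t ht hst
    rw [Finset.mem_image] at hs ht
    obtain ⟨x, hx, rfl⟩ := hs
    obtain ⟨y, hy, rfl⟩ := ht
    exact hh.synD_of_external h hl hext hx hy (fun e => hst (by rw [e]))
  · rw [Finset.image_image]
    apply Finset.image_congr
    intro x hx
    exact toStd_off h (off_of_external hext hx)

end P4

theorem card_le_five_of_pairwise (F : Finset (Fin 15))
    (hp : ∀ s ∈ F, ∀ t ∈ F, s ≠ t → synD s t) : F.card ≤ 5 := by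
  have hinj : Set.InjOn (fun s => synTab s 0) (F : Set (Fin 15)) := by
    intro s hs t ht e
    by_contra hst
    exact hp s hs t ht hst 0 e
  rw [← Finset.card_image_of_injOn hinj]
  have hsub : F.image (fun s => synTab s 0) ⊆ (Finset.univ : Finset (Fin 6)).erase 0 := by
    intro a ha
    rw [Finset.mem_image] at ha
    obtain ⟨s, _, rfl⟩ := ha
    rw [Finset.mem_erase]
    exact ⟨synTab_fpf s 0, Finset.mem_univ _⟩
  have := Finset.card_le_card hsub
  rw [Finset.card_erase_of_mem (Finset.mem_univ _)] at this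
  simpa using this

/-- Two totals sharing two synthemes coincide. -/
theorem totals_eq (T T' : Finset (Fin 15)) (hT : T.card = 5) (hT' : T'.card = 5)
    (hp : ∀ s ∈ T, ∀ t ∈ T, s ≠ t → synD s t) (hp' : ∀ s ∈ T', ∀ t ∈ T', s ≠ t → synD s t)
    {s1 s2 : Fin 15} (h1 : s1 ∈ T) (h2 : s2 ∈ T) (h1' : s1 ∈ T') (h2' : s2 ∈ T') (hne : s1 ≠ s2) :
    T = T' := by
  have claim : ∀ u ∈ T, ∀ u' ∈ T', u ≠ u' → synD u u' := by
    intro u hu u' hu' huu
    by_cases e1 : u = s1
    · rw [e1] at huu ⊢; exact hp' s1 h1' u' hu' huu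
    by_cases e2 : u = s2
    · rw [e2] at huu ⊢; exact hp' s2 h2' u' hu' huu
    by_cases e1' : u' = s1
    · rw [e1'] at huu ⊢; exact hp u hu s1 h1 huu
    by_cases e2' : u' = s2
    · rw [e2'] at huu ⊢; exact hp u hu s2 h2 huu
    obtain ⟨s4, hs4, hs4n⟩ : ∃ x ∈ T, x ∉ ({s1, s2, u} : Finset (Fin 15)) := by
      apply Finset.exists_mem_notMem_of_card_lt_card
      have := Finset.card_le_three (a := s1) (b := s2) (c := u)
      omega
    obtain ⟨s4', hs4', hs4n'⟩ : ∃ x ∈ T', x ∉ ({s1, s2, u'} : Finset (Fin 15)) := by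
      apply Finset.exists_mem_notMem_of_card_lt_card
      have := Finset.card_le_three (a := s1) (b := s2) (c := u')
      omega
    simp only [Finset.mem_insert, Finset.mem_singleton, not_or] at hs4n hs4n'
    have := synTab_total s1 s2 (hp s1 h1 s2 h2 hne) u (hp s1 h1 u hu (Ne.symm e1))
      (hp s2 h2 u hu (Ne.symm e2)) s4 (hp s1 h1 s4 hs4 (Ne.symm hs4n.1))
      (hp s2 h2 s4 hs4 (Ne.symm hs4n.2.1)) (hp u hu s4 hs4 (Ne.symm hs4n.2.2))
      u' (hp' s1 h1' u' hu' (Ne.symm e1')) (hp' s2 h2' u' hu' (Ne.symm e2'))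
      s4' (hp' s1 h1' s4' hs4' (Ne.symm hs4n'.1)) (hp' s2 h2' s4' hs4' (Ne.symm hs4n'.2.1))
      (hp' u' hu' s4' hs4' (Ne.symm hs4n'.2.2))
    exact this.resolve_left huu
  have hunion : ∀ s ∈ T ∪ T', ∀ t ∈ T ∪ T', s ≠ t → synD s t := by
    intro s hs t ht hst
    rw [Finset.mem_union] at hs ht
    rcases hs with hs | hs <;> rcases ht with ht | ht
    · exact hp s hs t ht hst
    · exact claim s hs t ht hst
    · exact synD_symm (claim t ht s hs (Ne.symm hst))
    · exact hp' s hs t ht hst
  have hc := card_le_five_of_pairwise (T ∪ T') hunion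
  have e1 : T = T ∪ T' := Finset.eq_of_subset_of_card_le Finset.subset_union_left (by omega)
  have e2 : T' = T ∪ T' := Finset.eq_of_subset_of_card_le Finset.subset_union_right (by omega)
  rw [e1]; exact e2.symm

namespace P4

variable {α : Type*} [Fintype α] [DecidableEq α] {L : Set (Finset α)} {pt : Fin 6 → α}

/-- The standard model: the image of the lines is the standard line set. -/
theorem LHyp.image_lines (h : P4 L) (hh : LHyp L pt) :
    (fun b : Finset α => b.image (h.toStd pt)) '' L = StdL := by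
  ext b
  constructor
  · rintro ⟨l, hl, rfl⟩
    by_cases hex : ∃ i, pt i ∈ l
    · obtain ⟨i, hi⟩ := hex
      obtain ⟨j, hji, hj⟩ := hh.second h hl hi
      left
      exact ⟨i, j, hji.symm, hh.image_secant h hl hji.symm hi hj⟩
    · push Not at hex
      right
      exact hh.image_external h hl hex
  · rintro (⟨i, j, hij, rfl⟩ | ⟨T, hT, hp, rfl⟩)
    · have hpij : pt i ≠ pt j := fun e => hij (hh.inj e)
      exact ⟨h.ln (pt i) (pt j), h.ln_mem hpij,
        hh.image_secant h (h.ln_mem hpij) hij (h.left_mem_ln hpij) (h.right_mem_ln hpij)⟩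
    · obtain ⟨s1, hs1, s2, hs2, hne⟩ := Finset.one_lt_card.mp (by omega : 1 < T.card)
      obtain ⟨x1, hx1⟩ := (hh.toStd_bijective h).2 (Sum.inr s1)
      obtain ⟨x2, hx2⟩ := (hh.toStd_bijective h).2 (Sum.inr s2)
      have hx12 : x1 ≠ x2 := by
        rintro rfl
        rw [hx1] at hx2
        exact hne (Sum.inr.inj hx2)
      have hm := h.ln_mem hx12
      have hext : ∀ i, pt i ∉ h.ln x1 x2 := by
        intro i hi
        obtain ⟨j, hji, hj⟩ := hh.second h hm hi
        have himg := hh.image_secant h hm hji.symm hi hj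
        have m1 : Sum.inr s1 ∈ stdSec i j := by
          rw [← himg, ← hx1]
          exact Finset.mem_image_of_mem _ (h.left_mem_ln hx12)
        have m2 : Sum.inr s2 ∈ stdSec i j := by
          rw [← himg, ← hx2]
          exact Finset.mem_image_of_mem _ (h.right_mem_ln hx12)
        unfold stdSec at m1 m2
        simp only [Finset.mem_union, Finset.mem_insert, Finset.mem_singleton, Finset.mem_image,
          Finset.mem_filter, Finset.mem_univ, true_and, reduceCtorEq, or_self, false_or,
          Sum.inr.injEq, exists_eq_right] at m1 m2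
        exact hp s1 hs1 s2 hs2 hne i (m1.trans m2.symm)
      obtain ⟨T', hT', hp', himg⟩ := hh.image_external h hm hext
      have m1 : s1 ∈ T' := by
        have : Sum.inr s1 ∈ T'.image (Sum.inr : Fin 15 → Fin 6 ⊕ Fin 15) := by
          rw [← himg, ← hx1]
          exact Finset.mem_image_of_mem _ (h.left_mem_ln hx12)
        rw [Finset.mem_image] at this
        obtain ⟨t, ht, e⟩ := this
        rw [← Sum.inr.inj e]; exact ht
      have m2 : s2 ∈ T' := by
        have : Sum.inr s2 ∈ T'.image (Sum.inr : Fin 15 → Fin 6 ⊕ Fin 15) := by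
          rw [← himg, ← hx2]
          exact Finset.mem_image_of_mem _ (h.right_mem_ln hx12)
        rw [Finset.mem_image] at this
        obtain ⟨t, ht, e⟩ := this
        rw [← Sum.inr.inj e]; exact ht
      have := totals_eq T T' hT hT' hp hp' hs1 hs2 m1 m2 hne
      exact ⟨h.ln x1 x2, hm, by rw [this]; exact himg⟩

omit [Fintype α] in
/-- Labelled hyperovals from hyperovals. -/
theorem LHyp.of_hyperoval {H : Finset α} (harc : IsArc L H) (e : ↥H ≃ Fin 6) :
    LHyp L (fun i => ((e.symm i : ↥H) : α)) := by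
  refine ⟨?_, ?_⟩
  · intro i j hij
    exact e.symm.injective (Subtype.ext hij)
  · have : (Finset.univ.image (fun i => ((e.symm i : ↥H) : α))) = H := by
      ext x
      rw [Finset.mem_image]
      constructor
      · rintro ⟨i, _, rfl⟩
        exact (e.symm i).2
      · intro hx
        exact ⟨e ⟨x, hx⟩, Finset.mem_univ _, by rw [Equiv.symm_apply_apply]⟩
    rw [this]
    exact harc

theorem exists_LHyp (h : P4 L) : ∃ pt : Fin 6 → α, LHyp L pt := by
  have h4 : (h.arcsF 4).Nonempty := by
    rw [← Finset.card_pos, h.card_arcsF_four]; norm_num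
  obtain ⟨S, hS⟩ := h4
  obtain ⟨H, ⟨hH, _⟩, _⟩ := h.exists_unique_hyperoval hS
  obtain ⟨hHc, hHa⟩ := h.mem_arcsF.mp hH
  exact ⟨_, LHyp.of_hyperoval hHa (Finset.equivFinOfCardEq hHc)⟩

end P4

/-- Two set systems with equivalences onto the same set system are isomorphic. -/
theorem image_trans_symm {α β γ : Type*} [DecidableEq α] [DecidableEq β] [DecidableEq γ]
    {L : Set (Finset α)} {L' : Set (Finset β)} {S : Set (Finset γ)} (E : α ≃ γ) (E' : β ≃ γ)
    (hE : (fun b : Finset α => b.image E) '' L = S)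
    (hE' : (fun b : Finset β => b.image E') '' L' = S) :
    (fun b : Finset α => b.image (E.trans E'.symm)) '' L = L' := by
  have key : ∀ (l : Finset α) (l' : Finset β), l.image E = l'.image E' →
      l.image (E.trans E'.symm) = l' := by
    intro l l' e
    have : l.image (E.trans E'.symm) = (l.image E).image E'.symm := by
      rw [Finset.image_image]; rfl
    rw [this, e, Finset.image_image]
    have : (E'.symm ∘ E' : β → β) = id := by
      funext x; simp
    rw [this, Finset.image_id]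
  ext c
  constructor
  · rintro ⟨l, hl, rfl⟩
    have h1 : l.image E ∈ S := by rw [← hE]; exact ⟨l, hl, rfl⟩
    rw [← hE'] at h1
    obtain ⟨l', hl', e⟩ := h1
    have := key l l' e.symm
    show l.image (E.trans E'.symm) ∈ L'
    rw [this]; exact hl'
  · intro hc
    have h1 : c.image E' ∈ S := by rw [← hE']; exact ⟨c, hc, rfl⟩
    rw [← hE] at h1
    obtain ⟨l, hl, e⟩ := h1
    exact ⟨l, hl, key l c e⟩

open scoped Pointwise in
theorem mem_setSystemAut_iff {α : Type*} [DecidableEq α] (L : Set (Finset α))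
    (g : Equiv.Perm α) :
    g ∈ Cfsg.setSystemAut L ↔ (fun b : Finset α => b.image g) '' L = L := by
  rw [MulAction.mem_stabilizer_iff]
  rfl

namespace P4

variable {α : Type*} [Fintype α] [DecidableEq α] {L : Set (Finset α)} {pt : Fin 6 → α}

/-- All planes of order four are isomorphic. -/
theorem iso {β : Type*} [Fintype β] [DecidableEq β] {L' : Set (Finset β)} (h : P4 L)
    (h' : P4 L') : Cfsg.SetSystemIso L L' := by
  obtain ⟨pt, hh⟩ := h.exists_LHyp
  obtain ⟨pt', hh'⟩ := h'.exists_LHyp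
  exact ⟨(hh.equiv h).trans (hh'.equiv h').symm,
    image_trans_symm (hh.equiv h) (hh'.equiv h') (hh.image_lines h) (hh'.image_lines h')⟩

omit [Fintype α] in
theorem image_mem_of_aut {g : Equiv.Perm α}
    (hg : (fun b : Finset α => b.image g) '' L = L) {l : Finset α} (hl : l ∈ L) :
    l.image g ∈ L := by
  rw [← hg]; exact ⟨l, hl, rfl⟩

/-- An automorphism is determined by its values on a hyperoval. -/
theorem LHyp.aut_unique (h : P4 L) (hh : LHyp L pt) (g1 g2 : Equiv.Perm α)
    (hg1 : (fun b : Finset α => b.image g1) '' L = L)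
    (hg2 : (fun b : Finset α => b.image g2) '' L = L)
    (hagree : ∀ i, g1 (pt i) = g2 (pt i)) : g1 = g2 := by
  apply Equiv.ext
  intro x
  by_cases hx : ∃ i, pt i = x
  · obtain ⟨i, rfl⟩ := hx
    exact hagree i
  · push Not at hx
    by_contra hne
    have himg : ∀ i, (h.ln x (pt i)).image g1 = (h.ln x (pt i)).image g2 := by
      intro i
      have hs := hh.syn_spec h hx i
      have hl := h.ln_mem (hx i).symm
      have hne' : g1 (pt i) ≠ g1 (pt (h.syn pt x i)) :=
        fun e => hs.1 (hh.inj (g1.injective e)).symm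
      apply h.line_ext (image_mem_of_aut hg1 hl) (image_mem_of_aut hg2 hl) hne'
      · exact Finset.mem_image_of_mem _ (h.right_mem_ln (hx i).symm)
      · exact Finset.mem_image_of_mem _ hs.2
      · rw [hagree i]; exact Finset.mem_image_of_mem _ (h.right_mem_ln (hx i).symm)
      · rw [hagree _]; exact Finset.mem_image_of_mem _ hs.2
    obtain ⟨k, hk0, hk1⟩ : ∃ k : Fin 6, k ≠ 0 ∧ k ≠ h.syn pt x 0 := by
      by_contra hcon
      push Not at hcon
      have h1 := hcon 1 (by decide)
      have h2 := hcon 2 (by decide)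
      rw [← h1] at h2
      exact absurd h2 (by decide)
    have hlines : (h.ln x (pt 0)).image g1 = (h.ln x (pt k)).image g1 := by
      apply h.line_ext (image_mem_of_aut hg1 (h.ln_mem (hx 0).symm))
        (image_mem_of_aut hg1 (h.ln_mem (hx k).symm)) hne
      · exact Finset.mem_image_of_mem _ (h.left_mem_ln (hx 0).symm)
      · rw [himg 0]; exact Finset.mem_image_of_mem _ (h.left_mem_ln (hx 0).symm)
      · exact Finset.mem_image_of_mem _ (h.left_mem_ln (hx k).symm)
      · rw [himg k]; exact Finset.mem_image_of_mem _ (h.left_mem_ln (hx k).symm)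
    have hlines' : h.ln x (pt 0) = h.ln x (pt k) :=
      Finset.image_injective g1.injective hlines
    have : k = h.syn pt x 0 := hh.syn_unique h hx hk0 (hlines' ▸ h.right_mem_ln (hx k).symm)
    exact hk1 this

/-- Every permutation of a hyperoval extends uniquely to an automorphism. -/
theorem hyperoval_extension (h : P4 L) (H : Finset α) (hc : H.card = 6) (harc : IsArc L H)
    (σ : Equiv.Perm ↥H) :
    ∃! g : Equiv.Perm α, g ∈ Cfsg.setSystemAut L ∧ ∀ p : ↥H, g p = σ p := by
  set e0 : ↥H ≃ Fin 6 := Finset.equivFinOfCardEq hc with he0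
  have hh1 : LHyp L (fun i => ((e0.symm i : ↥H) : α)) := LHyp.of_hyperoval harc e0
  have hh2 : LHyp L (fun i => (((σ.symm.trans e0).symm i : ↥H) : α)) :=
    LHyp.of_hyperoval harc (σ.symm.trans e0)
  refine ⟨(hh1.equiv h).trans (hh2.equiv h).symm, ⟨?_, ?_⟩, ?_⟩
  · rw [mem_setSystemAut_iff]
    exact image_trans_symm (hh1.equiv h) (hh2.equiv h) (hh1.image_lines h) (hh2.image_lines h)
  · intro p
    rw [Equiv.trans_apply, Equiv.symm_apply_eq, LHyp.equiv_apply, LHyp.equiv_apply]
    have e1 : (p : α) = ((e0.symm (e0 p) : ↥H) : α) := by rw [Equiv.symm_apply_apply]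
    have e2 : ((σ p : ↥H) : α) = (((σ.symm.trans e0).symm (e0 p) : ↥H) : α) := by
      simp
    rw [e2, hh2.toStd_pt h (e0 p)]
    conv_lhs => rw [e1]
    exact hh1.toStd_pt h (e0 p)
  · rintro g' ⟨hg', hg'σ⟩
    have hg := image_trans_symm (hh1.equiv h) (hh2.equiv h) (hh1.image_lines h)
      (hh2.image_lines h)
    rw [mem_setSystemAut_iff] at hg'
    apply hh1.aut_unique h g' _ hg' hg
    intro i
    rw [hg'σ (e0.symm i)]
    rw [Equiv.trans_apply, Equiv.eq_symm_apply, LHyp.equiv_apply, LHyp.equiv_apply]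
    have e2 : ((σ (e0.symm i) : ↥H) : α) = (((σ.symm.trans e0).symm i : ↥H) : α) := by
      simp
    rw [e2, hh2.toStd_pt h i]
    exact (hh1.toStd_pt h i).symm

end P4

end Cfsg.Agent.Lib.Helper95
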