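import Mathlib

/-!
# A rank 3 argument: no subgroup of order 7920 in a group shaped like `M22` on 22 points

`K` acts on 22 points with point, two-point and three-point stabilisers of orders 20160, 960
and 48.  A subgroup `H` of order 7920 would be transitive, with point stabiliser of order 360
having orbits of lengths 1, 6, 15; the orbital graph of valency 6 would be strongly regular with
parameters `(22, 6, 0, 2)` or `(22, 6, 5, 0)`, and neither exists.
-/

set_option autoImplicit false
set_option linter.unusedSectionVars false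
set_option linter.style.haveILetI false

namespace Cfsg.Agent.Lib.Helper95.R3

open MulAction

section Basic

variable {K : Type*} [Group K] {Ω : Type*} [MulAction K Ω]

/-- Orbit-stabiliser for a subgroup. -/
theorem card_orbit_mul (H : Subgroup K) (b : Ω) :
    Nat.card H = (orbit H b).ncard * Nat.card ↥(H ⊓ stabilizer K b) := by
  have h1 := Subgroup.card_mul_index (stabilizer H b)
  rw [index_stabilizer] at h1
  have h2 : stabilizer H b = (stabilizer K b).subgroupOf H := by
    ext x
    rw [Subgroup.mem_subgroupOf, mem_stabilizer_iff, mem_stabilizer_iff]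
    rfl
  have h3 : Nat.card (stabilizer H b) = Nat.card ↥(H ⊓ stabilizer K b) := by
    rw [h2, ← Subgroup.inf_subgroupOf_right, inf_comm]
    exact Nat.card_congr (Subgroup.subgroupOfEquivOfLe inf_le_left).toEquiv
  rw [← h1, h3, mul_comm]

theorem mem_orbit_sub {H : Subgroup K} {a b : Ω} :
    b ∈ orbit H a ↔ ∃ g ∈ H, g • a = b := by
  rw [mem_orbit_iff]
  constructor
  · rintro ⟨g, rfl⟩
    exact ⟨g.1, g.2, rfl⟩
  · rintro ⟨g, hg, rfl⟩
    exact ⟨⟨g, hg⟩, rfl⟩

/-- A finite invariant set all of whose orbits have length divisible by `d` has cardinality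
divisible by `d`. -/
theorem dvd_card_of_orbits [DecidableEq Ω] (L : Subgroup K) (d : ℕ) (Y : Finset Ω) :
    (∀ g ∈ L, ∀ y ∈ Y, g • y ∈ Y) → (∀ y ∈ Y, d ∣ (orbit L y).ncard) → d ∣ Y.card := by
  classical
  induction Y using Finset.strongInduction with
  | H Y ih =>
    intro hinv hd
    rcases Y.eq_empty_or_nonempty with rfl | ⟨y, hy⟩
    · simp
    · set O := Y.filter (fun z => z ∈ orbit L y) with hO
      have hOs : (↑O : Set Ω) = orbit L y := by
        ext z
        simp only [hO, Finset.coe_filter, Set.mem_ofPred_eq]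
        constructor
        · exact fun h => h.2
        · intro hz
          refine ⟨?_, hz⟩
          obtain ⟨g, hg, rfl⟩ := mem_orbit_sub.1 hz
          exact hinv g hg y hy
      have hOc : O.card = (orbit L y).ncard := by
        rw [← hOs, Set.ncard_coe_finset]
      have hOY : O ⊆ Y := Finset.filter_subset _ _
      have hyO : y ∈ O := by
        rw [hO, Finset.mem_filter]
        exact ⟨hy, mem_orbit_self y⟩
      have hss : Y \ O ⊂ Y := by
        rw [Finset.ssubset_iff_of_subset Finset.sdiff_subset]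
        exact ⟨y, hy, fun h => (Finset.mem_sdiff.1 h).2 hyO⟩
      have h1 : d ∣ (Y \ O).card := by
        apply ih _ hss
        · intro g hg z hz
          rw [Finset.mem_sdiff] at hz ⊢
          refine ⟨hinv g hg z hz.1, fun h => hz.2 ?_⟩
          rw [hO, Finset.mem_filter] at h ⊢
          refine ⟨hz.1, ?_⟩
          obtain ⟨k, hk, hk'⟩ := mem_orbit_sub.1 h.2
          refine mem_orbit_sub.2 ⟨g⁻¹ * k, L.mul_mem (L.inv_mem hg) hk, ?_⟩
          rw [mul_smul, hk', inv_smul_smul]
        · intro z hz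
          exact hd z (Finset.mem_sdiff.1 hz).1
      have h2 : (Y \ O).card + O.card = Y.card := Finset.card_sdiff_add_card_eq_card hOY
      rw [← h2]
      exact Dvd.dvd.add h1 (hOc ▸ hd y hy)

/-- Fixed points of a permutation of prime order on an invariant set. -/
theorem card_modEq_fixed [Fintype Ω] [DecidableEq Ω] (σ : Equiv.Perm Ω) (p : ℕ) [Fact p.Prime]
    (hσ : σ ^ p = 1) (Y : Finset Ω) (hY : ∀ y ∈ Y, σ y ∈ Y) :
    Y.card ≡ (Y.filter (fun y => σ y = y)).card [MOD p] := by
  have hpow : ∀ n : ℕ, ∀ y ∈ Y, (σ ^ n) y ∈ Y := by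
    intro n
    induction n with
    | zero => intro y hy; simpa using hy
    | succ n ih =>
      intro y hy
      rw [pow_succ, Equiv.Perm.mul_apply]
      exact ih _ (hY y hy)
  have hiff : ∀ x, σ x ∈ Y ↔ x ∈ Y := by
    intro x
    refine ⟨fun h => ?_, hY x⟩
    have h1 := hpow (p - 1) _ h
    have h2 : (σ ^ (p - 1)) (σ x) = x := by
      rw [← Equiv.Perm.mul_apply, ← pow_succ, Nat.sub_add_cancel (Fact.out : p.Prime).one_le, hσ]
      rfl
    rwa [h2] at h1
  set τ : Equiv.Perm {x // x ∈ Y} := σ.subtypePerm hiff with hτ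
  have hτp : τ ^ p ^ 1 = 1 := by
    rw [pow_one, hτ, Equiv.Perm.subtypePerm_pow]
    ext x
    simp [hσ]
  have h1 := Equiv.Perm.card_compl_support_modEq hτp
  rw [Fintype.card_coe] at h1
  have h2 : τ.supportᶜ.card = (Y.filter (fun y => σ y = y)).card := by
    apply Finset.card_bij (fun x _ => x.1)
    · intro x hx
      rw [Finset.mem_compl, Equiv.Perm.mem_support, not_not] at hx
      rw [Finset.mem_filter]
      refine ⟨x.2, ?_⟩
      have := congrArg Subtype.val hx
      simpa [hτ] using this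
    · intro x _ y _ h
      exact Subtype.ext h
    · intro y hy
      rw [Finset.mem_filter] at hy
      refine ⟨⟨y, hy.1⟩, ?_, rfl⟩
      rw [Finset.mem_compl, Equiv.Perm.mem_support, not_not]
      apply Subtype.ext
      simpa [hτ] using hy.2
  rw [h2] at h1
  exact h1.symm

end Basic

section Arith

theorem arith1 (n k : ℕ) (h : n * k = 7920) (hk : k ∣ 20160) (hn : n ≤ 22) :
    (n = 11 ∧ k = 720) ∨ (n = 22 ∧ k = 360) := by
  have h720 : k ∣ 720 := by
    have := Nat.dvd_gcd (Dvd.intro_left n h) hk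
    norm_num at this
    exact this
  obtain ⟨j, hj⟩ := h720
  have hk0 : 0 < k := by
    rcases Nat.eq_zero_or_pos k with rfl | h0
    · simp at hj
    · exact h0
  have hn11 : n = 11 * j := by
    apply Nat.eq_of_mul_eq_mul_right hk0
    rw [h]
    calc 7920 = 11 * 720 := by norm_num
      _ = 11 * (k * j) := by rw [hj]
      _ = 11 * j * k := by ring
  have hj2 : j ≤ 2 := by omega
  interval_cases j
  · simp at hj
  · left; omega
  · right; omega

theorem arith2 (m j : ℕ) (h : m * j = 720) (hj : j ∣ 960) : 3 ∣ m := by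
  have h240 : j ∣ 240 := by
    have := Nat.dvd_gcd (Dvd.intro_left m h) hj
    norm_num at this
    exact this
  obtain ⟨t, ht⟩ := h240
  have hj0 : 0 < j := by
    rcases Nat.eq_zero_or_pos j with rfl | h0
    · simp at ht
    · exact h0
  refine ⟨t, ?_⟩
  apply Nat.eq_of_mul_eq_mul_right hj0
  rw [h]
  calc 720 = 3 * 240 := by norm_num
    _ = 3 * (j * t) := by rw [ht]
    _ = 3 * t * j := by ring

theorem arith3 (m j : ℕ) (h : m * j = 360) (hj : j ∣ 960) : 3 ∣ m := by
  have h120 : j ∣ 120 := by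
    have := Nat.dvd_gcd (Dvd.intro_left m h) hj
    norm_num at this
    exact this
  obtain ⟨t, ht⟩ := h120
  have hj0 : 0 < j := by
    rcases Nat.eq_zero_or_pos j with rfl | h0
    · simp at ht
    · exact h0
  refine ⟨t, ?_⟩
  apply Nat.eq_of_mul_eq_mul_right hj0
  rw [h]
  calc 360 = 3 * 120 := by norm_num
    _ = 3 * (j * t) := by rw [ht]
    _ = 3 * t * j := by ring

theorem arith4 (m j : ℕ) (h : m * j = 360) (h3 : 3 ∣ m) (h5 : m % 5 = 1) (hm : m ≤ 21) :
    m = 6 ∧ j = 60 := by
  interval_cases m <;> omega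

theorem arith5 (m j : ℕ) (h : m * j = 360) (h3 : 3 ∣ m) (h5 : m % 5 = 0) (hm : m ≤ 21) :
    m = 15 ∧ j = 24 := by
  interval_cases m <;> omega

theorem not_sq : ¬ IsSquare (23365020751953125 : ℕ) := by
  rintro ⟨r, hr⟩
  have h : r ≤ 152856209 ∨ 152856210 ≤ r := by omega
  rcases h with h | h
  · nlinarith
  · nlinarith

end Arith

section Main

variable {K : Type*} [Group K] [Finite K] {Ω : Type*} [Fintype Ω] [DecidableEq Ω] [MulAction K Ω]

/-- The hypotheses: `K` on 22 points with stabiliser orders as in `M22`, `H` of order 7920. -/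
structure Hyp (Ω : Type*) [Fintype Ω] [MulAction K Ω] (H : Subgroup K) : Prop where
  card_Ω : Fintype.card Ω = 22
  k1 : ∀ a : Ω, Nat.card ↥(stabilizer K a) = 20160
  k2 : ∀ a c : Ω, a ≠ c → Nat.card ↥(stabilizer K a ⊓ stabilizer K c) = 960
  k3 : ∀ a c d : Ω, a ≠ c → a ≠ d → c ≠ d →
    Nat.card ↥(stabilizer K a ⊓ stabilizer K c ⊓ stabilizer K d) = 48
  card_H : Nat.card H = 7920

theorem Hyp.orbit_card {H : Subgroup K} (hy : Hyp Ω H) (a : Ω) :
    (orbit H a).ncard = 22 ∧ Nat.card ↥(H ⊓ stabilizer K a) = 360 := by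
  have h1 := card_orbit_mul H a
  rw [hy.card_H] at h1
  have h2 : Nat.card ↥(H ⊓ stabilizer K a) ∣ 20160 := by
    rw [← hy.k1 a]
    exact Subgroup.card_dvd_of_le inf_le_right
  have h3 : (orbit H a).ncard ≤ 22 := by
    have := Set.ncard_le_card (orbit H a)
    rwa [Nat.card_eq_fintype_card, hy.card_Ω] at this
  rcases arith1 _ _ h1.symm h2 h3 with ⟨hn, hk⟩ | h
  · exfalso
    classical
    set L := H ⊓ stabilizer K a with hL
    set Y : Finset Ω := Finset.univ.filter (fun c => c ∉ orbit H a) with hY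
    have hYc : Y.card = 11 := by
      have hS : (Finset.univ.filter (fun c => c ∈ orbit H a)).card = 11 := by
        rw [← hn, ← Set.ncard_coe_finset]
        congr 1
        ext c
        simp
      have e : Y = Finset.univ \ Finset.univ.filter (fun c => c ∈ orbit H a) := by
        ext c
        simp [hY]
      rw [e, Finset.card_sdiff_of_subset (Finset.filter_subset _ _), Finset.card_univ,
        hy.card_Ω, hS]
    have h3 : 3 ∣ Y.card := by
      apply dvd_card_of_orbits L 3 Y
      · intro g hg c hc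
        rw [hY, Finset.mem_filter] at hc ⊢
        refine ⟨Finset.mem_univ _, fun h => hc.2 ?_⟩
        obtain ⟨k, hk, hk'⟩ := mem_orbit_sub.1 h
        exact mem_orbit_sub.2 ⟨g⁻¹ * k, H.mul_mem (H.inv_mem hg.1) hk, by
          rw [mul_smul, hk', inv_smul_smul]⟩
      · intro c hc
        rw [hY, Finset.mem_filter] at hc
        have hac : a ≠ c := fun h => hc.2 (h ▸ mem_orbit_self a)
        have e1 := card_orbit_mul L c
        rw [hk] at e1
        have e2 : Nat.card ↥(L ⊓ stabilizer K c) ∣ 960 := by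
          rw [← hy.k2 a c hac]
          exact Subgroup.card_dvd_of_le (inf_le_inf_right _ inf_le_right)
        exact arith2 _ _ e1.symm e2
    rw [hYc] at h3
    omega
  · exact h

theorem Hyp.trans {H : Subgroup K} (hy : Hyp Ω H) (a b : Ω) : ∃ g ∈ H, g • a = b := by
  have h := (hy.orbit_card a).1
  have h1 : orbit H a = Set.univ := by
    rw [Set.eq_univ_iff_ncard, h, Nat.card_eq_fintype_card, hy.card_Ω]
  exact mem_orbit_sub.1 (h1 ▸ Set.mem_univ b)

/-- The orbits of a point stabiliser `H_a`: lengths 1, 6, 15. -/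
theorem Hyp.local_struct {H : Subgroup K} (hy : Hyp Ω H) (a : Ω) :
    ∃ N : Finset Ω, N.card = 6 ∧ a ∉ N ∧
      (∀ d, d ≠ a → (d ∈ N ↔ Nat.card ↥(H ⊓ stabilizer K a ⊓ stabilizer K d) = 60)) ∧
      (∀ d d', d ∈ N → d' ∈ N → ∃ g ∈ H ⊓ stabilizer K a, g • d = d') ∧
      (∀ d d', d ≠ a → d' ≠ a → d ∉ N → d' ∉ N → ∃ g ∈ H ⊓ stabilizer K a, g • d = d') := by
  classical
  set L := H ⊓ stabilizer K a with hL
  have hLc : Nat.card ↥L = 360 := (hy.orbit_card a).2
  haveI : Fact (Nat.Prime 5) := ⟨by norm_num⟩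
  obtain ⟨u, hu⟩ := exists_prime_orderOf_dvd_card' (G := ↥L) 5 (by rw [hLc]; norm_num)
  have hu' : orderOf (u : K) = 5 := by
    rw [Subgroup.orderOf_coe]
    exact hu
  have huL : (u : K) ∈ L := u.2
  set σ : Equiv.Perm Ω := MulAction.toPermHom K Ω (u : K) with hσ
  have hσ5 : σ ^ 5 = 1 := by
    rw [hσ, ← map_pow, ← hu', pow_orderOf_eq_one, map_one]
  have hσa : ∀ x, σ x = (u : K) • x := fun x => rfl
  -- fixed points of `u`
  set F : Finset Ω := Finset.univ.filter (fun x => σ x = x) with hF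
  have hFmod : Fintype.card Ω ≡ F.card [MOD 5] := by
    have := card_modEq_fixed σ 5 hσ5 Finset.univ (fun y _ => Finset.mem_univ _)
    rwa [Finset.card_univ] at this
  have hFle : F.card ≤ 2 := by
    by_contra hcon
    obtain ⟨x, hx, y, hy', z, hz, hxy, hxz, hyz⟩ := Finset.two_lt_card.1 (not_le.1 hcon)
    rw [hF, Finset.mem_filter] at hx hy' hz
    have hmem : (u : K) ∈ stabilizer K x ⊓ stabilizer K y ⊓ stabilizer K z :=
      ⟨⟨hx.2, hy'.2⟩, hz.2⟩
    have h48 := hy.k3 x y z hxy hxz hyz
    have h1 : orderOf (⟨(u : K), hmem⟩ :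
        ↥(stabilizer K x ⊓ stabilizer K y ⊓ stabilizer K z)) ∣ 48 := by
      rw [← h48]
      exact orderOf_dvd_natCard _
    rw [← Subgroup.orderOf_coe] at h1
    rw [show ((⟨(u : K), hmem⟩ :
        ↥(stabilizer K x ⊓ stabilizer K y ⊓ stabilizer K z)) : K) = (u : K) from rfl, hu'] at h1
    omega
  have hF2 : F.card = 2 := by
    have := hFmod
    rw [hy.card_Ω] at this
    unfold Nat.ModEq at this
    omega
  have haF : a ∈ F := by
    rw [hF, Finset.mem_filter]
    exact ⟨Finset.mem_univ _, huL.2⟩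
  obtain ⟨c, hc⟩ : ∃ c, F.erase a = {c} := by
    apply Finset.card_eq_one.1
    rw [Finset.card_erase_of_mem haF, hF2]
  have hcF : c ∈ F.erase a := by
    rw [hc]
    exact Finset.mem_singleton_self c
  have hca : c ≠ a := (Finset.mem_erase.1 hcF).1
  have hfixc : ∀ x, x ≠ a → σ x = x → x = c := by
    intro x hxa hx
    have : x ∈ F.erase a := by
      rw [Finset.mem_erase, hF, Finset.mem_filter]
      exact ⟨hxa, Finset.mem_univ _, hx⟩
    rw [hc] at this
    exact Finset.mem_singleton.1 this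
  have hσc : σ c = c := by
    have := (Finset.mem_erase.1 hcF).2
    rw [hF, Finset.mem_filter] at this
    exact this.2
  -- orbits of `L`
  let Od : Ω → Finset Ω := fun d => Finset.univ.filter (fun z => z ∈ orbit L d)
  have hOd : ∀ d z, z ∈ Od d ↔ z ∈ orbit L d := by
    intro d z
    simp only [Od, Finset.mem_filter, Finset.mem_univ, true_and]
  have o1 : ∀ d, (Od d).card = (orbit L d).ncard := by
    intro d
    rw [← Set.ncard_coe_finset]
    congr 1
    ext z
    simp [Od]
  have o2 : ∀ d, d ≠ a → a ∉ Od d := by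
    intro d hda h
    rw [hOd] at h
    obtain ⟨g, hg, hg'⟩ := mem_orbit_sub.1 h
    have : g • a = a := hg.2
    exact hda (smul_left_cancel g (hg'.trans this.symm))
  have o3 : ∀ d, ∀ z ∈ Od d, σ z ∈ Od d := by
    intro d z hz
    rw [hOd] at hz ⊢
    obtain ⟨g, hg, rfl⟩ := mem_orbit_sub.1 hz
    exact mem_orbit_sub.2 ⟨(u : K) * g, L.mul_mem huL hg, by rw [hσa, mul_smul]⟩
  have o4 : ∀ d, (Od d).card * Nat.card ↥(L ⊓ stabilizer K d) = 360 := by
    intro d
    rw [o1, ← card_orbit_mul, hLc]
  have o5 : ∀ d, d ≠ a → 3 ∣ (Od d).card := by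
    intro d hda
    refine arith3 _ _ (o4 d) ?_
    rw [← hy.k2 a d (Ne.symm hda)]
    exact Subgroup.card_dvd_of_le (inf_le_inf_right _ inf_le_right)
  have o6 : ∀ d, d ≠ a → (Od d).card ≤ 21 := by
    intro d hda
    have h1 : Od d ⊆ Finset.univ.erase a := by
      intro z hz
      rw [Finset.mem_erase]
      exact ⟨fun h => o2 d hda (h ▸ hz), Finset.mem_univ _⟩
    have h2 := Finset.card_le_card h1
    rw [Finset.card_erase_of_mem (Finset.mem_univ _), Finset.card_univ, hy.card_Ω] at h2
    exact h2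
  have o7 : ∀ d, d ≠ a → (Od d).card % 5 = if c ∈ Od d then 1 else 0 := by
    intro d hda
    have h1 := card_modEq_fixed σ 5 hσ5 (Od d) (o3 d)
    have h2 : (Od d).filter (fun y => σ y = y) = if c ∈ Od d then {c} else ∅ := by
      ext x
      rw [Finset.mem_filter]
      split_ifs with hcd
      · rw [Finset.mem_singleton]
        constructor
        · rintro ⟨hx, hx'⟩
          exact hfixc x (fun h => o2 d hda (h ▸ hx)) hx'
        · rintro rfl
          exact ⟨hcd, hσc⟩
      · simp only [Finset.notMem_empty, iff_false, not_and]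
        intro hx hx'
        exact hcd (hfixc x (fun h => o2 d hda (h ▸ hx)) hx' ▸ hx)
    rw [h2] at h1
    unfold Nat.ModEq at h1
    rw [h1]
    split_ifs <;> simp
  have o8 : ∀ d, d ≠ a → c ∈ Od d →
      (Od d).card = 6 ∧ Nat.card ↥(L ⊓ stabilizer K d) = 60 := by
    intro d hda hcd
    have h5 := o7 d hda
    rw [if_pos hcd] at h5
    exact arith4 _ _ (o4 d) (o5 d hda) h5 (o6 d hda)
  have o9 : ∀ d, d ≠ a → c ∉ Od d →
      (Od d).card = 15 ∧ Nat.card ↥(L ⊓ stabilizer K d) = 24 := by
    intro d hda hcd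
    have h5 := o7 d hda
    rw [if_neg hcd] at h5
    exact arith5 _ _ (o4 d) (o5 d hda) h5 (o6 d hda)
  have hsymm : ∀ d z, z ∈ Od d → d ∈ Od z := by
    intro d z hz
    rw [hOd] at hz ⊢
    obtain ⟨g, hg, rfl⟩ := mem_orbit_sub.1 hz
    exact mem_orbit_sub.2 ⟨g⁻¹, L.inv_mem hg, inv_smul_smul g d⟩
  have htrans : ∀ d z w, z ∈ Od d → w ∈ Od z → w ∈ Od d := by
    intro d z w hz hw
    rw [hOd] at hz hw ⊢
    obtain ⟨g, hg, rfl⟩ := mem_orbit_sub.1 hz
    obtain ⟨g', hg', rfl⟩ := mem_orbit_sub.1 hw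
    exact mem_orbit_sub.2 ⟨g' * g, L.mul_mem hg' hg, mul_smul g' g d⟩
  have hself : ∀ d, d ∈ Od d := fun d => (hOd d d).2 (mem_orbit_self d)
  have hN6 : (Od c).card = 6 := (o8 c hca (hself c)).1
  have haN : a ∉ Od c := o2 c hca
  refine ⟨Od c, hN6, haN, ?_, ?_, ?_⟩
  · intro d hda
    constructor
    · intro hd
      exact (o8 d hda (hsymm c d hd)).2
    · intro h60
      by_contra hd
      have : c ∉ Od d := fun h => hd (hsymm d c h)
      have := (o9 d hda this).2
      omega
  · intro d d' hd hd'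
    have h1 : d' ∈ Od d := htrans d c d' (hsymm c d hd) hd'
    rw [hOd] at h1
    exact mem_orbit_sub.1 h1
  · intro d d' hda hda' hd hd'
    have hcd : c ∉ Od d := fun h => hd (hsymm d c h)
    have h15 := (o9 d hda hcd).1
    set T : Finset Ω := Finset.univ \ insert a (Od c) with hT
    have hTc : T.card = 15 := by
      rw [hT, Finset.card_sdiff_of_subset (Finset.subset_univ _), Finset.card_univ, hy.card_Ω,
        Finset.card_insert_of_notMem haN, hN6]
    have hsub : Od d ⊆ T := by
      intro z hz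
      rw [hT, Finset.mem_sdiff, Finset.mem_insert, not_or]
      refine ⟨Finset.mem_univ _, fun h => o2 d hda (h ▸ hz), fun h => hd ?_⟩
      exact htrans c z d h (hsymm d z hz)
    have heq : Od d = T := Finset.eq_of_subset_of_card_le hsub (by rw [hTc, h15])
    have h1 : d' ∈ Od d := by
      rw [heq, hT, Finset.mem_sdiff, Finset.mem_insert, not_or]
      exact ⟨Finset.mem_univ _, hda', hd'⟩
    rw [hOd] at h1
    exact mem_orbit_sub.1 h1

/-- Adjacency in the orbital graph of valency 6. -/
def Adj (H : Subgroup K) (a d : Ω) : Prop :=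
  a ≠ d ∧ Nat.card ↥(H ⊓ stabilizer K a ⊓ stabilizer K d) = 60

theorem adj_symm {H : Subgroup K} {a d : Ω} (h : Adj H a d) : Adj H d a := by
  refine ⟨h.1.symm, ?_⟩
  rw [inf_right_comm]
  exact h.2

theorem adj_comm {H : Subgroup K} {a d : Ω} : Adj H a d ↔ Adj H d a := ⟨adj_symm, adj_symm⟩

theorem card_conj (H : Subgroup K) {h : K} (hh : h ∈ H) (a d : Ω) :
    Nat.card ↥(H ⊓ stabilizer K (h • a) ⊓ stabilizer K (h • d)) =
      Nat.card ↥(H ⊓ stabilizer K a ⊓ stabilizer K d) := by
  symm
  apply Nat.card_congr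
  refine Equiv.subtypeEquiv (MulAut.conj h).toEquiv ?_
  intro x
  have e1 : h * x * h⁻¹ ∈ H ↔ x ∈ H := by
    constructor
    · intro hx
      have := H.mul_mem (H.mul_mem (H.inv_mem hh) hx) hh
      simpa [mul_assoc] using this
    · intro hx
      exact H.mul_mem (H.mul_mem hh hx) (H.inv_mem hh)
  have e2 : ∀ b : Ω, (h * x * h⁻¹) • (h • b) = h • b ↔ x • b = b := by
    intro b
    rw [mul_smul, inv_smul_smul, mul_smul, smul_left_cancel_iff]
  show x ∈ H ⊓ stabilizer K a ⊓ stabilizer K d ↔
    h * x * h⁻¹ ∈ H ⊓ stabilizer K (h • a) ⊓ stabilizer K (h • d)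
  simp only [Subgroup.mem_inf, mem_stabilizer_iff]
  rw [e1, e2, e2]

theorem adj_smul {H : Subgroup K} {h : K} (hh : h ∈ H) {a d : Ω} :
    Adj H (h • a) (h • d) ↔ Adj H a d := by
  unfold Adj
  rw [card_conj H hh, Ne, smul_left_cancel_iff]

open Classical in
/-- The neighbours of a point. -/
noncomputable def nb (H : Subgroup K) (a : Ω) : Finset Ω :=
  Finset.univ.filter (fun d => Adj H a d)

theorem mem_nb {H : Subgroup K} {a d : Ω} : d ∈ nb H a ↔ Adj H a d := by
  simp [nb]

open Classical in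
/-- The number of common neighbours. -/
noncomputable def cn (H : Subgroup K) (a d : Ω) : ℕ :=
  (Finset.univ.filter (fun e => Adj H a e ∧ Adj H d e)).card

theorem Hyp.nb_card {H : Subgroup K} (hy : Hyp Ω H) (a : Ω) : (nb H a).card = 6 := by
  obtain ⟨N, hN, haN, hiff, -, -⟩ := hy.local_struct a
  have : nb H a = N := by
    ext d
    rw [mem_nb]
    by_cases hda : d = a
    · subst hda
      exact ⟨fun h => absurd rfl h.1, fun h => absurd h haN⟩
    · rw [hiff d hda]
      exact ⟨fun h => h.2, fun h => ⟨fun h' => hda h'.symm, h⟩⟩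
  rw [this, hN]

theorem Hyp.adj_trans {H : Subgroup K} (hy : Hyp Ω H) {a d d' : Ω} (h : Adj H a d)
    (h' : Adj H a d') : ∃ g ∈ H ⊓ stabilizer K a, g • d = d' := by
  obtain ⟨N, -, -, hiff, h3, -⟩ := hy.local_struct a
  exact h3 d d' ((hiff d h.1.symm).2 h.2) ((hiff d' h'.1.symm).2 h'.2)

theorem Hyp.nadj_trans {H : Subgroup K} (hy : Hyp Ω H) {a d d' : Ω} (hd : a ≠ d) (hd' : a ≠ d')
    (h : ¬ Adj H a d) (h' : ¬ Adj H a d') : ∃ g ∈ H ⊓ stabilizer K a, g • d = d' := by
  obtain ⟨N, -, -, hiff, -, h4⟩ := hy.local_struct a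
  exact h4 d d' hd.symm hd'.symm (fun hN => h ⟨hd, (hiff d hd.symm).1 hN⟩)
    (fun hN => h' ⟨hd', (hiff d' hd'.symm).1 hN⟩)

theorem cn_smul {H : Subgroup K} {h : K} (hh : h ∈ H) (a d : Ω) :
    cn H (h • a) (h • d) = cn H a d := by
  classical
  unfold cn
  symm
  apply Finset.card_bij (fun e _ => h • e)
  · intro e he
    rw [Finset.mem_filter] at he ⊢
    exact ⟨Finset.mem_univ _, (adj_smul hh).2 he.2.1, (adj_smul hh).2 he.2.2⟩
  · intro e _ e' _ hee
    exact smul_left_cancel h hee
  · intro e he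
    rw [Finset.mem_filter] at he
    refine ⟨h⁻¹ • e, ?_, smul_inv_smul h e⟩
    rw [Finset.mem_filter]
    refine ⟨Finset.mem_univ _, ?_, ?_⟩
    · rw [← adj_smul hh, smul_inv_smul]
      exact he.2.1
    · rw [← adj_smul hh, smul_inv_smul]
      exact he.2.2

theorem Hyp.cn_adj {H : Subgroup K} (hy : Hyp Ω H) {a d a' d' : Ω} (h : Adj H a d)
    (h' : Adj H a' d') : cn H a d = cn H a' d' := by
  obtain ⟨g, hg, hga⟩ := hy.trans a a'
  have h1 : Adj H a' (g • d) := by
    rw [← hga]
    exact (adj_smul hg).2 h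
  obtain ⟨k, hk, hkd⟩ := hy.adj_trans h1 h'
  have h2 := cn_smul (H.mul_mem hk.1 hg) a d
  have hka : k • a' = a' := hk.2
  rw [← h2, mul_smul, mul_smul, hga, hkd, hka]

theorem Hyp.cn_nadj {H : Subgroup K} (hy : Hyp Ω H) {a d a' d' : Ω} (hd : a ≠ d)
    (h : ¬ Adj H a d) (hd' : a' ≠ d') (h' : ¬ Adj H a' d') : cn H a d = cn H a' d' := by
  obtain ⟨g, hg, hga⟩ := hy.trans a a'
  have h0 : a' ≠ g • d := by
    rw [← hga]
    exact fun hh => hd (smul_left_cancel g hh)
  have h1 : ¬ Adj H a' (g • d) := by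
    rw [← hga]
    exact fun hh => h ((adj_smul hg).1 hh)
  obtain ⟨k, hk, hkd⟩ := hy.nadj_trans h0 hd' h1 h'
  have h2 := cn_smul (H.mul_mem hk.1 hg) a d
  have hka : k • a' = a' := hk.2
  rw [← h2, mul_smul, mul_smul, hga, hkd, hka]

theorem cn_eq_inter (H : Subgroup K) (a d : Ω) : cn H a d = (nb H a ∩ nb H d).card := by
  classical
  unfold cn
  congr 1
  ext e
  simp [mem_nb]

open Classical in
/-- The adjacency matrix. -/
noncomputable def adjM (H : Subgroup K) : Matrix Ω Ω ℚ := fun a d => if Adj H a d then 1 else 0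

theorem adjM_mul (H : Subgroup K) (a d : Ω) :
    (adjM H * adjM H : Matrix Ω Ω ℚ) a d = (cn H a d : ℚ) := by
  classical
  rw [Matrix.mul_apply, cn, ← Finset.sum_boole]
  apply Finset.sum_congr rfl
  intro e _
  unfold adjM
  by_cases h1 : Adj H a e <;> by_cases h2 : Adj H e d <;>
    simp [h1, h2, adj_comm (a := d) (d := e)]

theorem Hyp.adjM_row {H : Subgroup K} (hy : Hyp Ω H) (a : Ω) : ∑ d, adjM H a d = 6 := by
  classical
  unfold adjM
  rw [Finset.sum_boole]
  have := hy.nb_card a
  unfold nb at this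
  rw [this]
  norm_num

theorem det_five_two (hΩ : Fintype.card Ω = 22) :
    Matrix.det ((5 : ℚ) • (1 : Matrix Ω Ω ℚ) + (2 : ℚ) • Matrix.of (fun _ _ => (1 : ℚ))) =
      23365020751953125 := by
  have e : (5 : ℚ) • (1 : Matrix Ω Ω ℚ) + (2 : ℚ) • Matrix.of (fun _ _ => (1 : ℚ)) =
      (5 : ℚ) • (1 + Matrix.replicateCol Unit (fun _ : Ω => (2 / 5 : ℚ)) *
        Matrix.replicateRow Unit (fun _ : Ω => (1 : ℚ))) := by
    ext a d
    simp only [Matrix.add_apply, Matrix.smul_apply, Matrix.of_apply, Matrix.mul_apply,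
      Matrix.replicateCol_apply, Matrix.replicateRow_apply, Finset.univ_unique,
      Finset.sum_singleton, smul_eq_mul]
    ring
  rw [e, Matrix.det_smul, Matrix.det_one_add_replicateCol_mul_replicateRow, hΩ]
  simp only [dotProduct, one_mul, Finset.sum_const, Finset.card_univ, hΩ, nsmul_eq_mul]
  norm_num

/-- No subgroup of order 7920. -/
theorem Hyp.false {H : Subgroup K} (hy : Hyp Ω H) : False := by
  classical
  obtain ⟨a₀⟩ : Nonempty Ω := Fintype.card_pos_iff.1 (by rw [hy.card_Ω]; norm_num)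
  obtain ⟨d₀, hd₀⟩ : ∃ d₀, Adj H a₀ d₀ := by
    have := hy.nb_card a₀
    have hne : (nb H a₀).Nonempty := Finset.card_pos.1 (by omega)
    obtain ⟨d, hd⟩ := hne
    exact ⟨d, mem_nb.1 hd⟩
  obtain ⟨t₀, ht₀a, ht₀⟩ : ∃ t₀, a₀ ≠ t₀ ∧ ¬ Adj H a₀ t₀ := by
    have hlt : (insert a₀ (nb H a₀)).card < (Finset.univ : Finset Ω).card := by
      rw [Finset.card_univ, hy.card_Ω]
      have := Finset.card_insert_le a₀ (nb H a₀)
      rw [hy.nb_card] at this
      omega
    obtain ⟨t, -, ht⟩ := Finset.exists_mem_notMem_of_card_lt_card hlt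
    rw [Finset.mem_insert, not_or] at ht
    exact ⟨t, fun h => ht.1 h.symm, fun h => ht.2 (mem_nb.2 h)⟩
  set lam := cn H a₀ d₀ with hlam
  set mu := cn H a₀ t₀ with hmu
  have hcn : ∀ a d : Ω, cn H a d = if a = d then 6 else if Adj H a d then lam else mu := by
    intro a d
    split_ifs with h1 h2
    · subst h1
      rw [cn_eq_inter, Finset.inter_self, hy.nb_card]
    · exact hy.cn_adj h2 hd₀
    · exact hy.cn_nadj h1 h2 ht₀a ht₀
  set A : Matrix Ω Ω ℚ := adjM H with hA
  set J : Matrix Ω Ω ℚ := Matrix.of (fun _ _ => (1 : ℚ)) with hJ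
  have hAA : A * A = (6 : ℚ) • (1 : Matrix Ω Ω ℚ) + (lam : ℚ) • A + (mu : ℚ) • (J - 1 - A) := by
    ext a d
    rw [hA, adjM_mul, hcn a d]
    simp only [Matrix.add_apply, Matrix.smul_apply, Matrix.sub_apply, Matrix.one_apply, hJ,
      Matrix.of_apply, smul_eq_mul, adjM]
    by_cases h1 : a = d
    · subst h1
      have : ¬ Adj H a a := fun h => h.1 rfl
      simp [this]
    · by_cases h2 : Adj H a d
      · simp [h1, h2]
      · simp [h1, h2]
  -- row sums
  have hrow : ∀ a, ∑ d, A a d = 6 := fun a => hy.adjM_row a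
  have hcount : (36 : ℚ) = 6 + 6 * lam + 15 * mu := by
    have h1 : ∑ d, (A * A) a₀ d = 36 := by
      simp_rw [Matrix.mul_apply]
      rw [Finset.sum_comm]
      simp_rw [← Finset.mul_sum, hrow, ← Finset.sum_mul, hrow]
      norm_num
    have h2 : ∑ d, (A * A) a₀ d = 6 + 6 * lam + 15 * mu := by
      rw [hAA]
      simp only [Matrix.add_apply, Matrix.smul_apply, Matrix.sub_apply, smul_eq_mul,
        Finset.sum_add_distrib, ← Finset.mul_sum, Finset.sum_sub_distrib, hrow]
      have e1 : ∑ d, (1 : Matrix Ω Ω ℚ) a₀ d = 1 := by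
        simp [Matrix.one_apply]
      have e2 : ∑ d : Ω, J a₀ d = 22 := by
        simp [hJ, Finset.card_univ, hy.card_Ω]
      rw [e1, e2]
      ring
    rw [← h1, h2]
  have hcount' : 6 * lam + 15 * mu = 30 := by
    have : ((6 * lam + 15 * mu : ℕ) : ℚ) = (30 : ℕ) := by
      push_cast
      linarith
    exact_mod_cast this
  have hcases : (lam = 0 ∧ mu = 2) ∨ (lam = 5 ∧ mu = 0) := by omega
  rcases hcases with ⟨hl, hm⟩ | ⟨hl, hm⟩
  · -- spectral contradiction
    have hsq : (A + 1) * (A + 1) = (5 : ℚ) • (1 : Matrix Ω Ω ℚ) + (2 : ℚ) • J := by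
      have : (A + 1) * (A + 1) = A * A + A + A + 1 := by
        rw [add_mul, mul_add, mul_one, one_mul]
        abel
      rw [this, hAA, hl, hm]
      ext a d
      simp only [Matrix.add_apply, Matrix.smul_apply, Matrix.sub_apply, smul_eq_mul]
      push_cast
      ring
    have hdet : (A + 1).det * (A + 1).det = ((23365020751953125 : ℕ) : ℚ) := by
      rw [← Matrix.det_mul, hsq, hJ, det_five_two hy.card_Ω]
      norm_num
    exact not_sq (Rat.isSquare_natCast_iff.1 ⟨_, hdet.symm⟩)
  · -- closed neighbourhoods would partition the 22 points into sets of size 7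
    have hB : ∀ a d : Ω, Adj H a d → insert d (nb H d) = insert a (nb H a) := by
      intro a d had
      have h5 : (nb H a ∩ nb H d).card = 5 := by
        rw [← cn_eq_inter, hcn a d, if_neg had.1, if_pos had, hl]
      have hda : d ∉ nb H a ∩ nb H d := fun h =>
        (mem_nb.1 (Finset.mem_inter.1 h).2).1 rfl
      have haa : a ∉ nb H a ∩ nb H d := fun h =>
        (mem_nb.1 (Finset.mem_inter.1 h).1).1 rfl
      have e1 : nb H a = insert d (nb H a ∩ nb H d) := by
        symm
        apply Finset.eq_of_subset_of_card_le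
        · intro x hx
          rcases Finset.mem_insert.1 hx with rfl | hx
          · exact mem_nb.2 had
          · exact (Finset.mem_inter.1 hx).1
        · rw [Finset.card_insert_of_notMem hda, h5, hy.nb_card]
      have e2 : nb H d = insert a (nb H a ∩ nb H d) := by
        symm
        apply Finset.eq_of_subset_of_card_le
        · intro x hx
          rcases Finset.mem_insert.1 hx with rfl | hx
          · exact mem_nb.2 (adj_symm had)
          · exact (Finset.mem_inter.1 hx).2
        · rw [Finset.card_insert_of_notMem haa, h5, hy.nb_card]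
      conv_lhs => rw [e2]
      conv_rhs => rw [e1]
      exact Finset.insert_comm d a _
    have hfib : ∀ a : Ω,
        (Finset.univ.filter (fun d => insert d (nb H d) = insert a (nb H a))).card = 7 := by
      intro a
      have : Finset.univ.filter (fun d => insert d (nb H d) = insert a (nb H a)) =
          insert a (nb H a) := by
        ext d
        rw [Finset.mem_filter]
        constructor
        · rintro ⟨-, h⟩
          rw [← h]
          exact Finset.mem_insert_self d _
        · intro h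
          refine ⟨Finset.mem_univ _, ?_⟩
          rcases Finset.mem_insert.1 h with rfl | h
          · rfl
          · exact hB a d (mem_nb.1 h)
      rw [this, Finset.card_insert_of_notMem (fun h => (mem_nb.1 h).1 rfl), hy.nb_card]
    have hsum := Finset.card_eq_sum_card_fiberwise (f := fun d => insert d (nb H d))
      (s := (Finset.univ : Finset Ω)) (t := Finset.univ.image (fun d => insert d (nb H d)))
      (fun x _ => Finset.mem_image_of_mem _ (Finset.mem_univ x))
    rw [Finset.card_univ, hy.card_Ω] at hsum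
    have hconst : ∀ b ∈ Finset.univ.image (fun d : Ω => insert d (nb H d)),
        (Finset.univ.filter (fun a : Ω => insert a (nb H a) = b)).card = 7 := by
      intro b hb
      obtain ⟨a, -, rfl⟩ := Finset.mem_image.1 hb
      exact hfib a
    rw [Finset.sum_congr rfl hconst, Finset.sum_const, smul_eq_mul] at hsum
    omega

end Main

end Cfsg.Agent.Lib.Helper95.R3
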