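import Cfsg.Agent.Lib.Helper95.IcoSD
import Cfsg.Agent.Lib.Helper95.IcoJ

/-!
# Reflection centralisers in the Hall–Janko group

The centraliser in `J2` of the image of a reflection is isomorphic to the point stabiliser of
the permutation group of degree 315 on the lines, hence an extension of an extraspecial group
of order 32 by the alternating group of degree five.
-/

set_option autoImplicit false
set_option maxHeartbeats 400000

namespace Cfsg.Agent.Lib.Helper95.Ico

open Quaternion Cfsg.Spor Cfsg.Agent.Lib.Helper7.J2P Cfsg.Agent.Lib.Helper95.IcoS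

/-- transport of the structure statement along an isomorphism -/
theorem struct_transport {A B : Type*} [Group A] [Group B] (e : A ≃* B)
    (h : ∃ (Q : Subgroup B) (_ : Q.Normal), Nat.card Q = 32 ∧ Cfsg.IsExtraspecial 2 ↥Q ∧
      Nonempty (B ⧸ Q ≃* alternatingGroup (Fin 5))) :
    ∃ (Q : Subgroup A) (_ : Q.Normal), Nat.card Q = 32 ∧ Cfsg.IsExtraspecial 2 ↥Q ∧
      Nonempty (A ⧸ Q ≃* alternatingGroup (Fin 5)) := by
  obtain ⟨Q, hQ, hc, hes, ⟨q⟩⟩ := h
  have hQ' : (Q.comap e.toMonoidHom).Normal := hQ.comap _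
  have hmap : (Q.comap e.toMonoidHom).map e.toMonoidHom = Q :=
    Subgroup.map_comap_eq_self_of_surjective e.surjective Q
  let eQ : ↥(Q.comap e.toMonoidHom) ≃* ↥Q :=
    (e.subgroupMap (Q.comap e.toMonoidHom)).trans (MulEquiv.subgroupCongr hmap)
  refine ⟨Q.comap e.toMonoidHom, hQ', ?_, ?_, ?_⟩
  · rw [Nat.card_congr eQ.toEquiv, hc]
  · exact isExtraspecial_mulEquiv eQ.symm hes
  · exact ⟨(QuotientGroup.congr (Q.comap e.toMonoidHom) Q e hmap).trans q⟩

/-- centralisers of conjugate elements are isomorphic -/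
theorem centralizer_conj {G : Type*} [Group G] (c γ : G) :
    (Subgroup.centralizer {c}).map (MulAut.conj γ).toMonoidHom =
      Subgroup.centralizer {γ * c * γ⁻¹} := by
  ext x
  rw [Subgroup.mem_map_equiv, Subgroup.mem_centralizer_iff, Subgroup.mem_centralizer_iff]
  constructor
  · intro h y hy
    rw [Set.mem_singleton_iff] at hy
    subst hy
    have h1 := h c (Set.mem_singleton _)
    rw [MulAut.conj_symm_apply] at h1
    have h2 : γ * c * γ⁻¹ * x = γ * (c * (γ⁻¹ * x * γ)) * γ⁻¹ := by group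
    rw [h2, h1]
    group
  · intro h y hy
    rw [Set.mem_singleton_iff] at hy
    subst hy
    have h1 := h (γ * y * γ⁻¹) (Set.mem_singleton _)
    rw [MulAut.conj_symm_apply]
    have h2 : y * (γ⁻¹ * x * γ) = γ⁻¹ * (γ * y * γ⁻¹ * x) * γ := by group
    rw [h2, h1]
    group

/-- the reflection in the line `j` as an element of `twoJ2` -/
noncomputable def Rr (j : Fin 315) : twoJ2 := ⟨lineRefl j, lineRefl_mem j⟩

theorem conj_Rr (g : twoJ2) (j : Fin 315) : g * Rr j * g⁻¹ = Rr (lineHom g j) := by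
  apply Subtype.ext
  show g.1 * lineRefl j * g.1⁻¹ = lineRefl (lineHom g j)
  rw [conj_lineRefl (good_of_mem g.2), lineHom_apply]

theorem lineHom_Rr0 : lineHom (Rr 0) = genPerm 0 := rfl

/-- the permutation representation of `J2` on the 315 lines -/
noncomputable def phiJ : J2 →* Equiv.Perm (Fin 315) :=
  QuotientGroup.lift (Subgroup.center twoJ2) lineHom center_eq_ker.le

theorem phiJ_mk (h : twoJ2) : phiJ (QuotientGroup.mk h) = lineHom h := rfl

theorem phiJ_injective : Function.Injective phiJ := by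
  rw [injective_iff_map_eq_one]
  intro y hy
  obtain ⟨h, rfl⟩ := QuotientGroup.mk_surjective y
  rw [phiJ_mk] at hy
  have h1 : h ∈ Subgroup.center twoJ2 := by
    rw [center_eq_ker]; exact MonoidHom.mem_ker.mpr hy
  exact (QuotientGroup.eq_one_iff h).mpr h1

theorem phiJ_mem (y : J2) : phiJ y ∈ P := by
  obtain ⟨h, rfl⟩ := QuotientGroup.mk_surjective y
  rw [phiJ_mk, ← closure_genPerm, ← range_eq]
  exact ⟨h, rfl⟩

theorem phiJ_surj {π : Equiv.Perm (Fin 315)} (hπ : π ∈ P) : ∃ y : J2, phiJ y = π := by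
  rw [← closure_genPerm, ← range_eq] at hπ
  obtain ⟨h, rfl⟩ := hπ
  exact ⟨QuotientGroup.mk h, rfl⟩

theorem phiJ_R0 : phiJ (QuotientGroup.mk (Rr 0)) = s0 := by
  rw [phiJ_mk, ← genPerm0]
  exact lineHom_Rr0

theorem mem_cent_iff (y : J2) :
    y ∈ Subgroup.centralizer {(QuotientGroup.mk (Rr 0) : J2)} ↔ phiJ y ∈ St0 := by
  rw [Subgroup.mem_centralizer_iff]
  constructor
  · intro h
    have h1 := h _ (Set.mem_singleton _)
    have h2 := congrArg phiJ h1
    rw [map_mul, map_mul, phiJ_R0] at h2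
    exact mem_St0_of_fix (phiJ_mem y) (fix_of_comm (phiJ_mem y) h2.symm)
  · intro h c hc
    rw [Set.mem_singleton_iff] at hc
    subst hc
    apply phiJ_injective
    rw [map_mul, map_mul, phiJ_R0]
    exact (St0_comm h).symm

/-- the centraliser of the image of the reflection in the line `0` is the point stabiliser -/
noncomputable def centEquiv :
    ↥(Subgroup.centralizer {(QuotientGroup.mk (Rr 0) : J2)}) ≃* ↥St0 :=
  MulEquiv.ofBijective
    ((phiJ.comp (Subgroup.subtype _)).codRestrict St0 (fun y => (mem_cent_iff y.1).mp y.2))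
    ⟨fun a b hab => Subtype.ext (phiJ_injective (congrArg Subtype.val hab)),
     fun π => by
      obtain ⟨y, hy⟩ := phiJ_surj (St0_le_P π.2)
      have hy' : y ∈ Subgroup.centralizer {(QuotientGroup.mk (Rr 0) : J2)} := by
        rw [mem_cent_iff, hy]; exact π.2
      exact ⟨⟨y, hy'⟩, Subtype.ext hy⟩⟩

/-- a reflection centraliser in `J2` is an extension of an extraspecial group of order 32 by
the alternating group of degree five -/
theorem refl_centralizer (f : Equiv.Perm ↥icoLeech) (hf : IsIcoReflection f) (hfm : f ∈ twoJ2) :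
    ∃ (Q : Subgroup ↥(Subgroup.centralizer {(QuotientGroup.mk ⟨f, hfm⟩ : J2)})) (_ : Q.Normal),
      Nat.card Q = 32 ∧ Cfsg.IsExtraspecial 2 Q ∧
      Nonempty (↥(Subgroup.centralizer {(QuotientGroup.mk ⟨f, hfm⟩ : J2)}) ⧸ Q ≃*
        alternatingGroup (Fin 5)) := by
  obtain ⟨i, rfl⟩ := (isRefl_iff_line f).mp hf
  obtain ⟨g, hg, hgi⟩ := exists_act i
  have hconj : (⟨g, hg⟩ : twoJ2) * Rr 0 * (⟨g, hg⟩ : twoJ2)⁻¹ = ⟨lineRefl i, hfm⟩ := by
    rw [conj_Rr, lineHom_apply]
    show Rr (lineAct g 0) = Rr i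
    rw [hgi]
  have hmk : (QuotientGroup.mk ⟨lineRefl i, hfm⟩ : J2) =
      (QuotientGroup.mk (⟨g, hg⟩ : twoJ2) : J2) * QuotientGroup.mk (Rr 0) *
        (QuotientGroup.mk (⟨g, hg⟩ : twoJ2) : J2)⁻¹ := by
    rw [← hconj]
    rfl
  have hcent := centralizer_conj (QuotientGroup.mk (Rr 0) : J2)
    (QuotientGroup.mk (⟨g, hg⟩ : twoJ2) : J2)
  rw [← hmk] at hcent
  let e : ↥(Subgroup.centralizer {(QuotientGroup.mk ⟨lineRefl i, hfm⟩ : J2)}) ≃* ↥St0 :=
    ((MulEquiv.subgroupCongr hcent.symm).trans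
      ((MulAut.conj (QuotientGroup.mk (⟨g, hg⟩ : twoJ2) : J2)).subgroupMap
        (Subgroup.centralizer {(QuotientGroup.mk (Rr 0) : J2)})).symm).trans centEquiv
  exact struct_transport e St0_structure

end Cfsg.Agent.Lib.Helper95.Ico
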