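import Mathlib
import Cfsg.Prelude.Def_GeometricClasses
import Cfsg.Prelude.Def_LieClassical
import Cfsg.Agent.Lib.Helper71.Asch5
import Cfsg.Agent.Lib.Helper82.ASB8UNITS
import Cfsg.Agent.Lib.Helper44.BADDefs

/-! Project BAD (helper44; sub-project of helper49's SUG = S5663), piece EGRP (helper95):
the `P (a ⊗ b) P⁻¹`, `a, b ∈ bS`, form a subgroup of `GL (Fin n) F`. -/

set_option autoImplicit false
set_option linter.unusedSectionVars false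

namespace Cfsg.Agent.Lib.Helper44.BAD

open Matrix Cfsg.Geo Cfsg.Agent.Lib.Helper71.Asch
open scoped Kronecker

variable {n : ℕ} {F : Type*} [Field F] [Fintype F] {q : ℕ}

/-- the subgroup of the `P (a ⊗ b) P⁻¹`, `a, b ∈ bS` -/
def EGRP_sub (e : Fin n ≃ Fin 3 × Fin 3) (P : GL (Fin n) F) (hS : SMULp F) :
    Subgroup (GL (Fin n) F) where
  carrier := {g | ∃ a ∈ bS F, ∃ b ∈ bS F, g.1 = tmat e P a b}
  mul_mem' := by
    rintro g g' ⟨a, ha, b, hb, hg⟩ ⟨a', ha', b', hb', hg'⟩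
    refine ⟨a * a', hS.2.1 a ha a' ha', b * b', hS.2.1 b hb b' hb', ?_⟩
    rw [Units.val_mul, hg, hg', Cfsg.Agent.Lib.Helper82.ASB8UNITS.tmat_mul]
  one_mem' := by
    refine ⟨1, hS.1, 1, hS.1, ?_⟩
    rw [Units.val_one, Cfsg.Agent.Lib.Helper82.ASB8UNITS.tmat_one]
  inv_mem' := by
    rintro g ⟨a, ha, b, hb, hg⟩
    obtain ⟨a', ha', haa', -⟩ := hS.2.2 a ha
    obtain ⟨b', hb', hbb', -⟩ := hS.2.2 b hb
    refine ⟨a', ha', b', hb', ?_⟩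
    have h1 : g.1 * tmat e P a' b' = 1 := by
      rw [hg, Cfsg.Agent.Lib.Helper82.ASB8UNITS.tmat_mul, haa', hbb',
        Cfsg.Agent.Lib.Helper82.ASB8UNITS.tmat_one]
    have h2 : (g⁻¹ : GL (Fin n) F).1 * g.1 = 1 := by
      rw [← Units.val_mul, inv_mul_cancel, Units.val_one]
    calc (g⁻¹ : GL (Fin n) F).1 = (g⁻¹ : GL (Fin n) F).1 * (g.1 * tmat e P a' b') := by
          rw [h1, mul_one]
      _ = ((g⁻¹ : GL (Fin n) F).1 * g.1) * tmat e P a' b' := by rw [mul_assoc]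
      _ = tmat e P a' b' := by rw [h2, one_mul]

/-- EGRP: the `P (a ⊗ b) P⁻¹`, `a, b ∈ bS`, form a subgroup. -/
theorem EGRP (e : Fin n ≃ Fin 3 × Fin 3) (P : GL (Fin n) F) (hS : SMULp F) :
    ∃ E : Subgroup (GL (Fin n) F), EIs e P E ∧
      ∀ a ∈ bS F, ∀ b ∈ bS F, ∃ g ∈ E, g.1 = tmat e P a b := by
  refine ⟨EGRP_sub e P hS, fun g => Iff.rfl, ?_⟩
  intro a ha b hb
  obtain ⟨a', ha', haa', ha'a⟩ := hS.2.2 a ha
  obtain ⟨b', hb', hbb', hb'b⟩ := hS.2.2 b hb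
  have h1 : tmat e P a b * tmat e P a' b' = 1 := by
    rw [Cfsg.Agent.Lib.Helper82.ASB8UNITS.tmat_mul, haa', hbb',
      Cfsg.Agent.Lib.Helper82.ASB8UNITS.tmat_one]
  have h2 : tmat e P a' b' * tmat e P a b = 1 := by
    rw [Cfsg.Agent.Lib.Helper82.ASB8UNITS.tmat_mul, ha'a, hb'b,
      Cfsg.Agent.Lib.Helper82.ASB8UNITS.tmat_one]
  exact ⟨⟨tmat e P a b, tmat e P a' b', h1, h2⟩, ⟨a, ha, b, hb, rfl⟩, rfl⟩

end Cfsg.Agent.Lib.Helper44.BAD
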