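import Mathlib
import Cfsg.Agent.Lib.Helper10.BWDefs

/-! S0997 project BW, piece BW-NREG (helper95). -/

set_option autoImplicit false
set_option linter.style.haveILetI false

namespace Cfsg.Agent.Lib.Helper10.BW

open Cfsg
open Cfsg.Agent.Lib.Helper83 (trivIrr)
open Cfsg.Agent.Lib.Helper10.BR (psum)
open scoped ComplexConjugate

universe u

variable {G : Type u} [Group G] [Fintype G]

/-- an element of order `p` of the normalizer of `P` (`|P| = p`, `|N(P)| = e p`, `e < p`) lies
in `P`. -/
theorem nreg_mem_of_order (p e : ℕ) (hp : p.Prime) (he : 0 < e) (hep : e < p) (P : Subgroup G)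
    (hP : Nat.card P = p) (hN : Nat.card (Subgroup.normalizer (P : Set G)) = e * p)
    (z : G) (hz : z ∈ Subgroup.normalizer (P : Set G)) (hzp : z ^ p = 1) : z ∈ P := by
  classical
  set N : Subgroup G := Subgroup.normalizer (P : Set G) with hNdef
  have hPN : P ≤ N := Subgroup.le_normalizer
  let P' : Subgroup N := P.subgroupOf N
  haveI : P'.Normal := Subgroup.normal_in_normalizer
  have hcP' : Nat.card P' = p := by
    rw [← hP]
    exact Nat.card_congr (Subgroup.subgroupOfEquivOfLe hPN).toEquiv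
  have hcard : Nat.card N = Nat.card (N ⧸ P') * Nat.card P' :=
    Subgroup.card_eq_card_quotient_mul_card_subgroup P'
  have hq : Nat.card (N ⧸ P') = e := by
    rw [hN, hcP'] at hcard
    exact (Nat.eq_of_mul_eq_mul_right hp.pos hcard).symm
  let z' : N := ⟨z, hz⟩
  have h1 : (QuotientGroup.mk z' : N ⧸ P') ^ p = 1 := by
    rw [← QuotientGroup.mk_pow]
    have : z' ^ p = 1 := Subtype.ext (by simpa using hzp)
    rw [this]; rfl
  have h2 : (QuotientGroup.mk z' : N ⧸ P') ^ e = 1 := by
    rw [← hq]; exact pow_card_eq_one'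
  have hcop : Nat.Coprime p e :=
    (Nat.Prime.coprime_iff_not_dvd hp).mpr (Nat.not_dvd_of_pos_of_lt he hep)
  have h3 : orderOf (QuotientGroup.mk z' : N ⧸ P') ∣ Nat.gcd p e :=
    Nat.dvd_gcd (orderOf_dvd_of_pow_eq_one h1) (orderOf_dvd_of_pow_eq_one h2)
  have h4 : (QuotientGroup.mk z' : N ⧸ P') = 1 := by
    rw [← orderOf_eq_one_iff]
    rw [Nat.Coprime] at hcop
    rw [hcop] at h3
    exact Nat.eq_one_of_dvd_one h3
  have h5 : z' ∈ P' := (QuotientGroup.eq_one_iff z').mp h4
  exact Subgroup.mem_subgroupOf.mp h5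

/-- BW-NREG -/
theorem nreg {p e : ℕ} {P : Subgroup G} {θ θ' : IrrCharacter G}
    {Xp Xm D : Finset (IrrCharacter G)} (h : VTab G p e P θ θ' Xp Xm D) (y : G)
    (hy : y ∈ Subgroup.normalizer (P : Set G)) (hyP : y ∉ P) : ¬ p ∣ orderOf y := by
  intro hdvd
  have hp := h.hp
  have hpe := h.hpe
  have he2 := h.he2
  have hoy : orderOf y ≠ 0 := (orderOf_pos y).ne'
  set z : G := y ^ (orderOf y / p) with hzdef
  have hoz : orderOf z = p := orderOf_pow_orderOf_div hoy hdvd
  have hzN : z ∈ Subgroup.normalizer (P : Set G) := Subgroup.pow_mem _ hy _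
  have hzp : z ^ p = 1 := by rw [← hoz]; exact pow_orderOf_eq_one z
  have hzP : z ∈ P :=
    nreg_mem_of_order p e hp (by omega) (by omega) P h.cardP h.cardN z hzN hzp
  have hle : Subgroup.zpowers z ≤ P := (Subgroup.zpowers_le).mpr hzP
  haveI : Finite P := inferInstance
  have hEq : Subgroup.zpowers z = P := by
    apply Subgroup.eq_of_le_of_card_ge hle
    rw [Nat.card_zpowers, hoz, h.cardP]
  have hc : Commute y z := (Commute.refl y).pow_right _
  have hyC : y ∈ Subgroup.centralizer (P : Set G) := by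
    rw [Subgroup.mem_centralizer_iff]
    intro u hu
    have hu' : u ∈ Subgroup.zpowers z := by rw [hEq]; exact hu
    obtain ⟨k, rfl⟩ := Subgroup.mem_zpowers_iff.mp hu'
    exact (hc.zpow_right k).eq.symm
  rw [h.cent] at hyC
  exact hyP hyC

end Cfsg.Agent.Lib.Helper10.BW
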