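import Cfsg.Agent.Lib.Helper7.SimsCard
import Cfsg.Agent.Lib.Helper38.Fi22Pres
import Cfsg.Agent.Lib.Helper95.FiT

/-!
# The permutation representation of degree 3510 of Fi22: computational definitions

All functions here are written with raw `Nat` primitives so that the kernel evaluates the
Boolean certificates (proved in the files `FiK*`) quickly.
-/

set_option autoImplicit false

namespace Cfsg.Agent.Lib.Helper95.FiO

open Cfsg.Agent.Lib.Helper7.Sims Cfsg.Agent.Lib.Helper38.Fi22P

/-- 12-bit packed table lookup -/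
def ap12 (T i : ℕ) : ℕ := Nat.land (Nat.shiftRight T (Nat.mul 12 i)) 4095

/-- 4-bit packed table lookup -/
def ap4 (T i : ℕ) : ℕ := Nat.land (Nat.shiftRight T (Nat.mul 4 i)) 15

/-- list lookup with a default -/
def nthD (d : ℕ) : List ℕ → ℕ → ℕ
  | [], _ => d
  | T :: _, 0 => T
  | _ :: l, i + 1 => nthD d l i

/-- exclusive or -/
def xorB : Bool → Bool → Bool
  | true, b => !b
  | false, b => b

/-- the generator tables -/
def GenL : List ℕ := [G0, G1, G2, G3, G4, G5, G6, G7, G8]

/-- the table of the generator number `s` -/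
def gt (s : ℕ) : ℕ := nthD G8 GenL s

/-- the generator tables are involutions -/
def glChk : Bool := GenL.all (fun T => invChk ap12 3510 T T)

/-- the identity table -/
def idChk : Bool := allLt (fun i => Nat.beq (ap12 IDT i) i) 3510

/-- evaluation of a word in the generators on a point -/
def evalW : List ℕ → ℕ → ℕ
  | [], x => x
  | s :: w, x => ap12 (gt s) (evalW w x)

/-- the relators hold -/
def wordsChk : Bool := words.all (fun w => allLt (fun i => Nat.beq (evalW w i) i) 3510)

/-- the tables of the first tree -/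
def S0L : List ℕ := [IDT, G0, G1, G2, G3, G4, G5, G6, G7, G8]

/-- the image of `j` under the tree element moving `i` to the base point -/
def walk : ℕ → ℕ → ℕ → ℕ
  | 0, _, j => j
  | f + 1, i, j =>
    bif Nat.beq i 0 then j else
      forceNat (ap4 LAB0 i) (fun l =>
        forceNat (ap12 (nthD IDT S0L l) i) (fun i' =>
          forceNat (ap12 (nthD IDT S0L l) j) (fun j' => walk f i' j')))

/-- the image of `j` under the inverse of the tree element moving `i` to the base point -/
def unwalk : ℕ → ℕ → ℕ → ℕ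
  | 0, _, j => j
  | f + 1, i, j =>
    bif Nat.beq i 0 then j else
      forceNat (ap4 LAB0 i) (fun l =>
        forceNat (ap12 (nthD IDT S0L l) i) (fun i' =>
          ap12 (nthD IDT S0L l) (unwalk f i' j)))

/-- the tree reaches the base point -/
def walkChk : Bool := allLt (fun i => Nat.beq (walk 34 i i) 0) 3510

/-- the image of the point `q` under the transposition attached to the point `p` -/
def rhoApB (p q : ℕ) : ℕ :=
  forceNat p (fun p' => forceNat q (fun q' => unwalk 34 p' (ap12 G0 (walk 34 p' q'))))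

/-- the transposition attached to the point `p` fixes the point `q` -/
def adjB (p q : ℕ) : Bool :=
  forceNat p (fun p' => forceNat q (fun q' =>
    forceNat (walk 34 p' q') (fun w => Nat.beq (ap12 G0 w) w)))

/-- the base points -/
def bp : ℕ → ℕ := nthD 256 [0, 14, 12, 10, 243, 1965, 154, 215, 256]

/-- the generator attached to a base point -/
def gbI : ℕ → ℕ := nthD 6 [0, 1, 2, 3, 7, 8, 4, 5, 6]

/-- the table of the generator attached to a base point -/
def gbT (r : ℕ) : ℕ := gt (gbI r)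

/-- the transpositions attached to the base points are the generators -/
def bpChk : Bool :=
  allLt (fun r => allLt (fun j => Nat.beq (rhoApB (bp r) j) (ap12 (gbT r) j)) 3510) 9

/-- distinct points have distinct transpositions -/
def witChk : Bool :=
  allLt (fun k => Nat.beq k 0 ||
    forceNat (ap12 WITT k) (fun w => Nat.blt w 3510 && xorB (adjB k w) (adjB 0 w))) 3510

/-- the fifth power of the word `abcdeh` -/
def w5f (i : ℕ) : ℕ := ap12 G0 (ap12 G1 (ap12 G2 (ap12 G3 (ap12 G4 (ap12 G7 i)))))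

/-- the generators of the subgroup of index 3510 fix the base point and commute with the
first generator -/
def b1Chk : Bool :=
  allLt (fun i => Nat.beq (w5f^[5] (ap12 G0 i)) (ap12 G0 (w5f^[5] i))) 3510 &&
    Nat.beq (w5f^[5] 0) 0 &&
    allLt (fun s => Nat.beq s 1 || (Nat.beq (ap12 (gt s) 0) 0 &&
      allLt (fun i => Nat.beq (ap12 (gt s) (ap12 G0 i)) (ap12 G0 (ap12 (gt s) i))) 3510)) 9

/-! ### Certified tables -/

/-- the table is the composition of the chain of tables -/
def chainChk (T : ℕ) (ch : List ℕ) : Bool :=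
  allLt (fun i => Nat.beq (ap12 T i) (evalChain ap12 ch i)) 3510

def q90C : List ℕ := [G1, G2, G3, G7, G4, G3, G2, G1, G0, G1, G2, G3, G4, G7, G3, G2, G1]
def q86C : List ℕ := [G2, G3, G4, G1, G2, G3, G7, G5, G4, G3, G2, G1, G0, G1, G2, G3, G4, G5, G7, G3, G2, G1, G4, G3, G2]
def q151C : List ℕ := [G3, G7, G2, G3, G4, G1, G2, G3, G7, G5, G4, G3, G2, G1, G0, G1, G2, G3, G4, G5, G7, G3, G2, G1, G4, G3, G2, G7, G3]
def q152C : List ℕ := [G4, G3, G7, G2, G3, G4, G1, G2, G3, G7, G5, G4, G3, G2, G1, G0, G1, G2, G3, G4, G5, G7, G3, G2, G1, G4, G3, G2, G7, G3, G4]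
def q251C : List ℕ := [G6, G4, G5, G3, G4, G2, G3, G1, G2, G0, G1, G0, G1, G0, G2, G1, G3, G2, G4, G3, G5, G4, G6]
def xC : List ℕ := [G5, G3, G7, G0, G1, G2, G3, G4, G7, G0, G1, G2, G3, G4, G7, G0, G1, G2, G3, G4, G7, G0, G1, G2, G3, G4, G7, G0, G1, G2, G3, G4, G7, G5, G6, G2, G8, G4, G7, G5]
def p0C : List ℕ := [G7, Q151, G6, G3, G4, Q86, G6, G2, G3, G7, Q90, G5, G6, G1, G0, G2, G1, G3, G2, G4, G3, G5, G4, G6, G5]

/-- the element of order eleven: order and fixed points -/
def xChk : Bool :=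
  allLt (fun i => Nat.beq ((ap12 XT)^[11] i) i &&
    (Nat.beq i 0 || !(Nat.beq (ap12 XT i) i))) 3510 && Nat.beq (ap12 XT 0) 0

/-! ### The levels of the chase -/

/-- the tables of the levels -/
def lvS : ℕ → List ℕ
  | 0 => S0L
  | 1 => [IDT, G2, G3, G7, G8, G4, G5, G6, Q90]
  | 2 => [IDT, G3, G7, G8, G4, G5, G6, Q86]
  | 3 => [IDT, G7, G8, G4, G5, G6, Q151]
  | 4 => [IDT, G8, Q152, G5, Q251]
  | 5 => [IDT, Q152, G5, Q251]
  | 6 => [IDT, G5, G6]
  | 7 => [IDT, G6]
  | _ => [IDT]

/-- the label tables of the levels -/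
def lvLAB : ℕ → ℕ
  | 0 => LAB0
  | 1 => LAB1
  | 2 => LAB2
  | 3 => LAB3
  | 4 => LAB4
  | 5 => LAB5
  | 6 => LAB6
  | 7 => LAB7
  | _ => 0

/-- the depths of the trees of the levels -/
def lvFuel : ℕ → ℕ
  | 0 => 34
  | 1 => 18
  | 2 => 12
  | 3 => 7
  | 4 => 4
  | 5 => 3
  | 6 => 2
  | 7 => 1
  | _ => 0

/-- follow the labels of a tree for `f` steps -/
def climb (S : List ℕ) (LAB : ℕ) : ℕ → ℕ → ℕ
  | 0, c => c
  | f + 1, c => forceNat (ap12 (nthD IDT S (ap4 LAB c)) c) (fun c' => climb S LAB f c')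

/-- the generator attached to the base point `r` fixes the point `c` -/
def fixB (r c : ℕ) : Bool := Nat.beq (ap12 (gbT r) c) c

/-- the point `c` is related to the first `k` base points as the base point `k` is -/
def patB (k c : ℕ) : Bool :=
  allLt (fun r => !(Nat.beq c (bp r)) && !(xorB (fixB r c) (fixB r (bp k)))) k

/-- the points with the pattern of the base point `k` are moved to it by the tree -/
def lvChk (k : ℕ) : Bool :=
  allLt (fun c => !(patB k c) ||
    Nat.beq (climb (lvS k) (lvLAB k) (lvFuel k) c) (bp k)) 3510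

/-- the tables of the level `k` fix the first `k` base points -/
def lvFixChk (k : ℕ) : Bool :=
  (lvS k).all (fun T => allLt (fun r => Nat.beq (ap12 T (bp r)) (bp r)) k)

def O1L : List ℕ := [243, 253, 316, 430, 523]
def O2L : List ℕ := [190, 524, 525, 1674, 1766]
def O3L : List ℕ := [151, 154, 155, 160, 161, 191, 252, 526, 1620, 1675]
def W6L : List ℕ := [152, 153, 215, 251, 256, 1585]

/-- the candidates at the level four -/
def cand4Chk : Bool :=
  allLt (fun c => !(patB 4 c) || memB c O1L || memB c O2L || memB c O3L) 3510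

/-- the first orbit at the level four -/
def o1Chk : Bool :=
  O1L.all (fun c => Nat.beq (climb (lvS 4) (lvLAB 4) (lvFuel 4) c) 243)

/-- the second orbit at the level four -/
def o2Chk : Bool :=
  O2L.all (fun c => memB (ap12 P0T (ap12 TT c)) O1L) &&
    allLt (fun r => Nat.beq (ap12 P0T (ap12 TT (bp r))) (bp r)) 4

/-- the number of `i < n` with `P i` -/
def cntLt (P : ℕ → Bool) : ℕ → ℕ
  | 0 => 0
  | k + 1 => bif P k then Nat.succ (cntLt P k) else cntLt P k

/-- a common neighbour of the first four base points and of the point `c` -/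
def cntP (c w : ℕ) : Bool := fixB 0 w && fixB 1 w && fixB 2 w && fixB 3 w && adjB c w

/-- the third orbit at the level four -/
def o3Chk : Bool :=
  O3L.all (fun c => Nat.ble (cntLt (cntP c) 3510) 5) &&
    W6L.all (fun w => Nat.blt w 3510 && allLt (fun r => fixB r w) 5) && nodupB W6L

/-! ### The class of transpositions -/

/-- expressions in a point, its images under the element of order eleven, and the products -/
inductive Ex
  | z : Ex
  | v : Ex
  | x : ℕ → Ex → Ex
  | r : Ex → Ex → Ex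

/-- evaluation of an expression -/
def ev (γ : ℕ) : Ex → ℕ
  | .z => 0
  | .v => γ
  | .x k e => (ap12 XT)^[k] (ev γ e)
  | .r e1 e2 => rhoApB (ev γ e1) (ev γ e2)

def SCL : List (Ex × Ex × Bool) :=
  [(Ex.z, Ex.v, false), (Ex.v, (Ex.x 3 Ex.v), true), ((Ex.r Ex.v (Ex.x 10 Ex.v)), Ex.z, true), ((Ex.r Ex.v (Ex.x 10 Ex.v)), (Ex.x 1 Ex.v), true)]

def XCL : List (Ex × Ex) :=
  [(Ex.v, (Ex.x 2 Ex.v)), (Ex.v, (Ex.x 1 Ex.v)), (Ex.v, (Ex.x 3 Ex.v))]

/-- a constraint of the first kind fails -/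
def badS (γ : ℕ) : Bool :=
  SCL.any (fun c => xorB (adjB (ev γ c.1) (ev γ c.2.1)) c.2.2)

/-- a constraint of the second kind fails -/
def badX (γ : ℕ) : Bool :=
  XCL.any (fun c => xorB (adjB (ev γ c.1) (ev 14 c.2)) (adjB (ev 14 c.1) (ev γ c.2)))

/-- only two points satisfy all the constraints -/
def consChk : Bool :=
  allLt (fun γ => Nat.beq γ 14 || Nat.beq γ 1 || badS γ || badX γ) 3510

/-- the expressions of the base points -/
def gE : ℕ → Ex
  | 0 => Ex.z
  | 1 => Ex.v
  | 2 => (Ex.r Ex.v (Ex.x 10 Ex.v))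
  | 3 => (Ex.r (Ex.x 1 Ex.v) (Ex.x 10 Ex.v))
  | 4 => (Ex.r (Ex.r Ex.z (Ex.x 2 Ex.v)) (Ex.r (Ex.x 3 Ex.v) (Ex.x 8 Ex.v)))
  | 5 => (Ex.r (Ex.x 2 Ex.v) (Ex.r (Ex.r Ex.v (Ex.x 6 Ex.v)) (Ex.r (Ex.x 3 Ex.v) (Ex.x 4 Ex.v))))
  | 6 => (Ex.r (Ex.r Ex.z (Ex.x 6 Ex.v)) (Ex.r Ex.v (Ex.x 5 Ex.v)))
  | 7 => (Ex.r (Ex.x 2 Ex.v) (Ex.r (Ex.r Ex.v (Ex.x 10 Ex.v)) (Ex.r (Ex.x 3 Ex.v) (Ex.x 8 Ex.v))))
  | _ => (Ex.r (Ex.x 7 Ex.v) (Ex.r (Ex.r Ex.v (Ex.x 5 Ex.v)) (Ex.r (Ex.x 8 Ex.v) (Ex.x 9 Ex.v))))

/-- the constraints hold at the point 14, and the expressions give the base points -/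
def betaChk : Bool :=
  !(badS 14) && Nat.beq (ap12 G0 14) 1 && Nat.beq (ap12 G0 1) 14 &&
    allLt (fun r => Nat.beq (ev 14 (gE r)) (bp r)) 9

/-! ### The outer automorphism -/

/-- the graph automorphism on the generators -/
def swI : ℕ → ℕ := nthD 8 [6, 5, 4, 3, 2, 1, 0, 7, 8]

/-- the table `TT` is an involution normalising the generators -/
def ttChk : Bool :=
  invChk ap12 3510 TT TT &&
    allLt (fun s => allLt (fun i =>
      Nat.beq (ap12 TT (ap12 (gt s) i)) (ap12 (gt (swI s)) (ap12 TT i))) 3510) 9 &&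
    Nat.beq (ap12 TT 256) 0

/-- the point `i` is moved by the table `T` -/
def movedB (T i : ℕ) : Bool := !(Nat.beq (ap12 T i) i)

/-- the numbers of moved points -/
def signChk : Bool :=
  Nat.beq (cntLt (movedB TT) 3510) 3150 &&
    GenL.all (fun T => Nat.beq (cntLt (movedB T) 3510) 2816)

end Cfsg.Agent.Lib.Helper95.FiO
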