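import Cfsg.Agent.Lib.Helper95.FiA

/-!
# Fi22 on 3510 points: kernel-checked certificates (transpositions)
-/

set_option autoImplicit false
set_option maxHeartbeats 400000

namespace Cfsg.Agent.Lib.Helper95.FiO

open Cfsg.Agent.Lib.Helper7.Sims

theorem bpChk_ok : bpChk = true := by decide +kernel

theorem witChk_ok : witChk = true := by decide +kernel

end Cfsg.Agent.Lib.Helper95.FiO
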