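import Cfsg.Agent.Lib.Helper95.FiK1
import Cfsg.Agent.Lib.Helper95.FiK2
import Cfsg.Agent.S1696

/-!
# Fi22 as a permutation group of degree 3510: the transpositions

The presented group acts faithfully on 3510 points; the point stabiliser is the subgroup of
index 3510 of the statement S1687 and centralises the first generator.  Hence the conjugates
`rho j` of the first generator are parametrised by the points, equivariantly.
-/

set_option autoImplicit false
set_option maxHeartbeats 400000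

namespace Cfsg.Agent.Lib.Helper95.FiO

open Cfsg.Spor Cfsg.Agent.Lib.Helper7.Sims Cfsg.Agent.Lib.Helper38.Fi22P Equiv

theorem nthD_cases (d : ℕ) : ∀ (l : List ℕ) (i : ℕ), nthD d l i ∈ l ∨ nthD d l i = d
  | [], _ => Or.inr rfl
  | T :: _, 0 => Or.inl List.mem_cons_self
  | _ :: l, i + 1 => by
    rcases nthD_cases d l i with h | h
    · exact Or.inl (List.mem_cons_of_mem _ h)
    · exact Or.inr h

theorem xorB_self (a : Bool) : xorB a a = false := by cases a <;> rfl

theorem xorB_false {a b : Bool} (h : xorB a b = false) : a = b := by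
  cases a <;> cases b <;> first | rfl | exact Bool.noConfusion h

theorem sub_of_chk {l1 l2 : List ℕ} (h : l1.all (fun T => memB T l2) = true) :
    ∀ T ∈ l1, T ∈ l2 :=
  fun T hT => (memB_iff _ _).1 (List.all_eq_true.1 h T hT)

/-! ### The generators -/

theorem gt_mem (s : ℕ) : gt s ∈ GenL := by
  rcases nthD_cases G8 GenL s with h | h
  · exact h
  · rw [gt, h]; simp [GenL]

theorem gt_inv (s : ℕ) : invChk ap12 3510 (gt s) (gt s) = true := by
  have h : GenL.all (fun T => invChk ap12 3510 T T) = true := glChk_ok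
  exact List.all_eq_true.1 h _ (gt_mem s)

/-- the generating involutions -/
def gN (s : ℕ) : Perm (Fin 3510) := permOf ap12 3510 (gt s) (gt s) (gt_inv s)

theorem gN_acts (s : ℕ) : ActsAs (gN s) (ap12 (gt s)) := permOf_actsAs (gt_inv s)

theorem gN_apply (s : ℕ) (k : Fin 3510) : ((gN s k : Fin 3510) : ℕ) = ap12 (gt s) k :=
  gN_acts s k

theorem gN_sq (s : ℕ) : gN s * gN s = 1 :=
  ActsAs.ext' ((gN_acts s).mul (gN_acts s)) actsAs_one
    (fun i hi => (invChk_spec (gt_inv s) i hi).2.2.1)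

theorem evalW_acts : ∀ w : List ℕ, ActsAs ((w.map gN).prod) (evalW w)
  | [] => fun _ => rfl
  | s :: w => fun i => ((gN_acts s).mul (evalW_acts w)) i

theorem gN_words : ∀ w ∈ words, (w.map gN).prod = 1 := by
  intro w hw
  have h0 : words.all (fun w => allLt (fun i => Nat.beq (evalW w i) i) 3510) = true :=
    wordsChk_ok
  have h := List.all_eq_true.1 h0 w hw
  exact ActsAs.ext' (evalW_acts w) actsAs_one
    (fun i hi => (nbeq_iff _ _).1 ((allLt_iff _ 3510).1 h i hi))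

/-- the permutation representation -/
noncomputable def rhoF : Fi22 →* Perm (Fin 3510) :=
  PresentedGroup.toGroup (lift_one gN gN_sq gN_words)

/-- the generators as permutations -/
def gP (x : Fi22.Gen) : Perm (Fin 3510) := gN (idx x)

theorem rhoF_of (x : Fi22.Gen) : rhoF (PresentedGroup.of x) = gP x :=
  PresentedGroup.toGroup.of _

theorem rhoF_mk (x : Fi22.Gen) :
    rhoF (PresentedGroup.mk (coxRelators Fi22.edges ∪ {r | r ∈ Fi22.extra}) (FreeGroup.of x)) =
      gN (idx x) :=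
  rhoF_of x

/-- the permutation group -/
def PF : Subgroup (Perm (Fin 3510)) := Subgroup.closure (Set.range gP)

theorem range_rhoF : rhoF.range = PF := by
  rw [MonoidHom.range_eq_map, ← PresentedGroup.closure_range_of, MonoidHom.map_closure, PF]
  congr 1
  ext g
  constructor
  · rintro ⟨_, ⟨x, rfl⟩, rfl⟩
    exact ⟨x, (rhoF_of x).symm⟩
  · rintro ⟨x, rfl⟩
    exact ⟨_, ⟨x, rfl⟩, rhoF_of x⟩

theorem gen_cert : ∀ T ∈ GenL, ∃ g ∈ PF, ActsAs g (ap12 T) ∧ g * g = 1 := by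
  intro T hT
  simp only [GenL, List.mem_cons, List.mem_nil_iff, or_false] at hT
  rcases hT with rfl | rfl | rfl | rfl | rfl | rfl | rfl | rfl | rfl
  · exact ⟨gP .a, Subgroup.subset_closure ⟨.a, rfl⟩, gN_acts 0, gN_sq 0⟩
  · exact ⟨gP .b, Subgroup.subset_closure ⟨.b, rfl⟩, gN_acts 1, gN_sq 1⟩
  · exact ⟨gP .c, Subgroup.subset_closure ⟨.c, rfl⟩, gN_acts 2, gN_sq 2⟩
  · exact ⟨gP .d, Subgroup.subset_closure ⟨.d, rfl⟩, gN_acts 3, gN_sq 3⟩
  · exact ⟨gP .e, Subgroup.subset_closure ⟨.e, rfl⟩, gN_acts 4, gN_sq 4⟩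
  · exact ⟨gP .f, Subgroup.subset_closure ⟨.f, rfl⟩, gN_acts 5, gN_sq 5⟩
  · exact ⟨gP .g, Subgroup.subset_closure ⟨.g, rfl⟩, gN_acts 6, gN_sq 6⟩
  · exact ⟨gP .h, Subgroup.subset_closure ⟨.h, rfl⟩, gN_acts 7, gN_sq 7⟩
  · exact ⟨gP .i, Subgroup.subset_closure ⟨.i, rfl⟩, gN_acts 8, gN_sq 8⟩

theorem gN_mem (s : ℕ) : gN s ∈ PF := by
  obtain ⟨g, hg, ha, -⟩ := gen_cert (gt s) (gt_mem s)
  rw [ActsAs.ext (gN_acts s) ha]
  exact hg

theorem idt_ap (i : ℕ) (hi : i < 3510) : ap12 IDT i = i := by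
  have h : allLt (fun i => Nat.beq (ap12 IDT i) i) 3510 = true := idChk_ok
  exact (nbeq_iff _ _).1 ((allLt_iff _ 3510).1 h i hi)

theorem idt_acts : ActsAs (1 : Perm (Fin 3510)) (ap12 IDT) := fun i => (idt_ap i i.2).symm

theorem s0_cert : ∀ T ∈ S0L, ∃ g ∈ PF, ActsAs g (ap12 T) ∧ g * g = 1 := by
  intro T hT
  have hT' : T ∈ IDT :: GenL := hT
  rcases List.mem_cons.1 hT' with rfl | h
  · exact ⟨1, one_mem _, idt_acts, one_mul 1⟩
  · exact gen_cert T h

/-! ### The tree -/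

theorem walk_succ (f i j : ℕ) : walk (f + 1) i j =
    bif Nat.beq i 0 then j else
      walk f (ap12 (nthD IDT S0L (ap4 LAB0 i)) i) (ap12 (nthD IDT S0L (ap4 LAB0 i)) j) := by
  simp only [walk, forceNat_eq]

theorem unwalk_succ (f i j : ℕ) : unwalk (f + 1) i j =
    bif Nat.beq i 0 then j else
      ap12 (nthD IDT S0L (ap4 LAB0 i)) (unwalk f (ap12 (nthD IDT S0L (ap4 LAB0 i)) i) j) := by
  simp only [unwalk, forceNat_eq]

theorem walk_sound : ∀ (f i : ℕ) (_ : i < 3510), ∃ p ∈ PF,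
    (∀ j : Fin 3510, ((p j : Fin 3510) : ℕ) = walk f i j) ∧
    (∀ j : Fin 3510, ((p⁻¹ j : Fin 3510) : ℕ) = unwalk f i j)
  | 0, _, _ => ⟨1, one_mem _, fun _ => rfl, fun _ => rfl⟩
  | f + 1, i, hi => by
    cases h0 : Nat.beq i 0 with
    | true =>
      refine ⟨1, one_mem _, fun j => ?_, fun j => ?_⟩
      · rw [walk_succ, h0]; rfl
      · rw [unwalk_succ, h0]; rfl
    | false =>
      have hT : nthD IDT S0L (ap4 LAB0 i) ∈ S0L := by
        rcases nthD_cases IDT S0L (ap4 LAB0 i) with h | h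
        · exact h
        · rw [h]; exact List.mem_cons_self
      obtain ⟨g, hg, ha, hsq⟩ := s0_cert _ hT
      have hi' : ap12 (nthD IDT S0L (ap4 LAB0 i)) i < 3510 := by
        have e := ha ⟨i, hi⟩
        rw [← e]; exact (g ⟨i, hi⟩).2
      obtain ⟨p, hp, h1, h2⟩ := walk_sound f _ hi'
      have hginv : g⁻¹ = g := inv_eq_of_mul_eq_one_left hsq
      have hga : ∀ k : Fin 3510, ((g k : Fin 3510) : ℕ) = ap12 (nthD IDT S0L (ap4 LAB0 i)) k := ha
      refine ⟨p * g, mul_mem hp hg, fun j => ?_, fun j => ?_⟩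
      · rw [walk_succ, h0, Perm.mul_apply, h1, hga]; rfl
      · rw [unwalk_succ, h0, mul_inv_rev, hginv, Perm.mul_apply, hga, h2]; rfl

theorem exV (i : Fin 3510) : ∃ p : ↥PF,
    (∀ j : Fin 3510, ((p.1 j : Fin 3510) : ℕ) = walk 34 i j) ∧
    (∀ j : Fin 3510, ((p.1⁻¹ j : Fin 3510) : ℕ) = unwalk 34 i j) := by
  obtain ⟨p, hp, h1, h2⟩ := walk_sound 34 i.1 i.2
  exact ⟨⟨p, hp⟩, h1, h2⟩

/-- an element of the group moving the point `i` to the base point -/
noncomputable def V (i : Fin 3510) : ↥PF := Classical.choose (exV i)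

theorem V_walk (i j : Fin 3510) : (((V i).1 j : Fin 3510) : ℕ) = walk 34 i j :=
  (Classical.choose_spec (exV i)).1 j

theorem V_unwalk (i j : Fin 3510) : (((V i).1⁻¹ j : Fin 3510) : ℕ) = unwalk 34 i j :=
  (Classical.choose_spec (exV i)).2 j

theorem V_self (i : Fin 3510) : (V i).1 i = 0 := by
  apply Fin.ext
  rw [V_walk]
  have h : allLt (fun i => Nat.beq (walk 34 i i) 0) 3510 = true := walkChk_ok
  exact (nbeq_iff _ _).1 ((allLt_iff _ 3510).1 h i.1 i.2)

theorem V_inv_zero (i : Fin 3510) : (V i).1⁻¹ 0 = i := by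
  rw [Perm.inv_eq_iff_eq, V_self]

/-- the first generator -/
noncomputable def t0 : ↥PF := ⟨gN 0, gN_mem 0⟩

/-- the transposition attached to a point -/
noncomputable def rho (i : Fin 3510) : ↥PF := (V i)⁻¹ * t0 * V i

theorem rho_val (i : Fin 3510) : (rho i).1 = (V i).1⁻¹ * gN 0 * (V i).1 := rfl

theorem rho_apply (i j : Fin 3510) : (((rho i).1 j : Fin 3510) : ℕ) = rhoApB i j := by
  have h1 : rhoApB i j = unwalk 34 i (ap12 G0 (walk 34 i j)) := by
    simp only [rhoApB, forceNat_eq]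
  rw [h1, rho_val, Perm.mul_apply, Perm.mul_apply, V_unwalk, gN_apply, V_walk]
  rfl

theorem adj_iff (i j : Fin 3510) : (rho i).1 j = j ↔ adjB i j = true := by
  have h1 : adjB i j = Nat.beq (ap12 G0 (walk 34 i j)) (walk 34 i j) := by
    simp only [adjB, forceNat_eq]
  rw [h1, nbeq_iff, rho_val, Perm.mul_apply, Perm.mul_apply, Perm.inv_eq_iff_eq, Fin.ext_iff,
    gN_apply, V_walk]
  rfl

/-! ### The point stabiliser -/

theorem fin_fi22 : Finite Fi22 := by
  apply Nat.finite_of_card_ne_zero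
  rw [Cfsg.Agent.S1696.result.2]; norm_num

theorem g0_14 : ap12 (gt 0) 14 = 1 := by decide +kernel

theorem gN0_ne_one : gN 0 ≠ 1 := by
  intro h1
  have h2 := gN_apply 0 ⟨14, by norm_num⟩
  rw [h1, g0_14] at h2
  have h4 : (((1 : Perm (Fin 3510)) ⟨14, by norm_num⟩ : Fin 3510) : ℕ) = 14 := rfl
  omega

theorem rhoF_inj : Function.Injective rhoF := by
  haveI : IsSimpleGroup Fi22 := Cfsg.Agent.S1696.result.1
  rw [← MonoidHom.ker_eq_bot_iff]
  rcases (MonoidHom.normal_ker rhoF).eq_bot_or_eq_top with h | h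
  · exact h
  · exfalso
    have h1 : (PresentedGroup.of Fi22.Gen.a : Fi22) ∈ rhoF.ker := by
      rw [h]; exact Subgroup.mem_top _
    rw [MonoidHom.mem_ker, rhoF_of] at h1
    exact gN0_ne_one h1

theorem rhoF_trans (i : Fin 3510) : ∃ q : Fi22, rhoF q 0 = i := by
  have h : (V i).1⁻¹ ∈ rhoF.range := by rw [range_rhoF]; exact PF.inv_mem (V i).2
  obtain ⟨q, hq⟩ := h
  exact ⟨q, by rw [hq, V_inv_zero]⟩

/-- the subgroup of index 3510 of the presented group -/
noncomputable def HF : Subgroup Fi22 :=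
  (Subgroup.closure ({Fi22.a, Fi22.c, Fi22.d, Fi22.e, Fi22.f, Fi22.g, Fi22.h, Fi22.i,
    (Fi22.a * Fi22.b * Fi22.c * Fi22.d * Fi22.e * Fi22.h) ^ 5} :
      Set (FreeGroup Fi22.Gen))).map
    (PresentedGroup.mk (coxRelators Fi22.edges ∪ {r | r ∈ Fi22.extra}))

theorem HF_index : HF.index = 3510 := Cfsg.Agent.S1687.result.1

/-- fixing the base point and commuting with the first generator -/
def Good (q : Perm (Fin 3510)) : Prop := q 0 = 0 ∧ gN 0 * q = q * gN 0

theorem good_gen (s : ℕ) (hs : s < 9) (h1 : s ≠ 1) : Good (gN s) := by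
  have hb : b1Chk = true := b1Chk_ok
  unfold b1Chk at hb
  rw [Bool.and_eq_true, Bool.and_eq_true] at hb
  have h2 := (allLt_iff _ 9).1 hb.2 s hs
  rw [Bool.or_eq_true, Bool.and_eq_true] at h2
  rcases h2 with h2 | ⟨h2, h3⟩
  · exact absurd ((nbeq_iff _ _).1 h2) h1
  · refine ⟨Fin.ext ((gN_apply s 0).trans ((nbeq_iff _ _).1 h2)), ?_⟩
    exact ActsAs.ext' ((gN_acts 0).mul (gN_acts s)) ((gN_acts s).mul (gN_acts 0))
      (fun i hi => ((nbeq_iff _ _).1 ((allLt_iff _ 3510).1 h3 i hi)).symm)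

theorem w5_acts : ActsAs ((gN 0 * gN 1 * gN 2 * gN 3 * gN 4 * gN 7) ^ 5) (w5f^[5]) := by
  have h6 : ActsAs (gN 0 * gN 1 * gN 2 * gN 3 * gN 4 * gN 7) w5f := fun i =>
    ((((((gN_acts 0).mul (gN_acts 1)).mul (gN_acts 2)).mul (gN_acts 3)).mul (gN_acts 4)).mul
      (gN_acts 7)) i
  exact actsAs_pow h6 5

theorem good_w5 : Good ((gN 0 * gN 1 * gN 2 * gN 3 * gN 4 * gN 7) ^ 5) := by
  have hb : b1Chk = true := b1Chk_ok
  unfold b1Chk at hb
  rw [Bool.and_eq_true, Bool.and_eq_true] at hb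
  refine ⟨Fin.ext ((w5_acts 0).trans ((nbeq_iff _ _).1 hb.1.2)), ?_⟩
  exact ActsAs.ext' ((gN_acts 0).mul w5_acts) (w5_acts.mul (gN_acts 0))
    (fun i hi => ((nbeq_iff _ _).1 ((allLt_iff _ 3510).1 hb.1.1 i hi)).symm)

theorem HF_good : ∀ g ∈ HF, Good (rhoF g) := by
  have key : ∀ q : Perm (Fin 3510), Good q →
      q ∈ MulAction.stabilizer (Perm (Fin 3510)) (0 : Fin 3510) ⊓
        Subgroup.centralizer {gN 0} := by
    intro q hq
    rw [Subgroup.mem_inf, MulAction.mem_stabilizer_iff, Subgroup.mem_centralizer_iff]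
    exact ⟨hq.1, fun h hh => by rw [Set.mem_singleton_iff.1 hh]; exact hq.2⟩
  have hsub : HF ≤ Subgroup.comap rhoF
      (MulAction.stabilizer (Perm (Fin 3510)) (0 : Fin 3510) ⊓
        Subgroup.centralizer {gN 0}) := by
    rw [HF, Subgroup.map_le_iff_le_comap, Subgroup.closure_le]
    intro w hw
    simp only [Set.mem_insert_iff, Set.mem_singleton_iff] at hw
    show rhoF (PresentedGroup.mk _ w) ∈ MulAction.stabilizer (Perm (Fin 3510)) (0 : Fin 3510) ⊓
        Subgroup.centralizer {gN 0}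
    rcases hw with rfl | rfl | rfl | rfl | rfl | rfl | rfl | rfl | rfl
    · rw [rhoF_mk]; exact key _ (good_gen 0 (by norm_num) (by norm_num))
    · rw [rhoF_mk]; exact key _ (good_gen 2 (by norm_num) (by norm_num))
    · rw [rhoF_mk]; exact key _ (good_gen 3 (by norm_num) (by norm_num))
    · rw [rhoF_mk]; exact key _ (good_gen 4 (by norm_num) (by norm_num))
    · rw [rhoF_mk]; exact key _ (good_gen 5 (by norm_num) (by norm_num))
    · rw [rhoF_mk]; exact key _ (good_gen 6 (by norm_num) (by norm_num))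
    · rw [rhoF_mk]; exact key _ (good_gen 7 (by norm_num) (by norm_num))
    · rw [rhoF_mk]; exact key _ (good_gen 8 (by norm_num) (by norm_num))
    · have e : rhoF (PresentedGroup.mk (coxRelators Fi22.edges ∪ {r | r ∈ Fi22.extra})
          ((Fi22.a * Fi22.b * Fi22.c * Fi22.d * Fi22.e * Fi22.h) ^ 5)) =
          (gN 0 * gN 1 * gN 2 * gN 3 * gN 4 * gN 7) ^ 5 := by
        simp only [map_pow, map_mul, rhoF_mk] <;> rfl
      rw [e]; exact key _ good_w5
  intro g hg
  have h := hsub hg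
  rw [Subgroup.mem_comap, Subgroup.mem_inf, MulAction.mem_stabilizer_iff,
    Subgroup.mem_centralizer_iff] at h
  exact ⟨h.1, h.2 _ (Set.mem_singleton _)⟩

theorem stab_in_HF (g : Fi22) (h0 : rhoF g 0 = 0) : g ∈ HF := by
  haveI := fin_fi22
  letI : MulAction Fi22 (Fin 3510) := MulAction.compHom (Fin 3510) rhoF
  have hle : HF ≤ MulAction.stabilizer Fi22 (0 : Fin 3510) := by
    intro q hq
    rw [MulAction.mem_stabilizer_iff]
    exact (HF_good q hq).1
  have hidx : (MulAction.stabilizer Fi22 (0 : Fin 3510)).index = 3510 := by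
    rw [MulAction.index_stabilizer]
    have horb : MulAction.orbit Fi22 (0 : Fin 3510) = Set.univ := by
      ext i
      simp only [Set.mem_univ, iff_true]
      obtain ⟨q, hq⟩ := rhoF_trans i
      exact ⟨q, hq⟩
    rw [horb, Set.ncard_univ, Nat.card_fin]
  have hcard : Nat.card (MulAction.stabilizer Fi22 (0 : Fin 3510)) ≤ Nat.card HF := by
    have h1 := Subgroup.card_mul_index HF
    have h2 := Subgroup.card_mul_index (MulAction.stabilizer Fi22 (0 : Fin 3510))
    rw [HF_index] at h1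
    rw [hidx] at h2
    have h3 : Nat.card HF * 3510 =
        Nat.card (MulAction.stabilizer Fi22 (0 : Fin 3510)) * 3510 := h1.trans h2.symm
    exact le_of_eq (Nat.eq_of_mul_eq_mul_right (by norm_num) h3).symm
  have heq := Subgroup.eq_of_le_of_card_ge hle hcard
  rw [heq, MulAction.mem_stabilizer_iff]
  exact h0

theorem stab_comm {p : Perm (Fin 3510)} (hp : p ∈ PF) (h0 : p 0 = 0) :
    gN 0 * p = p * gN 0 := by
  rw [← range_rhoF] at hp
  obtain ⟨g, rfl⟩ := hp
  exact (HF_good g (stab_in_HF g h0)).2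

/-! ### The transpositions -/

theorem rho_conj (p : ↥PF) (j : Fin 3510) : p * rho j * p⁻¹ = rho (p.1 j) := by
  obtain ⟨q, hq⟩ : ∃ q : ↥PF, q = V (p.1 j) * p * (V j)⁻¹ := ⟨_, rfl⟩
  have hq0 : q.1 0 = 0 := by
    rw [hq]
    show (V (p.1 j)).1 (p.1 ((V j).1⁻¹ 0)) = 0
    rw [V_inv_zero, V_self]
  have hc : t0 * q = q * t0 := Subtype.ext (stab_comm q.2 hq0)
  have e1 : p * rho j * p⁻¹ = (V (p.1 j))⁻¹ * (q * t0 * q⁻¹) * V (p.1 j) := by
    rw [hq, rho]; group
  rw [e1, ← hc, mul_inv_cancel_right]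
  rfl

theorem rho_zero : rho 0 = t0 := by
  have hc : t0 * V 0 = V 0 * t0 := Subtype.ext (stab_comm (V 0).2 (V_self 0))
  rw [rho, mul_assoc, hc, inv_mul_cancel_left]

theorem rho_sq (j : Fin 3510) : rho j * rho j = 1 := by
  have h : t0 * t0 = 1 := Subtype.ext (gN_sq 0)
  calc rho j * rho j = (V j)⁻¹ * (t0 * t0) * V j := by rw [rho]; group
    _ = 1 := by rw [h, mul_one, inv_mul_cancel]

theorem bp_lt (r : ℕ) : bp r < 3510 := by
  rcases nthD_cases 256 [0, 14, 12, 10, 243, 1965, 154, 215, 256] r with h | h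
  · have h' : ∀ x ∈ [0, 14, 12, 10, 243, 1965, 154, 215, 256], x < 3510 := by decide
    exact h' _ h
  · rw [bp, h]; norm_num

/-- the base points -/
def bpF (r : ℕ) : Fin 3510 := ⟨bp r, bp_lt r⟩

theorem rho_bp (r : ℕ) (hr : r < 9) : (rho (bpF r)).1 = gN (gbI r) := by
  have h : bpChk = true := bpChk_ok
  unfold bpChk at h
  have h1 := (allLt_iff _ 9).1 h r hr
  exact ActsAs.ext' (f1 := rhoApB (bp r)) (f2 := ap12 (gt (gbI r)))
    (fun j => rho_apply (bpF r) j) (gN_acts (gbI r))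
    (fun j hj => (nbeq_iff _ _).1 ((allLt_iff _ 3510).1 h1 j hj))

theorem rho_inj0 (k : Fin 3510) (h : rho k = rho 0) : k = 0 := by
  by_contra hk
  have hw : witChk = true := witChk_ok
  unfold witChk at hw
  have h1 := (allLt_iff _ 3510).1 hw k.1 k.2
  rw [Bool.or_eq_true, forceNat_eq, Bool.and_eq_true] at h1
  rcases h1 with h1 | ⟨h1, h2⟩
  · exact hk (Fin.ext ((nbeq_iff _ _).1 h1))
  · have hlt : ap12 WITT k.1 < 3510 := (nblt_iff _ _).1 h1
    have e1 := adj_iff k ⟨_, hlt⟩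
    have e2 := adj_iff 0 ⟨_, hlt⟩
    rw [h] at e1
    have e3 : adjB k.1 (ap12 WITT k.1) = adjB 0 (ap12 WITT k.1) := by
      rw [Bool.eq_iff_iff]
      exact e1.symm.trans e2
    rw [e3, xorB_self] at h2
    exact Bool.noConfusion h2

theorem rho_inj {i j : Fin 3510} (h : rho i = rho j) : i = j := by
  have h1 : rho ((V j).1 i) = rho 0 := by
    rw [← rho_conj (V j) i, h, rho_conj, V_self]
  have h2 := rho_inj0 _ h1
  have h3 : (V j).1 i = (V j).1 j := by rw [h2, V_self]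
  exact (V j).1.injective h3

/-! ### Automorphisms permuting the transpositions -/

/-- the automorphism maps the transposition of `j` to that of `σ j` -/
def Rep (α : MulAut ↥PF) (σ : Fin 3510 → Fin 3510) : Prop := ∀ j, α (rho j) = rho (σ j)

theorem rep_conj {α : MulAut ↥PF} {σ : Fin 3510 → Fin 3510} (p : ↥PF) (h : Rep α σ) :
    Rep (MulAut.conj p * α) (fun j => p.1 (σ j)) := by
  intro j
  rw [MulAut.mul_apply, h j, MulAut.conj_apply, rho_conj]

theorem rep_inj {α : MulAut ↥PF} {σ : Fin 3510 → Fin 3510} (h : Rep α σ) :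
    Function.Injective σ := by
  intro i j hij
  apply rho_inj
  apply α.injective
  rw [h i, h j, hij]

theorem rep_ap {α : MulAut ↥PF} {σ : Fin 3510 → Fin 3510} (h : Rep α σ) (i j : Fin 3510) :
    σ ((rho i).1 j) = (rho (σ i)).1 (σ j) := by
  apply rho_inj
  rw [← h ((rho i).1 j), ← rho_conj (rho i) j, map_mul, map_mul, map_inv, h i, h j, rho_conj]

theorem rep_adj {α : MulAut ↥PF} {σ : Fin 3510 → Fin 3510} (h : Rep α σ) (i j : Fin 3510) :
    (rho (σ i)).1 (σ j) = σ j ↔ (rho i).1 j = j := by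
  rw [← rep_ap h]
  exact (rep_inj h).eq_iff

end Cfsg.Agent.Lib.Helper95.FiO
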