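import Cfsg.Agent.Lib.Helper95.FiA

/-!
# Fi22 on 3510 points: kernel-checked certificates (certified tables)
-/

set_option autoImplicit false
set_option maxHeartbeats 400000

namespace Cfsg.Agent.Lib.Helper95.FiO

open Cfsg.Agent.Lib.Helper7.Sims

theorem q90_ok : chainChk Q90 q90C = true := by decide +kernel

theorem q86_ok : chainChk Q86 q86C = true := by decide +kernel

theorem q151_ok : chainChk Q151 q151C = true := by decide +kernel

theorem q152_ok : chainChk Q152 q152C = true := by decide +kernel

theorem q251_ok : chainChk Q251 q251C = true := by decide +kernel

theorem xt_ok : chainChk XT xC = true := by decide +kernel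

theorem p0_ok : chainChk P0T p0C = true := by decide +kernel

theorem xChk_ok : xChk = true := by decide +kernel

theorem ttChk_ok : ttChk = true := by decide +kernel

theorem signChk_ok : signChk = true := by decide +kernel

end Cfsg.Agent.Lib.Helper95.FiO
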