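import Cfsg.Agent.Lib.Helper95.FiB
import Cfsg.Agent.Lib.Helper95.FiK3
import Cfsg.Agent.Lib.Helper95.FiK5

/-!
# Fi22 on 3510 points: automorphisms permute the transpositions

An element of order eleven fixes a single point; by Sylow's theorem the image of the first
transposition under an automorphism may be assumed to commute with it, and a finite check
shows that the only involutions of the group commuting with it is the first transposition.
-/

set_option autoImplicit false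
set_option maxHeartbeats 400000

namespace Cfsg.Agent.Lib.Helper95.FiO

open Cfsg.Spor Cfsg.Agent.Lib.Helper7.Sims Cfsg.Agent.Lib.Helper38.Fi22P Equiv

/-! ### Certified tables -/

theorem cert_G (T : ℕ) (h : T ∈ GenL) : ∃ g ∈ PF, ActsAs g (ap12 T) := by
  obtain ⟨g, hg, ha, -⟩ := gen_cert T h
  exact ⟨g, hg, ha⟩

theorem chain_cert : ∀ ch : List ℕ, (∀ T ∈ ch, ∃ g ∈ PF, ActsAs g (ap12 T)) →
    ∃ g ∈ PF, ActsAs g (evalChain ap12 ch)
  | [], _ => ⟨1, one_mem _, fun _ => rfl⟩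
  | T :: ch, h => by
    obtain ⟨g, hg, ha⟩ := h T List.mem_cons_self
    obtain ⟨g', hg', ha'⟩ := chain_cert ch (fun T' hT' => h T' (List.mem_cons_of_mem _ hT'))
    exact ⟨g * g', mul_mem hg hg', fun i => (ha.mul ha') i⟩

theorem cert_of_chain (T : ℕ) (ch : List ℕ) (hc : chainChk T ch = true)
    (h : ∀ T' ∈ ch, ∃ g ∈ PF, ActsAs g (ap12 T')) : ∃ g ∈ PF, ActsAs g (ap12 T) := by
  obtain ⟨g, hg, ha⟩ := chain_cert ch h
  refine ⟨g, hg, fun i => ?_⟩
  rw [ha i]
  unfold chainChk at hc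
  exact ((nbeq_iff _ _).1 ((allLt_iff _ 3510).1 hc i i.2)).symm

/-- the certified tables -/
def CL : List ℕ := IDT :: Q90 :: Q86 :: Q151 :: Q152 :: Q251 :: GenL

theorem cl_cert : ∀ T ∈ CL, ∃ g ∈ PF, ActsAs g (ap12 T) := by
  intro T hT
  have hT1 : T ∈ IDT :: Q90 :: Q86 :: Q151 :: Q152 :: Q251 :: GenL := hT
  rcases List.mem_cons.1 hT1 with rfl | h1
  · exact ⟨1, one_mem _, idt_acts⟩
  rcases List.mem_cons.1 h1 with rfl | h2
  · exact cert_of_chain _ _ q90_ok
      (fun T' h' => cert_G T' (sub_of_chk (by decide +kernel) T' h'))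
  rcases List.mem_cons.1 h2 with rfl | h3
  · exact cert_of_chain _ _ q86_ok
      (fun T' h' => cert_G T' (sub_of_chk (by decide +kernel) T' h'))
  rcases List.mem_cons.1 h3 with rfl | h4
  · exact cert_of_chain _ _ q151_ok
      (fun T' h' => cert_G T' (sub_of_chk (by decide +kernel) T' h'))
  rcases List.mem_cons.1 h4 with rfl | h5
  · exact cert_of_chain _ _ q152_ok
      (fun T' h' => cert_G T' (sub_of_chk (by decide +kernel) T' h'))
  rcases List.mem_cons.1 h5 with rfl | h6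
  · exact cert_of_chain _ _ q251_ok
      (fun T' h' => cert_G T' (sub_of_chk (by decide +kernel) T' h'))
  · exact cert_G T h6

theorem x_cert : ∃ g ∈ PF, ActsAs g (ap12 XT) :=
  cert_of_chain _ _ xt_ok (fun T' h' => cert_G T' (sub_of_chk (by decide +kernel) T' h'))

theorem p0_cert : ∃ g ∈ PF, ActsAs g (ap12 P0T) :=
  cert_of_chain _ _ p0_ok (fun T' h' => cl_cert T' (sub_of_chk (by decide +kernel) T' h'))

/-! ### The element of order eleven -/

/-- the element of order eleven -/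
noncomputable def xP : ↥PF := ⟨Classical.choose x_cert, (Classical.choose_spec x_cert).1⟩

theorem xP_acts : ActsAs xP.1 (ap12 XT) := (Classical.choose_spec x_cert).2

theorem xP_apply (k : Fin 3510) : ((xP.1 k : Fin 3510) : ℕ) = ap12 XT k := xP_acts k

theorem xChk_spec : (∀ i < 3510, (ap12 XT)^[11] i = i) ∧
    (∀ i < 3510, i ≠ 0 → ap12 XT i ≠ i) ∧ ap12 XT 0 = 0 := by
  have h : xChk = true := xChk_ok
  unfold xChk at h
  rw [Bool.and_eq_true] at h
  refine ⟨fun i hi => ?_, fun i hi hne => ?_, (nbeq_iff _ _).1 h.2⟩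
  · have h1 := (allLt_iff _ 3510).1 h.1 i hi
    rw [Bool.and_eq_true] at h1
    exact (nbeq_iff _ _).1 h1.1
  · have h1 := (allLt_iff _ 3510).1 h.1 i hi
    rw [Bool.and_eq_true, Bool.or_eq_true] at h1
    rcases h1.2 with h2 | h2
    · exact absurd ((nbeq_iff _ _).1 h2) hne
    · intro h3
      rw [(nbeq_iff _ _).2 h3] at h2
      exact absurd h2 (by decide)

theorem xP_pow : xP ^ 11 = 1 := by
  apply Subtype.ext
  show xP.1 ^ 11 = 1
  exact ActsAs.ext' (actsAs_pow xP_acts 11) actsAs_one (fun i hi => xChk_spec.1 i hi)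

theorem xP_zero : xP.1 0 = 0 := Fin.ext ((xP_apply 0).trans xChk_spec.2.2)

theorem xP_fix {i : Fin 3510} (h : xP.1 i = i) : i = 0 := by
  by_contra hne
  have h1 := xChk_spec.2.1 i.1 i.2 (fun h0 => hne (Fin.ext h0))
  exact h1 ((xP_apply i).symm.trans (congrArg Fin.val h))

theorem xP_ne_one : xP ≠ 1 := by
  intro h
  have h1 : xP.1 ⟨1, by norm_num⟩ = ⟨1, by norm_num⟩ := by rw [h]; rfl
  have h2 := xP_fix h1
  exact absurd (congrArg Fin.val h2) (by decide)

theorem xP_t0 : t0 * xP = xP * t0 := Subtype.ext (stab_comm xP.2 xP_zero)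

/-! ### Expressions -/

/-- evaluation of an expression, in `Fin 3510` -/
noncomputable def evF (γ : Fin 3510) : Ex → Fin 3510
  | .z => 0
  | .v => γ
  | .x k e => (xP.1 ^ k) (evF γ e)
  | .r e1 e2 => (rho (evF γ e1)).1 (evF γ e2)

theorem evF_val (γ : Fin 3510) : ∀ e : Ex, ((evF γ e : Fin 3510) : ℕ) = ev γ e
  | .z => rfl
  | .v => rfl
  | .x k e => by
    have h := actsAs_pow xP_acts k (evF γ e)
    rw [evF_val γ e] at h
    exact h
  | .r e1 e2 => by
    have h := rho_apply (evF γ e1) (evF γ e2)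
    rw [evF_val γ e1, evF_val γ e2] at h
    exact h

theorem perm_ap (s : ↥PF) (i j : Fin 3510) :
    s.1 ((rho i).1 j) = (rho (s.1 i)).1 (s.1 j) := by
  have h := rho_conj s i
  have h2 : s * rho i = rho (s.1 i) * s := by rw [← h]; group
  have h3 := congrArg (fun q : ↥PF => q.1 j) h2
  exact h3

theorem perm_adj (s : ↥PF) (i j : Fin 3510) :
    (rho (s.1 i)).1 (s.1 j) = s.1 j ↔ (rho i).1 j = j := by
  rw [← perm_ap]
  exact s.1.injective.eq_iff

theorem evF_eqv (s : ↥PF) (h0 : s.1 0 = 0) (hx : s * xP = xP * s) (γ : Fin 3510) :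
    ∀ e : Ex, s.1 (evF γ e) = evF (s.1 γ) e
  | .z => h0
  | .v => rfl
  | .x k e => by
    have hk : s * xP ^ k = xP ^ k * s := (Commute.pow_right (show Commute s xP from hx) k).eq
    have h3 := congrArg (fun q : ↥PF => q.1 (evF γ e)) hk
    have h4 : s.1 ((xP.1 ^ k) (evF γ e)) = (xP.1 ^ k) (s.1 (evF γ e)) := h3
    rw [evF_eqv s h0 hx γ e] at h4
    exact h4
  | .r e1 e2 => by
    have h := perm_ap s (evF γ e1) (evF γ e2)
    rw [evF_eqv s h0 hx γ e1, evF_eqv s h0 hx γ e2] at h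
    exact h

theorem adjB_F (i j : Fin 3510) : adjB i j = true ↔ (rho i).1 j = j := (adj_iff i j).symm

theorem adj_eqv (t : ↥PF) (h0 : t.1 0 = 0) (hx : t * xP = xP * t) (e1 e2 : Ex)
    (γ : Fin 3510) :
    adjB (ev (t.1 γ).1 e1) (ev (t.1 γ).1 e2) = adjB (ev γ.1 e1) (ev γ.1 e2) := by
  rw [← evF_val, ← evF_val, ← evF_val, ← evF_val, ← evF_eqv t h0 hx, ← evF_eqv t h0 hx,
    Bool.eq_iff_iff, adjB_F, adjB_F]
  exact perm_adj t _ _

theorem adj_cross (t : ↥PF) (h0 : t.1 0 = 0) (hx : t * xP = xP * t) (hsq : t * t = 1)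
    (e1 e2 : Ex) (γ : Fin 3510) :
    adjB (ev (t.1 γ).1 e1) (ev γ.1 e2) = adjB (ev γ.1 e1) (ev (t.1 γ).1 e2) := by
  have htt : ∀ k : Fin 3510, t.1 (t.1 k) = k := by
    intro k
    have h := congrArg (fun q : ↥PF => q.1 k) hsq
    exact h
  rw [← evF_val, ← evF_val, ← evF_val, ← evF_val, ← evF_eqv t h0 hx, ← evF_eqv t h0 hx,
    Bool.eq_iff_iff, adjB_F, adjB_F]
  have h := perm_adj t (evF γ e1) (t.1 (evF γ e2))
  rw [htt] at h
  exact h

/-- the point 14 -/
def beta : Fin 3510 := ⟨14, by norm_num⟩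

theorem betaChk_spec : badS 14 = false ∧ ap12 G0 14 = 1 ∧ ap12 G0 1 = 14 ∧
    ∀ r < 9, ev 14 (gE r) = bp r := by
  have h : betaChk = true := betaChk_ok
  unfold betaChk at h
  rw [Bool.and_eq_true, Bool.and_eq_true, Bool.and_eq_true] at h
  obtain ⟨⟨⟨h1, h2⟩, h3⟩, h4⟩ := h
  refine ⟨?_, (nbeq_iff _ _).1 h2, (nbeq_iff _ _).1 h3,
    fun r hr => (nbeq_iff _ _).1 ((allLt_iff _ 9).1 h4 r hr)⟩
  cases hb : badS 14
  · rfl
  · rw [hb] at h1; exact absurd h1 (by decide)

theorem gen_is_rho (y : Fi22.Gen) : ∃ r, r < 9 ∧ (rho (bpF r)).1 = gP y := by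
  cases y
  · exact ⟨0, by norm_num, rho_bp 0 (by norm_num)⟩
  · exact ⟨1, by norm_num, rho_bp 1 (by norm_num)⟩
  · exact ⟨2, by norm_num, rho_bp 2 (by norm_num)⟩
  · exact ⟨3, by norm_num, rho_bp 3 (by norm_num)⟩
  · exact ⟨6, by norm_num, rho_bp 6 (by norm_num)⟩
  · exact ⟨7, by norm_num, rho_bp 7 (by norm_num)⟩
  · exact ⟨8, by norm_num, rho_bp 8 (by norm_num)⟩
  · exact ⟨4, by norm_num, rho_bp 4 (by norm_num)⟩
  · exact ⟨5, by norm_num, rho_bp 5 (by norm_num)⟩

theorem central_of_fix (s : ↥PF) (hb : ∀ r < 9, s.1 (bpF r) = bpF r) :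
    ∀ p ∈ PF, s.1 * p = p * s.1 := by
  have hgen : ∀ y : Fi22.Gen, s.1 * gP y = gP y * s.1 := by
    intro y
    obtain ⟨r, hr, e⟩ := gen_is_rho y
    have h := rho_conj s (bpF r)
    rw [hb r hr] at h
    have h2 : s * rho (bpF r) = rho (bpF r) * s := by
      calc s * rho (bpF r) = s * rho (bpF r) * s⁻¹ * s := by group
        _ = rho (bpF r) * s := by rw [h]
    have h3 := congrArg Subtype.val h2
    rw [← e]
    exact h3
  have hle : PF ≤ Subgroup.centralizer {s.1} := by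
    show Subgroup.closure (Set.range gP) ≤ Subgroup.centralizer {s.1}
    rw [Subgroup.closure_le]
    rintro _ ⟨y, rfl⟩
    rw [SetLike.mem_coe, Subgroup.mem_centralizer_iff]
    intro h hh
    rw [Set.mem_singleton_iff.1 hh]
    exact hgen y
  intro p hp
  have h := hle hp
  rw [Subgroup.mem_centralizer_iff] at h
  exact h _ (Set.mem_singleton _)

theorem eq_one_of_fix (s : ↥PF) (h0 : s.1 0 = 0) (hb : ∀ r < 9, s.1 (bpF r) = bpF r) :
    s = 1 := by
  refine Subtype.ext (Equiv.ext fun j => ?_)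
  have hc := central_of_fix s hb _ (PF.inv_mem (V j).2)
  have h3 := congrArg (fun q : Perm (Fin 3510) => q 0) hc
  have h4 : s.1 ((V j).1⁻¹ 0) = (V j).1⁻¹ (s.1 0) := h3
  rw [V_inv_zero, h0, V_inv_zero] at h4
  exact h4

theorem fix_base (s : ↥PF) (h0 : s.1 0 = 0) (hx : s * xP = xP * s) (hb : s.1 beta = beta)
    (r : ℕ) (hr : r < 9) : s.1 (bpF r) = bpF r := by
  have e : evF beta (gE r) = bpF r :=
    Fin.ext ((evF_val beta (gE r)).trans (betaChk_spec.2.2.2 r hr))
  have h := evF_eqv s h0 hx beta (gE r)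
  rw [hb, e] at h
  exact h

theorem lemA (s : ↥PF) (h0 : s.1 0 = 0) (hx : s * xP = xP * s) (hb : s.1 beta = beta) :
    s = 1 :=
  eq_one_of_fix s h0 (fun r hr => fix_base s h0 hx hb r hr)

theorem lemB (t : ↥PF) (h0 : t.1 0 = 0) (hx : t * xP = xP * t) (hsq : t * t = 1) :
    ((t.1 beta : Fin 3510) : ℕ) = 14 ∨ ((t.1 beta : Fin 3510) : ℕ) = 1 := by
  have hc : consChk = true := consChk_ok
  unfold consChk at hc
  have h1 := (allLt_iff _ 3510).1 hc (t.1 beta).1 (t.1 beta).2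
  rw [Bool.or_eq_true, Bool.or_eq_true, Bool.or_eq_true] at h1
  rcases h1 with ((h1 | h1) | h1) | h1
  · exact Or.inl ((nbeq_iff _ _).1 h1)
  · exact Or.inr ((nbeq_iff _ _).1 h1)
  · exfalso
    unfold badS at h1
    rw [List.any_eq_true] at h1
    obtain ⟨c, hc, h2⟩ := h1
    have h2' : xorB (adjB (ev (t.1 beta).1 c.1) (ev (t.1 beta).1 c.2.1)) c.2.2 = true := h2
    rw [adj_eqv t h0 hx c.1 c.2.1 beta] at h2'
    have h5 : SCL.any (fun c => xorB (adjB (ev 14 c.1) (ev 14 c.2.1)) c.2.2) = true :=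
      List.any_eq_true.2 ⟨c, hc, h2'⟩
    have hb : SCL.any (fun c => xorB (adjB (ev 14 c.1) (ev 14 c.2.1)) c.2.2) = false :=
      betaChk_spec.1
    exact Bool.noConfusion (hb.symm.trans h5)
  · exfalso
    unfold badX at h1
    rw [List.any_eq_true] at h1
    obtain ⟨c, hc, h2⟩ := h1
    have h2' : xorB (adjB (ev (t.1 beta).1 c.1) (ev beta.1 c.2))
        (adjB (ev beta.1 c.1) (ev (t.1 beta).1 c.2)) = true := h2
    rw [adj_cross t h0 hx hsq c.1 c.2 beta, xorB_self] at h2'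
    exact Bool.noConfusion h2'

theorem invol_eq (t : ↥PF) (h0 : t.1 0 = 0) (hx : t * xP = xP * t) (hsq : t * t = 1) :
    t = 1 ∨ t = t0 := by
  rcases lemB t h0 hx hsq with h | h
  · left
    exact lemA t h0 hx (Fin.ext h)
  · right
    have h1 : t0 * t = 1 := by
      apply lemA
      · show gN 0 (t.1 0) = 0
        rw [h0]
        exact (good_gen 0 (by norm_num) (by norm_num)).1
      · calc t0 * t * xP = t0 * (t * xP) := by group
          _ = t0 * (xP * t) := by rw [hx]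
          _ = (t0 * xP) * t := by group
          _ = xP * (t0 * t) := by rw [xP_t0]; group
      · show gN 0 (t.1 beta) = beta
        apply Fin.ext
        rw [gN_apply, h]
        exact betaChk_spec.2.2.1
    have h2 : t0 * t0 = 1 := Subtype.ext (gN_sq 0)
    calc t = t0 * (t0 * t) := by rw [← mul_assoc, h2, one_mul]
      _ = t0 := by rw [h1, mul_one]

/-! ### The class of transpositions is characteristic -/

theorem card_PF : Nat.card ↥PF = 64561751654400 := by
  rw [← range_rhoF, ← Nat.card_congr (MonoidHom.ofInjective rhoF_inj).toEquiv]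
  exact Cfsg.Agent.S1696.result.2

theorem fin_PF : Finite ↥PF := Nat.finite_of_card_ne_zero (by rw [card_PF]; norm_num)

theorem class_inv0 (α : MulAut ↥PF) : ∃ k, α t0 = rho k := by
  haveI : Fact (Nat.Prime 11) := ⟨by norm_num⟩
  haveI := fin_PF
  have hx : orderOf xP = 11 := orderOf_eq_prime xP_pow xP_ne_one
  have hfac : (Nat.card ↥PF).factorization 11 = 1 := by
    rw [card_PF]
    have h1 : (11 : ℕ) ∣ 64561751654400 := by norm_num
    have h2 : ¬ (11 ^ 2 : ℕ) ∣ 64561751654400 := by norm_num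
    have hge : 0 < (64561751654400 : ℕ).factorization 11 :=
      Nat.Prime.factorization_pos_of_dvd (by norm_num) (by norm_num) h1
    have hlt : (64561751654400 : ℕ).factorization 11 < 2 := by
      by_contra hcon
      exact h2 ((Nat.Prime.pow_dvd_iff_le_factorization (by norm_num) (by norm_num)).2
        (not_lt.1 hcon))
    omega
  have hx' : orderOf (α xP) = 11 := by rw [MulEquiv.orderOf_eq]; exact hx
  let Q2 : Sylow 11 ↥PF := Sylow.ofCard (Subgroup.zpowers xP) (by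
    rw [Nat.card_zpowers, hx, hfac, pow_one])
  let Q1 : Sylow 11 ↥PF := Sylow.ofCard (Subgroup.zpowers (α xP)) (by
    rw [Nat.card_zpowers, hx', hfac, pow_one])
  obtain ⟨g, hg⟩ := MulAction.exists_smul_eq ↥PF Q1 Q2
  have e : Subgroup.zpowers xP =
      (Subgroup.zpowers (α xP)).map (MulAut.conj g).toMonoidHom := by
    have h1 : ((g • Q1 : Sylow 11 ↥PF) : Subgroup ↥PF) = (Q2 : Subgroup ↥PF) := by rw [hg]
    rw [Sylow.coe_subgroup_smul] at h1
    exact h1.symm
  have hxm : xP ∈ (Subgroup.zpowers (α xP)).map (MulAut.conj g).toMonoidHom := by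
    rw [← e]; exact Subgroup.mem_zpowers xP
  obtain ⟨y, hy, hyx⟩ := hxm
  obtain ⟨m, rfl⟩ := Subgroup.mem_zpowers_iff.1 hy
  have hyx' : g * (α xP) ^ m * g⁻¹ = xP := hyx
  obtain ⟨t, ht⟩ : ∃ t : ↥PF, t = g * α t0 * g⁻¹ := ⟨_, rfl⟩
  have hc1 : Commute t (g * α xP * g⁻¹) := by
    show t * (g * α xP * g⁻¹) = (g * α xP * g⁻¹) * t
    have h3 : α t0 * α xP = α xP * α t0 := by rw [← map_mul, ← map_mul, xP_t0]
    rw [ht]
    calc g * α t0 * g⁻¹ * (g * α xP * g⁻¹) = g * (α t0 * α xP) * g⁻¹ := by group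
      _ = g * (α xP * α t0) * g⁻¹ := by rw [h3]
      _ = g * α xP * g⁻¹ * (g * α t0 * g⁻¹) := by group
  have hc2 : t * xP = xP * t := by
    have h4 := (hc1.zpow_right m).eq
    rw [conj_zpow, hyx'] at h4
    exact h4
  have hsq : t * t = 1 := by
    have h5 : α t0 * α t0 = 1 := by
      rw [← map_mul]
      have h2 : t0 * t0 = 1 := Subtype.ext (gN_sq 0)
      rw [h2, map_one]
    rw [ht]
    calc g * α t0 * g⁻¹ * (g * α t0 * g⁻¹) = g * (α t0 * α t0) * g⁻¹ := by group
      _ = 1 := by rw [h5, mul_one, mul_inv_cancel]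
  have ht0 : t.1 0 = 0 := by
    apply xP_fix
    have h6 := congrArg (fun q : ↥PF => q.1 0) hc2
    have h7 : t.1 (xP.1 0) = xP.1 (t.1 0) := h6
    rw [xP_zero] at h7
    exact h7.symm
  have hne : t ≠ 1 := by
    intro h1
    rw [ht] at h1
    have h8 : α t0 = 1 := by
      calc α t0 = g⁻¹ * (g * α t0 * g⁻¹) * g := by group
        _ = 1 := by rw [h1]; group
    have h9 : t0 = 1 := by
      have h10 := congrArg α.symm h8
      rwa [MulEquiv.symm_apply_apply, map_one] at h10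
    exact gN0_ne_one (congrArg Subtype.val h9)
  rcases invol_eq t ht0 hc2 hsq with h | h
  · exact absurd h hne
  · refine ⟨g⁻¹.1 0, ?_⟩
    have e2 : g⁻¹ * t * g = α t0 := by rw [ht]; group
    rw [← rho_conj g⁻¹ 0, rho_zero, inv_inv, ← e2, h]

/-- automorphisms permute the transpositions -/
theorem class_inv (α : MulAut ↥PF) (j : Fin 3510) : ∃ k, α (rho j) = rho k := by
  obtain ⟨k, hk⟩ := class_inv0 α
  refine ⟨(α (V j))⁻¹.1 k, ?_⟩
  rw [← rho_conj, ← hk, rho, map_mul, map_mul, map_inv, inv_inv]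

end Cfsg.Agent.Lib.Helper95.FiO
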