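import Cfsg.Agent.Lib.Helper95.FiA

/-!
# Fi22 on 3510 points: kernel-checked certificates (levels of the chase)
-/

set_option autoImplicit false
set_option maxHeartbeats 400000

namespace Cfsg.Agent.Lib.Helper95.FiO

open Cfsg.Agent.Lib.Helper7.Sims

theorem lvChk0 : lvChk 0 = true := by decide +kernel

theorem lvChk1 : lvChk 1 = true := by decide +kernel

theorem lvChk2 : lvChk 2 = true := by decide +kernel

theorem lvChk3 : lvChk 3 = true := by decide +kernel

theorem lvChk5 : lvChk 5 = true := by decide +kernel

theorem lvChk6 : lvChk 6 = true := by decide +kernel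

theorem lvChk7 : lvChk 7 = true := by decide +kernel

theorem lvChk8 : lvChk 8 = true := by decide +kernel

theorem lvFix_ok : allLt lvFixChk 9 = true := by decide +kernel

theorem cand4Chk_ok : cand4Chk = true := by decide +kernel

theorem o1Chk_ok : o1Chk = true := by decide +kernel

theorem o2Chk_ok : o2Chk = true := by decide +kernel

theorem o3Chk_ok : o3Chk = true := by decide +kernel

end Cfsg.Agent.Lib.Helper95.FiO
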