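import Cfsg.Agent.Lib.Helper95.FiC
import Cfsg.Agent.Lib.Helper95.FiK4
import Cfsg.Prelude.Def_KGroupFacts

/-!
# The outer automorphism group of Fi22

Every automorphism of the permutation group `PF` of degree 3510 permutes the transpositions,
preserving the commuting relation; a chase along nine base points (the generators of the
presentation) shows that it is inner or inner times the automorphism induced by the odd
permutation `tauP` (the graph automorphism).  Hence `|Out(Fi22)| = 2`.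
-/

set_option autoImplicit false
set_option maxHeartbeats 400000

namespace Cfsg.Agent.Lib.Helper95.FiO

open Cfsg.Spor Cfsg.Agent.Lib.Helper7.Sims Cfsg.Agent.Lib.Helper38.Fi22P Equiv

/-! ### Climbing the trees -/

theorem climb_succ (S : List ℕ) (LAB f c : ℕ) :
    climb S LAB (f + 1) c = climb S LAB f (ap12 (nthD IDT S (ap4 LAB c)) c) := by
  simp only [climb, forceNat_eq]

theorem climb_sound (S : List ℕ) (LAB k : ℕ) (hS : ∀ T ∈ S, ∃ g ∈ PF, ActsAs g (ap12 T))
    (hfix : ∀ T ∈ S, ∀ r < k, ap12 T (bp r) = bp r) :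
    ∀ (f c : ℕ) (hc : c < 3510), ∃ p ∈ PF, (∀ r < k, p (bpF r) = bpF r) ∧
      ((p ⟨c, hc⟩ : Fin 3510) : ℕ) = climb S LAB f c
  | 0, c, hc => ⟨1, one_mem _, fun _ _ => rfl, rfl⟩
  | f + 1, c, hc => by
    have hT : ∃ g ∈ PF, ActsAs g (ap12 (nthD IDT S (ap4 LAB c))) ∧
        ∀ r < k, ap12 (nthD IDT S (ap4 LAB c)) (bp r) = bp r := by
      rcases nthD_cases IDT S (ap4 LAB c) with h | h
      · obtain ⟨g, hg, ha⟩ := hS _ h
        exact ⟨g, hg, ha, hfix _ h⟩
      · rw [h]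
        exact ⟨1, one_mem _, idt_acts, fun r _ => idt_ap (bp r) (bp_lt r)⟩
    obtain ⟨g, hg, ha, hf⟩ := hT
    have hga : ∀ q : Fin 3510, ((g q : Fin 3510) : ℕ) = ap12 (nthD IDT S (ap4 LAB c)) q := ha
    have hc' : ap12 (nthD IDT S (ap4 LAB c)) c < 3510 := by
      have e := hga ⟨c, hc⟩
      rw [← e]; exact (g ⟨c, hc⟩).2
    obtain ⟨p, hp, hpf, hpc⟩ := climb_sound S LAB k hS hfix f _ hc'
    refine ⟨p * g, mul_mem hp hg, fun r hr => ?_, ?_⟩
    · have e : g (bpF r) = bpF r := Fin.ext ((hga _).trans (hf r hr))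
      rw [Perm.mul_apply, e, hpf r hr]
    · have e : g ⟨c, hc⟩ = ⟨_, hc'⟩ := Fin.ext (hga _)
      rw [Perm.mul_apply, e, hpc, climb_succ]

theorem lvS_sub : allLt (fun k => (lvS k).all (fun T => memB T CL)) 9 = true := by
  decide +kernel

theorem lv_cert (k : ℕ) (hk : k < 9) : ∀ T ∈ lvS k, ∃ g ∈ PF, ActsAs g (ap12 T) :=
  fun T hT => cl_cert T (sub_of_chk ((allLt_iff _ 9).1 lvS_sub k hk) T hT)

theorem lv_fix (k : ℕ) (hk : k < 9) : ∀ T ∈ lvS k, ∀ r < k, ap12 T (bp r) = bp r := by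
  intro T hT r hr
  have h := (allLt_iff _ 9).1 lvFix_ok k hk
  unfold lvFixChk at h
  exact (nbeq_iff _ _).1 ((allLt_iff _ k).1 (List.all_eq_true.1 h T hT) r hr)

/-! ### The automorphism induced by `tauP` -/

theorem ttChk_spec : invChk ap12 3510 TT TT = true ∧
    (∀ s < 9, ∀ i < 3510, ap12 TT (ap12 (gt s) i) = ap12 (gt (swI s)) (ap12 TT i)) ∧
    ap12 TT 256 = 0 := by
  have h : ttChk = true := ttChk_ok
  unfold ttChk at h
  rw [Bool.and_eq_true, Bool.and_eq_true] at h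
  exact ⟨h.1.1, fun s hs i hi =>
    (nbeq_iff _ _).1 ((allLt_iff _ 3510).1 ((allLt_iff _ 9).1 h.1.2 s hs) i hi),
    (nbeq_iff _ _).1 h.2⟩

/-- the permutation normalising the group -/
def tauP : Perm (Fin 3510) := permOf ap12 3510 TT TT ttChk_spec.1

theorem tau_acts : ActsAs tauP (ap12 TT) := permOf_actsAs ttChk_spec.1

theorem tau_apply (k : Fin 3510) : ((tauP k : Fin 3510) : ℕ) = ap12 TT k := tau_acts k

theorem tau_sq : tauP * tauP = 1 :=
  ActsAs.ext' (tau_acts.mul tau_acts) actsAs_one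
    (fun i hi => (invChk_spec ttChk_spec.1 i hi).2.2.1)

theorem tau_inv : tauP⁻¹ = tauP := inv_eq_of_mul_eq_one_left tau_sq

theorem tau_gen (s : ℕ) (hs : s < 9) : tauP * gN s * tauP⁻¹ = gN (swI s) := by
  have h4 : tauP * gN s = gN (swI s) * tauP :=
    ActsAs.ext' (tau_acts.mul (gN_acts s)) ((gN_acts (swI s)).mul tau_acts)
      (fun i hi => ttChk_spec.2.1 s hs i hi)
  rw [h4]; group

theorem tau_conj_mem {x : Perm (Fin 3510)} (hx : x ∈ PF) : tauP * x * tauP⁻¹ ∈ PF := by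
  have hle : PF ≤ PF.comap (MulAut.conj tauP).toMonoidHom := by
    show Subgroup.closure (Set.range gP) ≤ PF.comap (MulAut.conj tauP).toMonoidHom
    rw [Subgroup.closure_le]
    rintro _ ⟨y, rfl⟩
    rw [SetLike.mem_coe, Subgroup.mem_comap]
    show tauP * gN (idx y) * tauP⁻¹ ∈ PF
    rw [tau_gen (idx y) (idx_lt y)]
    exact gN_mem _
  exact hle hx

theorem tau_map : PF.map (MulAut.conj tauP).toMonoidHom = PF := by
  haveI := fin_PF
  apply Subgroup.eq_of_le_of_card_ge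
  · rintro _ ⟨x, hx, rfl⟩
    exact tau_conj_mem hx
  · rw [Subgroup.card_map_of_injective (MulAut.conj tauP).injective]

/-- the automorphism of the group induced by `tauP` -/
noncomputable def psi : ↥PF ≃* ↥PF :=
  ((MulAut.conj tauP).subgroupMap PF).trans (MulEquiv.subgroupCongr tau_map)

theorem psi_val (x : ↥PF) : (psi x).1 = tauP * x.1 * tauP⁻¹ := rfl

theorem tau_256 : tauP (bpF 8) = 0 := Fin.ext ((tau_apply _).trans ttChk_spec.2.2)

theorem psi_t0 : psi t0 = rho (bpF 8) := by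
  apply Subtype.ext
  rw [psi_val, rho_bp 8 (by norm_num)]
  exact tau_gen 0 (by norm_num)

theorem psi_rho (j : Fin 3510) : psi (rho j) = rho (tauP j) := by
  have e : psi (rho j) = psi (V j)⁻¹ * rho (bpF 8) * (psi (V j)⁻¹)⁻¹ := by
    rw [show rho j = (V j)⁻¹ * t0 * V j from rfl, map_mul, map_mul, psi_t0, map_inv, inv_inv]
  rw [e, rho_conj]
  congr 1
  show tauP ((V j).1⁻¹ (tauP⁻¹ (bpF 8))) = tauP j
  rw [tau_inv, tau_256, V_inv_zero]

theorem psi_sq : (psi : MulAut ↥PF) * psi = 1 := by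
  refine MulEquiv.ext fun x => Subtype.ext ?_
  rw [MulAut.mul_apply, MulAut.one_apply]
  show ((psi (psi x)).1 : Perm (Fin 3510)) = x.1
  rw [psi_val, psi_val, tau_inv]
  calc tauP * (tauP * x.1 * tauP) * tauP = (tauP * tauP) * x.1 * (tauP * tauP) := by group
    _ = x.1 := by rw [tau_sq, one_mul, mul_one]

/-! ### Signs -/

theorem cnt_card (P : ℕ → Bool) (n : ℕ) :
    (Finset.univ.filter (fun i : Fin n => P i.1 = true)).card = cntLt P n := by
  rw [Finset.card_filter]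
  induction n with
  | zero => rfl
  | succ k ih =>
    rw [Fin.sum_univ_castSucc]
    simp only [Fin.val_castSucc, Fin.val_last]
    rw [ih]
    show _ = (bif P k then Nat.succ (cntLt P k) else cntLt P k)
    by_cases h : P k = true
    · rw [if_pos h, h]; rfl
    · rw [if_neg h, Bool.eq_false_iff.2 h]; rfl

theorem sign_invol {n : ℕ} (σ : Perm (Fin n)) (hsq : σ * σ = 1) (hne : σ ≠ 1) :
    Perm.sign σ = (-1) ^ (σ.support.card + σ.support.card / 2) := by
  haveI : Fact (Nat.Prime 2) := ⟨Nat.prime_two⟩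
  have ho : orderOf σ = 2 := orderOf_eq_prime (by rw [pow_two, hsq]) hne
  obtain ⟨m, hm⟩ := Perm.cycleType_prime_order (σ := σ) (by rw [ho]; exact Nat.prime_two)
  rw [ho] at hm
  have hs : σ.support.card = 2 * (m + 1) := by
    rw [← Perm.sum_cycleType, hm, Multiset.sum_replicate, smul_eq_mul, mul_comm]
  rw [Perm.sign_of_cycleType, hm, Multiset.sum_replicate, Multiset.card_replicate, hs,
    smul_eq_mul]
  congr 1
  omega

theorem support_card {n : ℕ} (σ : Perm (Fin n)) (T : ℕ) (h : ActsAs σ (ap12 T)) :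
    σ.support.card = cntLt (movedB T) n := by
  rw [← cnt_card]
  congr 1
  ext i
  rw [Perm.mem_support, Finset.mem_filter]
  simp only [Finset.mem_univ, true_and]
  constructor
  · intro hne
    show (!Nat.beq (ap12 T i) i) = true
    cases hb : Nat.beq (ap12 T i) i
    · rfl
    · exact absurd (Fin.ext ((h i).trans ((nbeq_iff _ _).1 hb))) hne
  · intro hm hfix
    have hb : Nat.beq (ap12 T i) i = true :=
      (nbeq_iff _ _).2 ((h i).symm.trans (congrArg Fin.val hfix))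
    have hm' : (!Nat.beq (ap12 T i) i) = true := hm
    rw [hb] at hm'
    exact absurd hm' (by decide)

theorem cnt_tt : cntLt (movedB TT) 3510 = 3150 := by decide +kernel

theorem cnt_gen : ∀ T ∈ GenL, cntLt (movedB T) 3510 = 2816 := by
  have h : signChk = true := signChk_ok
  unfold signChk at h
  rw [Bool.and_eq_true] at h
  exact fun T hT => (nbeq_iff _ _).1 (List.all_eq_true.1 h.2 T hT)

theorem sign_of_cnt {n : ℕ} (σ : Perm (Fin n)) (T c : ℕ) (h : ActsAs σ (ap12 T))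
    (hsq : σ * σ = 1) (hne : σ ≠ 1) (hc : cntLt (movedB T) n = c) :
    Perm.sign σ = (-1) ^ (c + c / 2) := by
  rw [sign_invol σ hsq hne, support_card σ T h, hc]

theorem sign_tau : Perm.sign tauP = -1 := by
  have hne : tauP ≠ 1 := by
    intro h
    have h1 := tau_256
    rw [h] at h1
    have h2 : (((1 : Perm (Fin 3510)) (bpF 8) : Fin 3510) : ℕ) = 256 := rfl
    have h3 := congrArg Fin.val h1
    rw [h2] at h3
    exact absurd h3 (by decide)
  rw [sign_of_cnt tauP TT 3150 tau_acts tau_sq hne cnt_tt]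
  exact Odd.neg_one_pow (by decide)

theorem sign_gen (T : ℕ) (hT : T ∈ GenL) (g : Perm (Fin 3510)) (ha : ActsAs g (ap12 T))
    (hsq : g * g = 1) : Perm.sign g = 1 := by
  by_cases hne : g = 1
  · rw [hne, map_one]
  · rw [sign_of_cnt g T 2816 ha hsq hne (cnt_gen T hT)]
    exact Even.neg_one_pow (by decide)

theorem sign_PF : ∀ p ∈ PF, Perm.sign p = 1 := by
  have hle : PF ≤ (Perm.sign : Perm (Fin 3510) →* ℤˣ).ker := by
    show Subgroup.closure (Set.range gP) ≤ (Perm.sign : Perm (Fin 3510) →* ℤˣ).ker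
    rw [Subgroup.closure_le]
    rintro _ ⟨y, rfl⟩
    rw [SetLike.mem_coe, MonoidHom.mem_ker]
    exact sign_gen (gt (idx y)) (gt_mem _) (gN (idx y)) (gN_acts _) (gN_sq _)
  intro p hp
  exact MonoidHom.mem_ker.1 (hle hp)

theorem psi_not_inner : psi ∉ Cfsg.Inn ↥PF := by
  rintro ⟨g, hg⟩
  have hpt : ∀ i : Fin 3510, tauP i = g.1 i := by
    intro i
    apply rho_inj
    rw [← psi_rho, ← rho_conj g i, ← hg]
    rfl
  have htg : tauP = g.1 := Equiv.ext hpt
  have h1 := sign_PF g.1 g.2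
  rw [← htg, sign_tau] at h1
  exact absurd h1 (by decide)

/-! ### The chase -/

/-- inner, or inner up to the automorphism `psi` -/
def Q (α : MulAut ↥PF) : Prop := α ∈ Cfsg.Inn ↥PF ∨ psi * α ∈ Cfsg.Inn ↥PF

theorem Q_one : Q 1 := Or.inl (one_mem _)

theorem Q_conj (p : ↥PF) {α : MulAut ↥PF} (h : Q (MulAut.conj p * α)) : Q α := by
  have hp : MulAut.conj p ∈ Cfsg.Inn ↥PF := ⟨p, rfl⟩
  rcases h with h | h
  · left
    have h1 := (Cfsg.Inn ↥PF).mul_mem ((Cfsg.Inn ↥PF).inv_mem hp) h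
    rwa [inv_mul_cancel_left] at h1
  · right
    have hn : psi * (MulAut.conj p)⁻¹ * psi⁻¹ ∈ Cfsg.Inn ↥PF :=
      (Cfsg.innNormal ↥PF).conj_mem _ ((Cfsg.Inn ↥PF).inv_mem hp) psi
    have h1 := (Cfsg.Inn ↥PF).mul_mem hn h
    have e : psi * (MulAut.conj p)⁻¹ * psi⁻¹ * (psi * (MulAut.conj p * α)) = psi * α := by
      group
    rwa [e] at h1

theorem Q_psi {α : MulAut ↥PF} (h : Q (psi * α)) : Q α := by
  rcases h with h | h
  · right; exact h
  · left
    have e : psi * (psi * α) = α := by rw [← mul_assoc, psi_sq, one_mul]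
    rwa [e] at h

theorem rep_psi {α : MulAut ↥PF} {σ : Fin 3510 → Fin 3510} (h : Rep α σ) :
    Rep (psi * α) (fun j => tauP (σ j)) := by
  intro j
  rw [MulAut.mul_apply, h j, psi_rho]

/-- `σ` fixes the first `k` base points -/
def FixTo (σ : Fin 3510 → Fin 3510) (k : ℕ) : Prop := ∀ r < k, σ (bpF r) = bpF r

theorem rep_one {α : MulAut ↥PF} {σ : Fin 3510 → Fin 3510} (h : Rep α σ) (hσ : FixTo σ 9) :
    α = 1 := by
  have hgen : Subgroup.closure (((↑) : ↥PF → Perm (Fin 3510)) ⁻¹' (Set.range gP)) = ⊤ :=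
    Subgroup.closure_closure_coe_preimage
  have h3 : α.toMonoidHom = (1 : MulAut ↥PF).toMonoidHom := by
    apply MonoidHom.eq_of_eqOn_dense hgen
    intro x hx
    obtain ⟨y, hy⟩ : x.1 ∈ Set.range gP := hx
    obtain ⟨r, hr, e⟩ := gen_is_rho y
    have ex : x = rho (bpF r) := Subtype.ext (hy.symm.trans e.symm)
    show α x = x
    rw [ex, h (bpF r), hσ r hr]
  exact MulEquiv.ext fun x => DFunLike.congr_fun h3 x

theorem fixB_iff (r : ℕ) (hr : r < 9) (c : Fin 3510) :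
    fixB r c.1 = true ↔ (rho (bpF r)).1 c = c := by
  unfold fixB
  rw [nbeq_iff, rho_bp r hr, Fin.ext_iff, gN_apply]
  rfl

theorem bp_inj : ∀ k < 9, ∀ r < k, bp k ≠ bp r := by decide

theorem pat_of_rep {α : MulAut ↥PF} {σ : Fin 3510 → Fin 3510} (h : Rep α σ) (k : ℕ)
    (hk : k < 9) (hfix : FixTo σ k) : patB k (σ (bpF k)).1 = true := by
  unfold patB
  refine (allLt_iff _ k).2 (fun r hr => ?_)
  have hr9 : r < 9 := hr.trans hk
  show (!(Nat.beq (σ (bpF k)).1 (bp r)) &&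
    !(xorB (fixB r (σ (bpF k)).1) (fixB r (bp k)))) = true
  have e1 : Nat.beq (σ (bpF k)).1 (bp r) = false := by
    cases hb : Nat.beq (σ (bpF k)).1 (bp r)
    · rfl
    · exfalso
      have e : σ (bpF k) = σ (bpF r) := by
        rw [hfix r hr]
        exact Fin.ext ((nbeq_iff _ _).1 hb)
      have e2 := rep_inj h e
      exact bp_inj k hk r hr (congrArg Fin.val e2)
  have e : fixB r (σ (bpF k)).1 = fixB r (bp k) := by
    rw [Bool.eq_iff_iff]
    have h3 := rep_adj h (bpF r) (bpF k)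
    rw [hfix r hr] at h3
    exact ((fixB_iff r hr9 (σ (bpF k))).trans h3).trans (fixB_iff r hr9 (bpF k)).symm
  rw [e1, e, xorB_self]
  rfl

theorem step {α : MulAut ↥PF} {σ : Fin 3510 → Fin 3510} (h : Rep α σ) (k : ℕ) (hk : k < 9)
    (hchk : lvChk k = true) (hfix : FixTo σ k)
    (hQ : ∀ (α' : MulAut ↥PF) (σ' : Fin 3510 → Fin 3510), Rep α' σ' → FixTo σ' (k + 1) →
      Q α') : Q α := by
  have hpat := pat_of_rep h k hk hfix
  unfold lvChk at hchk
  have h1 := (allLt_iff _ 3510).1 hchk (σ (bpF k)).1 (σ (bpF k)).2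
  rw [hpat, Bool.not_true, Bool.false_or] at h1
  have h2 : climb (lvS k) (lvLAB k) (lvFuel k) (σ (bpF k)).1 = bp k := (nbeq_iff _ _).1 h1
  obtain ⟨p, hp, hpf, hpc⟩ := climb_sound (lvS k) (lvLAB k) k (lv_cert k hk) (lv_fix k hk)
    (lvFuel k) (σ (bpF k)).1 (σ (bpF k)).2
  apply Q_conj ⟨p, hp⟩
  apply hQ _ _ (rep_conj ⟨p, hp⟩ h)
  intro r hr
  show p (σ (bpF r)) = bpF r
  rcases Nat.lt_succ_iff_lt_or_eq.1 hr with hr' | hr'
  · rw [hfix r hr', hpf r hr']
  · rw [hr']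
    exact Fin.ext (hpc.trans h2)

theorem chase9 {α : MulAut ↥PF} {σ : Fin 3510 → Fin 3510} (h : Rep α σ) (hfix : FixTo σ 9) :
    Q α := by
  rw [rep_one h hfix]
  exact Q_one

theorem chase8 {α : MulAut ↥PF} {σ : Fin 3510 → Fin 3510} (h : Rep α σ) (hfix : FixTo σ 8) :
    Q α :=
  step h 8 (by norm_num) lvChk8 hfix (fun _ _ h' f' => chase9 h' f')

theorem chase7 {α : MulAut ↥PF} {σ : Fin 3510 → Fin 3510} (h : Rep α σ) (hfix : FixTo σ 7) :
    Q α :=
  step h 7 (by norm_num) lvChk7 hfix (fun _ _ h' f' => chase8 h' f')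

theorem chase6 {α : MulAut ↥PF} {σ : Fin 3510 → Fin 3510} (h : Rep α σ) (hfix : FixTo σ 6) :
    Q α :=
  step h 6 (by norm_num) lvChk6 hfix (fun _ _ h' f' => chase7 h' f')

theorem chase5 {α : MulAut ↥PF} {σ : Fin 3510 → Fin 3510} (h : Rep α σ) (hfix : FixTo σ 5) :
    Q α :=
  step h 5 (by norm_num) lvChk5 hfix (fun _ _ h' f' => chase6 h' f')

theorem chase4a {α : MulAut ↥PF} {σ : Fin 3510 → Fin 3510} (h : Rep α σ) (hfix : FixTo σ 4)
    (hc : (σ (bpF 4)).1 ∈ O1L) : Q α := by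
  have ho : o1Chk = true := o1Chk_ok
  unfold o1Chk at ho
  have h2 : climb (lvS 4) (lvLAB 4) (lvFuel 4) (σ (bpF 4)).1 = 243 :=
    (nbeq_iff _ _).1 (List.all_eq_true.1 ho _ hc)
  obtain ⟨p, hp, hpf, hpc⟩ := climb_sound (lvS 4) (lvLAB 4) 4 (lv_cert 4 (by norm_num))
    (lv_fix 4 (by norm_num)) (lvFuel 4) (σ (bpF 4)).1 (σ (bpF 4)).2
  apply Q_conj ⟨p, hp⟩
  apply chase5 (rep_conj ⟨p, hp⟩ h)
  intro r hr
  show p (σ (bpF r)) = bpF r
  rcases Nat.lt_succ_iff_lt_or_eq.1 hr with hr' | hr'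
  · rw [hfix r hr', hpf r hr']
  · rw [hr']
    exact Fin.ext (hpc.trans h2)

theorem o3Chk_spec : (∀ c ∈ O3L, cntLt (cntP c) 3510 ≤ 5) ∧
    (∀ w ∈ W6L, w < 3510 ∧ ∀ r < 5, fixB r w = true) ∧ W6L.Nodup := by
  have h : o3Chk = true := o3Chk_ok
  unfold o3Chk at h
  rw [Bool.and_eq_true, Bool.and_eq_true] at h
  refine ⟨fun c hc => Nat.le_of_ble_eq_true (List.all_eq_true.1 h.1.1 c hc), fun w hw => ?_,
    nodupB_imp _ h.2⟩
  have h1 := List.all_eq_true.1 h.1.2 w hw
  rw [Bool.and_eq_true] at h1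
  exact ⟨(nblt_iff _ _).1 h1.1, fun r hr => (allLt_iff _ 5).1 h1.2 r hr⟩

theorem o3_false {α : MulAut ↥PF} {σ : Fin 3510 → Fin 3510} (h : Rep α σ) (hfix : FixTo σ 4)
    (hc : (σ (bpF 4)).1 ∈ O3L) : False := by
  obtain ⟨hcnt, hw6, hnd⟩ := o3Chk_spec
  have hF := cnt_card (cntP (σ (bpF 4)).1) 3510
  have hle := hcnt _ hc
  let f : ℕ → Fin 3510 := fun w => if hw : w < 3510 then σ ⟨w, hw⟩ else 0
  have hmaps : Set.MapsTo f ↑W6L.toFinset
      ↑(Finset.univ.filter (fun ω : Fin 3510 => cntP (σ (bpF 4)).1 ω.1 = true)) := by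
    intro w hw
    have hw' : w ∈ W6L := List.mem_toFinset.1 hw
    obtain ⟨hlt, hfx⟩ := hw6 w hw'
    have hfw : f w = σ ⟨w, hlt⟩ := dif_pos hlt
    rw [Finset.mem_coe, Finset.mem_filter]
    refine ⟨Finset.mem_univ _, ?_⟩
    rw [hfw]
    have key : ∀ r < 4, fixB r (σ ⟨w, hlt⟩).1 = true := by
      intro r hr
      rw [fixB_iff r (by omega)]
      have h3 := rep_adj h (bpF r) ⟨w, hlt⟩
      rw [hfix r hr] at h3
      rw [h3, ← fixB_iff r (by omega)]
      exact hfx r (by omega)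
    have key4 : adjB (σ (bpF 4)).1 (σ ⟨w, hlt⟩).1 = true := by
      rw [adjB_F, rep_adj h (bpF 4) ⟨w, hlt⟩, ← fixB_iff 4 (by norm_num)]
      exact hfx 4 (by norm_num)
    unfold cntP
    rw [key 0 (by norm_num), key 1 (by norm_num), key 2 (by norm_num), key 3 (by norm_num),
      key4]
    rfl
  have hinj : Set.InjOn f ↑W6L.toFinset := by
    intro w1 hw1 w2 hw2 he
    have h1 := hw6 w1 (List.mem_toFinset.1 hw1)
    have h2 := hw6 w2 (List.mem_toFinset.1 hw2)
    have e1 : f w1 = σ ⟨w1, h1.1⟩ := dif_pos h1.1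
    have e2 : f w2 = σ ⟨w2, h2.1⟩ := dif_pos h2.1
    rw [e1, e2] at he
    exact congrArg Fin.val (rep_inj h he)
  have hcard := Finset.card_le_card_of_injOn f hmaps hinj
  rw [hF, List.toFinset_card_of_nodup hnd] at hcard
  have h6 : W6L.length = 6 := rfl
  omega

theorem chase4 {α : MulAut ↥PF} {σ : Fin 3510 → Fin 3510} (h : Rep α σ) (hfix : FixTo σ 4) :
    Q α := by
  have hpat := pat_of_rep h 4 (by norm_num) hfix
  have hc4 : cand4Chk = true := cand4Chk_ok
  unfold cand4Chk at hc4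
  have h1 := (allLt_iff _ 3510).1 hc4 (σ (bpF 4)).1 (σ (bpF 4)).2
  rw [hpat, Bool.not_true, Bool.false_or, Bool.or_eq_true, Bool.or_eq_true, memB_iff,
    memB_iff, memB_iff] at h1
  rcases h1 with (h1 | h1) | h1
  · exact chase4a h hfix h1
  · obtain ⟨p0, hp0, hp0a⟩ := p0_cert
    have ho : o2Chk = true := o2Chk_ok
    unfold o2Chk at ho
    rw [Bool.and_eq_true] at ho
    have hp0a' : ∀ q : Fin 3510, ((p0 q : Fin 3510) : ℕ) = ap12 P0T q := hp0a
    apply Q_psi
    apply Q_conj ⟨p0, hp0⟩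
    apply chase4a (rep_conj ⟨p0, hp0⟩ (rep_psi h))
    · intro r hr
      show p0 (tauP (σ (bpF r))) = bpF r
      rw [hfix r hr]
      apply Fin.ext
      rw [hp0a', tau_apply]
      exact (nbeq_iff _ _).1 ((allLt_iff _ 4).1 ho.2 r hr)
    · show (p0 (tauP (σ (bpF 4)))).1 ∈ O1L
      rw [hp0a', tau_apply]
      exact (memB_iff _ _).1 (List.all_eq_true.1 ho.1 _ h1)
  · exact absurd (o3_false h hfix h1) id

theorem chase3 {α : MulAut ↥PF} {σ : Fin 3510 → Fin 3510} (h : Rep α σ) (hfix : FixTo σ 3) :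
    Q α :=
  step h 3 (by norm_num) lvChk3 hfix (fun _ _ h' f' => chase4 h' f')

theorem chase2 {α : MulAut ↥PF} {σ : Fin 3510 → Fin 3510} (h : Rep α σ) (hfix : FixTo σ 2) :
    Q α :=
  step h 2 (by norm_num) lvChk2 hfix (fun _ _ h' f' => chase3 h' f')

theorem chase1 {α : MulAut ↥PF} {σ : Fin 3510 → Fin 3510} (h : Rep α σ) (hfix : FixTo σ 1) :
    Q α :=
  step h 1 (by norm_num) lvChk1 hfix (fun _ _ h' f' => chase2 h' f')

theorem chase0 {α : MulAut ↥PF} {σ : Fin 3510 → Fin 3510} (h : Rep α σ) : Q α :=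
  step h 0 (by norm_num) lvChk0 (fun r hr => absurd hr (Nat.not_lt_zero r))
    (fun _ _ h' f' => chase1 h' f')

theorem all_Q (α : MulAut ↥PF) : Q α := by
  choose σ hσ using class_inv α
  exact chase0 (σ := σ) hσ

/-! ### The outer automorphism group -/

theorem card_out_PF : Nat.card (Cfsg.Out ↥PF) = 2 := by
  have hψ1 : (QuotientGroup.mk psi : Cfsg.Out ↥PF) ≠ 1 := fun h =>
    psi_not_inner ((QuotientGroup.eq_one_iff psi).mp h)
  rw [Nat.card_eq_two_iff]
  refine ⟨1, QuotientGroup.mk psi, fun h => hψ1 h.symm, ?_⟩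
  ext x
  simp only [Set.mem_insert_iff, Set.mem_singleton_iff, Set.mem_univ, iff_true]
  obtain ⟨α, rfl⟩ := QuotientGroup.mk_surjective x
  rcases all_Q α with h | h
  · left
    exact (QuotientGroup.eq_one_iff α).mpr h
  · right
    have h1 : (QuotientGroup.mk psi : Cfsg.Out ↥PF) * QuotientGroup.mk α = 1 := by
      rw [← QuotientGroup.mk_mul]
      exact (QuotientGroup.eq_one_iff _).mpr h
    have h2 : (QuotientGroup.mk psi : Cfsg.Out ↥PF) * QuotientGroup.mk psi = 1 := by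
      rw [← QuotientGroup.mk_mul, psi_sq]
      rfl
    exact mul_left_cancel (h1.trans h2.symm)

/-- the isomorphism of outer automorphism groups induced by an isomorphism -/
noncomputable def outCongrF {A B : Type} [Group A] [Group B] (e : A ≃* B) :
    Cfsg.Out A ≃* Cfsg.Out B :=
  QuotientGroup.congr (Cfsg.Inn A) (Cfsg.Inn B) (MulAut.congr e) (by
    ext φ
    constructor
    · rintro ⟨_, ⟨a, rfl⟩, rfl⟩
      refine ⟨e a, ?_⟩
      ext b
      simp [MulAut.congr, MulAut.conj_apply]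
    · rintro ⟨b, rfl⟩
      refine ⟨MulAut.conj (e.symm b), ⟨e.symm b, rfl⟩, ?_⟩
      ext b'
      simp [MulAut.congr, MulAut.conj_apply])

/-- the presented group is isomorphic to the permutation group -/
noncomputable def fi22IsoPF : Fi22 ≃* ↥PF :=
  (MonoidHom.ofInjective rhoF_inj).trans (MulEquiv.subgroupCongr range_rhoF)

/-- the outer automorphism group of the Fischer group Fi22 has order two -/
theorem card_out_Fi22 : Nat.card (Cfsg.Out Fi22) = 2 := by
  rw [Nat.card_congr (outCongrF fi22IsoPF).toEquiv]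
  exact card_out_PF

end Cfsg.Agent.Lib.Helper95.FiO
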