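import Cfsg.Agent.Lib.Helper95.FiA

/-!
# Fi22 on 3510 points: kernel-checked certificates (generators and relators)
-/

set_option autoImplicit false
set_option maxHeartbeats 400000

namespace Cfsg.Agent.Lib.Helper95.FiO

open Cfsg.Agent.Lib.Helper7.Sims

theorem glChk_ok : glChk = true := by decide +kernel

theorem idChk_ok : idChk = true := by decide +kernel

theorem wordsChk_ok : wordsChk = true := by decide +kernel

theorem walkChk_ok : walkChk = true := by decide +kernel

theorem b1Chk_ok : b1Chk = true := by decide +kernel

end Cfsg.Agent.Lib.Helper95.FiO
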