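import Cfsg.Agent.Lib.Helper95.TabGroup

/-!
# Homomorphisms from `GL₃(𝔽₂)` and from the symmetric group of degree 3

Homomorphisms into the permutations of the 24 points given by tables of tables.
-/

set_option autoImplicit false
open scoped Pointwise
open Cfsg

namespace Cfsg.Agent.Lib.Helper95

open Cfsg.Agent.Lib.Helper9

/-! ### The field of two elements -/

/-- The bit of an element of the field of two elements. -/
def zb (x : ZMod 2) : Bool := decide (x = 1)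

theorem zb_mul : ∀ x y : ZMod 2, zb (x * y) = (zb x && zb y) := by decide

theorem zb_add : ∀ x y : ZMod 2, zb (x + y) = xor (zb x) (zb y) := by decide

theorem zb_sub : ∀ x y : ZMod 2, zb (x - y) = xor (zb x) (zb y) := by decide

theorem zb_ne_zero : ∀ x : ZMod 2, x ≠ 0 → zb x = true := by decide

theorem zb_true : ∀ x : ZMod 2, zb x = true → x = 1 := by decide

theorem zb_false : ∀ x : ZMod 2, zb x = false → x = 0 := by decide

/-! ### Keys of 3 × 3 matrices -/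

/-- The index of a 3 × 3 matrix of bits. -/
def key9 (a b c d e f g h i : Bool) : ℕ :=
  a.toNat + 2 * b.toNat + 4 * c.toNat + 8 * d.toNat + 16 * e.toNat + 32 * f.toNat +
    64 * g.toNat + 128 * h.toNat + 256 * i.toNat

theorem key9_lt (a b c d e f g h i : Bool) : key9 a b c d e f g h i < 512 := by
  have ha := Bool.toNat_le a
  have hb := Bool.toNat_le b
  have hc := Bool.toNat_le c
  have hd := Bool.toNat_le d
  have he := Bool.toNat_le e
  have hf := Bool.toNat_le f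
  have hg := Bool.toNat_le g
  have hh := Bool.toNat_le h
  have hi := Bool.toNat_le i
  unfold key9
  omega

set_option synthInstance.maxSize 2000 in
set_option synthInstance.maxHeartbeats 400000 in
theorem key9_one : ∀ a b c d e f g h i : Bool, key9 a b c d e f g h i = 273 →
    a = true ∧ b = false ∧ c = false ∧ d = false ∧ e = true ∧ f = false ∧ g = false ∧
      h = false ∧ i = true := by decide +kernel

/-- The determinant of a 3 × 3 matrix of bits. -/
def detB (a b c d e f g h i : Bool) : Bool :=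
  xor (xor (xor (xor (xor (a && e && i) (a && f && h)) (b && d && i)) (b && f && g))
    (c && d && h)) (c && e && g)

/-- The index of an invertible matrix. -/
def gl3Key (M : GL (Fin 3) (ZMod 2)) : ℕ :=
  key9 (zb (M.1 0 0)) (zb (M.1 0 1)) (zb (M.1 0 2)) (zb (M.1 1 0)) (zb (M.1 1 1)) (zb (M.1 1 2)) (zb (M.1 2 0)) (zb (M.1 2 1)) (zb (M.1 2 2))

theorem gl3_det (M : GL (Fin 3) (ZMod 2)) :
    detB (zb (M.1 0 0)) (zb (M.1 0 1)) (zb (M.1 0 2)) (zb (M.1 1 0)) (zb (M.1 1 1)) (zb (M.1 1 2)) (zb (M.1 2 0)) (zb (M.1 2 1)) (zb (M.1 2 2)) = true := by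
  have h := Matrix.GeneralLinearGroup.det_ne_zero M
  rw [Matrix.det_fin_three] at h
  have h2 := zb_ne_zero _ h
  simp only [zb_sub, zb_add, zb_mul] at h2
  exact h2

theorem gl3Key_mul (M M' : GL (Fin 3) (ZMod 2)) : gl3Key (M * M') = key9
      (xor (xor ((zb (M.1 0 0)) && (zb (M'.1 0 0))) ((zb (M.1 0 1)) && (zb (M'.1 1 0)))) ((zb (M.1 0 2)) && (zb (M'.1 2 0))))
      (xor (xor ((zb (M.1 0 0)) && (zb (M'.1 0 1))) ((zb (M.1 0 1)) && (zb (M'.1 1 1)))) ((zb (M.1 0 2)) && (zb (M'.1 2 1))))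
      (xor (xor ((zb (M.1 0 0)) && (zb (M'.1 0 2))) ((zb (M.1 0 1)) && (zb (M'.1 1 2)))) ((zb (M.1 0 2)) && (zb (M'.1 2 2))))
      (xor (xor ((zb (M.1 1 0)) && (zb (M'.1 0 0))) ((zb (M.1 1 1)) && (zb (M'.1 1 0)))) ((zb (M.1 1 2)) && (zb (M'.1 2 0))))
      (xor (xor ((zb (M.1 1 0)) && (zb (M'.1 0 1))) ((zb (M.1 1 1)) && (zb (M'.1 1 1)))) ((zb (M.1 1 2)) && (zb (M'.1 2 1))))
      (xor (xor ((zb (M.1 1 0)) && (zb (M'.1 0 2))) ((zb (M.1 1 1)) && (zb (M'.1 1 2)))) ((zb (M.1 1 2)) && (zb (M'.1 2 2))))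
      (xor (xor ((zb (M.1 2 0)) && (zb (M'.1 0 0))) ((zb (M.1 2 1)) && (zb (M'.1 1 0)))) ((zb (M.1 2 2)) && (zb (M'.1 2 0))))
      (xor (xor ((zb (M.1 2 0)) && (zb (M'.1 0 1))) ((zb (M.1 2 1)) && (zb (M'.1 1 1)))) ((zb (M.1 2 2)) && (zb (M'.1 2 1))))
      (xor (xor ((zb (M.1 2 0)) && (zb (M'.1 0 2))) ((zb (M.1 2 1)) && (zb (M'.1 1 2)))) ((zb (M.1 2 2)) && (zb (M'.1 2 2)))) := by
  simp only [gl3Key, Units.val_mul, Matrix.mul_apply, Fin.sum_univ_three, zb_add, zb_mul]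

theorem gl3_eq_one {M : GL (Fin 3) (ZMod 2)} (h : gl3Key M = 273) : M = 1 := by
  obtain ⟨h00, h01, h02, h10, h11, h12, h20, h21, h22⟩ := key9_one _ _ _ _ _ _ _ _ _ h
  apply Units.ext
  ext i j
  fin_cases i <;> fin_cases j
  · simpa using zb_true _ h00
  · simpa using zb_false _ h01
  · simpa using zb_false _ h02
  · simpa using zb_false _ h10
  · simpa using zb_true _ h11
  · simpa using zb_false _ h12
  · simpa using zb_false _ h20
  · simpa using zb_false _ h21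
  · simpa using zb_true _ h22

/-- Lookup in a table of tables with rows of length 32. -/
def gl3Tab (gl : List (List (List ℕ))) (k : ℕ) : List ℕ := (gl.getD (k / 32) []).getD (k % 32) idT

/-- The bit of a key at the position with the given weight. -/
def kb (k d : ℕ) : Bool := k / d % 2 == 1

set_option synthInstance.maxSize 2000 in
set_option synthInstance.maxHeartbeats 400000 in
theorem key9_bit0 : ∀ a b c d e f g h i : Bool, kb (key9 a b c d e f g h i) 1 = a := by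
  decide +kernel

set_option synthInstance.maxSize 2000 in
set_option synthInstance.maxHeartbeats 400000 in
theorem key9_bit1 : ∀ a b c d e f g h i : Bool, kb (key9 a b c d e f g h i) 2 = b := by
  decide +kernel

set_option synthInstance.maxSize 2000 in
set_option synthInstance.maxHeartbeats 400000 in
theorem key9_bit2 : ∀ a b c d e f g h i : Bool, kb (key9 a b c d e f g h i) 4 = c := by
  decide +kernel

set_option synthInstance.maxSize 2000 in
set_option synthInstance.maxHeartbeats 400000 in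
theorem key9_bit3 : ∀ a b c d e f g h i : Bool, kb (key9 a b c d e f g h i) 8 = d := by
  decide +kernel

set_option synthInstance.maxSize 2000 in
set_option synthInstance.maxHeartbeats 400000 in
theorem key9_bit4 : ∀ a b c d e f g h i : Bool, kb (key9 a b c d e f g h i) 16 = e := by
  decide +kernel

set_option synthInstance.maxSize 2000 in
set_option synthInstance.maxHeartbeats 400000 in
theorem key9_bit5 : ∀ a b c d e f g h i : Bool, kb (key9 a b c d e f g h i) 32 = f := by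
  decide +kernel

set_option synthInstance.maxSize 2000 in
set_option synthInstance.maxHeartbeats 400000 in
theorem key9_bit6 : ∀ a b c d e f g h i : Bool, kb (key9 a b c d e f g h i) 64 = g := by
  decide +kernel

set_option synthInstance.maxSize 2000 in
set_option synthInstance.maxHeartbeats 400000 in
theorem key9_bit7 : ∀ a b c d e f g h i : Bool, kb (key9 a b c d e f g h i) 128 = h := by
  decide +kernel

set_option synthInstance.maxSize 2000 in
set_option synthInstance.maxHeartbeats 400000 in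
theorem key9_bit8 : ∀ a b c d e f g h i : Bool, kb (key9 a b c d e f g h i) 256 = i := by
  decide +kernel

/-- The keys of the invertible matrices. -/
def glKeys : List ℕ :=
  [84, 85, 86, 87, 92, 93, 94, 95, 98, 99, 102, 103, 106, 107, 110, 111, 114, 115, 116, 117, 122,
   123, 124, 125, 140, 141, 142, 143, 156, 157, 158, 159, 161, 163, 165, 167, 169, 171, 172, 174, 177, 179,
   181, 183, 185, 187, 188, 190, 204, 205, 206, 207, 212, 213, 214, 215, 225, 226, 229, 230, 233, 234, 236,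
   239, 241, 242, 244, 247, 249, 250, 253, 254, 266, 267, 270, 271, 273, 275, 277, 279, 281, 282, 285, 286,
   298, 299, 302, 303, 305, 307, 309, 311, 313, 314, 317, 318, 330, 331, 334, 335, 337, 339, 340, 342, 345,
   346, 348, 351, 354, 355, 358, 359, 369, 370, 372, 375, 377, 379, 380, 382, 394, 395, 396, 397, 401, 403,
   405, 407, 409, 410, 412, 415, 417, 419, 421, 423, 425, 426, 428, 431, 442, 443, 444, 445, 458, 459, 460,
   461, 465, 467, 468, 470, 473, 474, 477, 478, 481, 482, 485, 486, 489, 491, 492, 494, 498, 499, 500, 501]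

set_option synthInstance.maxSize 2000 in
set_option synthInstance.maxHeartbeats 400000 in
theorem key9_mem_glKeys : ∀ a b c d e f g h i : Bool, detB a b c d e f g h i = true →
    key9 a b c d e f g h i ∈ glKeys := by decide +kernel

theorem gl3Key_mem (M : GL (Fin 3) (ZMod 2)) : gl3Key M ∈ glKeys :=
  key9_mem_glKeys _ _ _ _ _ _ _ _ _ (gl3_det M)

/-- The key of the product of the matrices with the given keys. -/
def mulKey (k k' : ℕ) : ℕ := key9
  (xor (xor (kb k 1 && kb k' 1) (kb k 2 && kb k' 8)) (kb k 4 && kb k' 64))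
  (xor (xor (kb k 1 && kb k' 2) (kb k 2 && kb k' 16)) (kb k 4 && kb k' 128))
  (xor (xor (kb k 1 && kb k' 4) (kb k 2 && kb k' 32)) (kb k 4 && kb k' 256))
  (xor (xor (kb k 8 && kb k' 1) (kb k 16 && kb k' 8)) (kb k 32 && kb k' 64))
  (xor (xor (kb k 8 && kb k' 2) (kb k 16 && kb k' 16)) (kb k 32 && kb k' 128))
  (xor (xor (kb k 8 && kb k' 4) (kb k 16 && kb k' 32)) (kb k 32 && kb k' 256))
  (xor (xor (kb k 64 && kb k' 1) (kb k 128 && kb k' 8)) (kb k 256 && kb k' 64))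
  (xor (xor (kb k 64 && kb k' 2) (kb k 128 && kb k' 16)) (kb k 256 && kb k' 128))
  (xor (xor (kb k 64 && kb k' 4) (kb k 128 && kb k' 32)) (kb k 256 && kb k' 256))

theorem gl3Key_mul' (M M' : GL (Fin 3) (ZMod 2)) :
    gl3Key (M * M') = mulKey (gl3Key M) (gl3Key M') := by
  rw [gl3Key_mul]
  simp only [mulKey, gl3Key, key9_bit0, key9_bit1, key9_bit2, key9_bit3, key9_bit4, key9_bit5,
    key9_bit6, key9_bit7, key9_bit8]

theorem card_GL32 : Nat.card (GL (Fin 3) (ZMod 2)) = 168 := by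
  rw [Matrix.card_GL_field, ZMod.card]
  decide

theorem zb_inj : ∀ x y : ZMod 2, zb x = zb y → x = y := by decide

theorem gl3Key_injective : Function.Injective gl3Key := by
  intro M M' h
  have hb : ∀ d, kb (gl3Key M) d = kb (gl3Key M') d := fun d => by rw [h]
  have h0 := hb 1
  have h1 := hb 2
  have h2 := hb 4
  have h3 := hb 8
  have h4 := hb 16
  have h5 := hb 32
  have h6 := hb 64
  have h7 := hb 128
  have h8 := hb 256
  simp only [gl3Key, key9_bit0, key9_bit1, key9_bit2, key9_bit3, key9_bit4, key9_bit5,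
    key9_bit6, key9_bit7, key9_bit8] at h0 h1 h2 h3 h4 h5 h6 h7 h8
  apply Units.ext
  ext i j
  fin_cases i <;> fin_cases j
  · exact zb_inj _ _ h0
  · exact zb_inj _ _ h1
  · exact zb_inj _ _ h2
  · exact zb_inj _ _ h3
  · exact zb_inj _ _ h4
  · exact zb_inj _ _ h5
  · exact zb_inj _ _ h6
  · exact zb_inj _ _ h7
  · exact zb_inj _ _ h8

theorem glKeys_length : glKeys.length = 168 := by decide +kernel

theorem exists_gl3Key_eq {k : ℕ} (hk : k ∈ glKeys) :
    ∃ M : GL (Fin 3) (ZMod 2), gl3Key M = k := by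
  let f : GL (Fin 3) (ZMod 2) → ↥(glKeys.toFinset) :=
    fun M => ⟨gl3Key M, List.mem_toFinset.mpr (gl3Key_mem M)⟩
  have hinj : Function.Injective f := fun M M' h => gl3Key_injective (congrArg Subtype.val h)
  have hcard : Nat.card ↥(glKeys.toFinset) ≤ Nat.card (GL (Fin 3) (ZMod 2)) := by
    rw [card_GL32, Nat.card_eq_fintype_card, Fintype.card_coe]
    exact (List.toFinset_card_le _).trans glKeys_length.le
  obtain ⟨M, hM⟩ := (hinj.bijective_of_nat_card_le hcard).2 ⟨k, List.mem_toFinset.mpr hk⟩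
  exact ⟨M, congrArg Subtype.val hM⟩

theorem gl3Key_one : gl3Key 1 = 273 := by
  obtain ⟨M, hM⟩ := exists_gl3Key_eq (k := 273) (by decide +kernel)
  rw [← gl3_eq_one hM]
  exact hM

/-! ### Generation -/

/-- The key of the first generator. -/
def glGen1 : ℕ := 275

/-- The key of the second generator. -/
def glGen2 : ℕ := 98

/-- The key of the inverse of the first generator. -/
def glInv1 : ℕ := 275

/-- The key of the inverse of the second generator. -/
def glInv2 : ℕ := 140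

/-- Lookup in a table with rows of length 32. -/
def tab32 (L : List (List ℕ)) (k : ℕ) : ℕ := (L.getD (k / 32) []).getD (k % 32) 0

/-- The word length of the matrices with respect to the generators, by key. -/
def glDepth : List (List ℕ) :=
  [[0, 0, 0, 0, 0, 0, 0, 0, 0, 0, 0, 0, 0, 0, 0, 0, 0, 0, 0, 0, 0, 0, 0, 0, 0, 0, 0, 0, 0, 0, 0, 0],
   [0, 0, 0, 0, 0, 0, 0, 0, 0, 0, 0, 0, 0, 0, 0, 0, 0, 0, 0, 0, 0, 0, 0, 0, 0, 0, 0, 0, 0, 0, 0, 0],
   [0, 0, 0, 0, 0, 0, 0, 0, 0, 0, 0, 0, 0, 0, 0, 0, 0, 0, 0, 0, 13, 11, 12, 12, 0, 0, 0, 0, 10, 12, 11, 9],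
   [0, 0, 1, 11, 0, 0, 2, 10, 0, 0, 5, 7, 0, 0, 6, 6, 0, 0, 11, 11, 12, 10, 0, 0, 0, 0, 7, 13, 14, 8, 0, 0],
   [0, 0, 0, 0, 0, 0, 0, 0, 0, 0, 0, 0, 2, 3, 9, 8, 0, 0, 0, 0, 0, 0, 0, 0, 0, 0, 0, 0, 3, 7, 8, 4],
   [0, 13, 0, 12, 0, 13, 0, 13, 0, 10, 0, 11, 9, 0, 12, 0, 0, 11, 0, 12, 0, 11, 0, 10, 0, 12, 0, 9, 8, 0, 13, 0],
   [0, 0, 0, 0, 0, 0, 0, 0, 0, 0, 0, 0, 9, 8, 12, 13, 0, 0, 0, 0, 13, 11, 13, 10, 0, 0, 0, 0, 0, 0, 0, 0],
   [0, 12, 2, 0, 0, 11, 3, 0, 0, 14, 6, 0, 15, 0, 0, 7, 0, 10, 10, 0, 11, 0, 0, 9, 0, 8, 6, 0, 0, 7, 7, 0],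
   [0, 0, 0, 0, 0, 0, 0, 0, 0, 0, 12, 11, 0, 0, 13, 14, 0, 0, 0, 1, 0, 10, 0, 9, 0, 10, 11, 0, 0, 13, 12, 0],
   [0, 0, 0, 0, 0, 0, 0, 0, 0, 0, 12, 10, 0, 0, 11, 11, 0, 4, 0, 5, 0, 6, 0, 5, 0, 9, 13, 0, 0, 12, 10, 0],
   [0, 0, 0, 0, 0, 0, 0, 0, 0, 0, 12, 13, 0, 0, 10, 9, 0, 4, 0, 5, 13, 0, 12, 0, 0, 9, 10, 0, 9, 0, 0, 8],
   [0, 0, 8, 14, 0, 0, 7, 13, 0, 0, 0, 0, 0, 0, 0, 0, 0, 5, 14, 0, 13, 0, 0, 6, 0, 8, 0, 9, 10, 0, 8, 0],
   [0, 0, 0, 0, 0, 0, 0, 0, 0, 0, 13, 12, 3, 4, 0, 0, 0, 10, 0, 9, 0, 13, 0, 14, 0, 13, 14, 0, 4, 0, 0, 5],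
   [0, 13, 0, 12, 0, 12, 0, 11, 0, 9, 10, 0, 8, 0, 0, 9, 0, 0, 0, 0, 0, 0, 0, 0, 0, 0, 9, 8, 7, 8, 0, 0],
   [0, 0, 0, 0, 0, 0, 0, 0, 0, 0, 11, 10, 8, 7, 0, 0, 0, 6, 0, 5, 12, 0, 11, 0, 0, 12, 11, 0, 0, 8, 9, 0],
   [0, 13, 7, 0, 0, 12, 6, 0, 0, 10, 0, 8, 11, 0, 7, 0, 0, 0, 13, 6, 12, 7, 0, 0, 0, 0, 0, 0, 0, 0, 0, 0]]

/-- The key of the inverse of the last letter of a shortest word for a matrix, by key. -/
def glStep : List (List ℕ) :=
  [[0, 0, 0, 0, 0, 0, 0, 0, 0, 0, 0, 0, 0, 0, 0, 0, 0, 0, 0, 0, 0, 0, 0, 0, 0, 0, 0, 0, 0, 0, 0, 0],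
   [0, 0, 0, 0, 0, 0, 0, 0, 0, 0, 0, 0, 0, 0, 0, 0, 0, 0, 0, 0, 0, 0, 0, 0, 0, 0, 0, 0, 0, 0, 0, 0],
   [0, 0, 0, 0, 0, 0, 0, 0, 0, 0, 0, 0, 0, 0, 0, 0, 0, 0, 0, 0, 140, 275, 140, 275, 0, 0, 0, 0, 275, 140, 140, 275],
   [0, 0, 140, 140, 0, 0, 140, 140, 0, 0, 140, 140, 0, 0, 140, 140, 0, 0, 140, 275, 140, 275, 0, 0, 0, 0, 275, 140, 140, 275, 0, 0],
   [0, 0, 0, 0, 0, 0, 0, 0, 0, 0, 0, 0, 140, 140, 275, 275, 0, 0, 0, 0, 0, 0, 0, 0, 0, 0, 0, 0, 275, 140, 140, 275],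
   [0, 275, 0, 140, 0, 140, 0, 140, 0, 275, 0, 140, 275, 0, 140, 0, 0, 140, 0, 275, 0, 275, 0, 140, 0, 275, 0, 140, 140, 0, 275, 0],
   [0, 0, 0, 0, 0, 0, 0, 0, 0, 0, 0, 0, 140, 140, 275, 275, 0, 0, 0, 0, 140, 140, 275, 140, 0, 0, 0, 0, 0, 0, 0, 0],
   [0, 275, 275, 0, 0, 275, 275, 0, 0, 275, 140, 0, 275, 0, 0, 140, 0, 140, 140, 0, 140, 0, 0, 140, 0, 275, 275, 0, 0, 275, 275, 0],
   [0, 0, 0, 0, 0, 0, 0, 0, 0, 0, 275, 275, 0, 0, 140, 140, 0, 0, 0, 275, 0, 140, 0, 140, 0, 140, 140, 0, 0, 140, 140, 0],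
   [0, 0, 0, 0, 0, 0, 0, 0, 0, 0, 140, 275, 0, 0, 275, 140, 0, 140, 0, 275, 0, 275, 0, 140, 0, 140, 275, 0, 0, 275, 140, 0],
   [0, 0, 0, 0, 0, 0, 0, 0, 0, 0, 275, 275, 0, 0, 275, 275, 0, 140, 0, 140, 275, 0, 275, 0, 0, 140, 140, 0, 275, 0, 0, 275],
   [0, 0, 275, 275, 0, 0, 275, 275, 0, 0, 0, 0, 0, 0, 0, 0, 0, 140, 275, 0, 275, 0, 0, 140, 0, 140, 0, 140, 140, 0, 275, 0],
   [0, 0, 0, 0, 0, 0, 0, 0, 0, 0, 140, 140, 140, 140, 0, 0, 0, 140, 0, 140, 0, 140, 0, 140, 0, 275, 275, 0, 275, 0, 0, 275],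
   [0, 275, 0, 140, 0, 275, 0, 140, 0, 275, 275, 0, 275, 0, 0, 275, 0, 0, 0, 0, 0, 0, 0, 0, 0, 0, 140, 140, 140, 140, 0, 0],
   [0, 0, 0, 0, 0, 0, 0, 0, 0, 0, 275, 275, 140, 140, 0, 0, 0, 275, 0, 275, 140, 0, 140, 0, 0, 140, 140, 0, 0, 140, 140, 0],
   [0, 140, 140, 0, 0, 140, 140, 0, 0, 275, 0, 140, 275, 0, 140, 0, 0, 0, 140, 275, 140, 275, 0, 0, 0, 0, 0, 0, 0, 0, 0, 0]]

theorem glStep_ok : glKeys.all (fun k => k == 273 ||
    ((tab32 glStep k == glInv1 || tab32 glStep k == glInv2) &&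
      decide (tab32 glDepth (mulKey k (tab32 glStep k)) < tab32 glDepth k))) = true := by
  decide +kernel

theorem glInv_ok : mulKey glInv1 glGen1 = 273 ∧ mulKey glInv2 glGen2 = 273 ∧
    glGen1 ∈ glKeys ∧ glGen2 ∈ glKeys ∧ glInv1 ∈ glKeys ∧ glInv2 ∈ glKeys := by decide +kernel

/-- Induction along words in the two generators. -/
theorem gl3_induction {P : GL (Fin 3) (ZMod 2) → Prop} (h1 : P 1)
    (hS : ∀ M S, P M → (gl3Key S = glGen1 ∨ gl3Key S = glGen2) → P (M * S)) : ∀ M, P M := by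
  have key : ∀ n, ∀ M, tab32 glDepth (gl3Key M) = n → P M := by
    intro n
    induction n using Nat.strong_induction_on with
    | _ n ih =>
      intro M hM
      by_cases h273 : gl3Key M = 273
      · rw [gl3_eq_one h273]
        exact h1
      · have h := List.all_eq_true.mp glStep_ok _ (gl3Key_mem M)
        simp only [Bool.or_eq_true, Bool.and_eq_true, beq_iff_eq, decide_eq_true_eq] at h
        rcases h with h | ⟨ht, hlt⟩
        · exact absurd h h273
        · obtain ⟨hi1, hi2, hg1, hg2, ht1, ht2⟩ := glInv_ok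
          have hex : ∃ T S, gl3Key T = tab32 glStep (gl3Key M) ∧
              (gl3Key S = glGen1 ∨ gl3Key S = glGen2) ∧ T * S = 1 := by
            rcases ht with ht | ht
            · obtain ⟨T, hT⟩ := exists_gl3Key_eq ht1
              obtain ⟨S, hS'⟩ := exists_gl3Key_eq hg1
              refine ⟨T, S, by rw [hT, ht], Or.inl hS', gl3_eq_one ?_⟩
              rw [gl3Key_mul', hT, hS']
              exact hi1
            · obtain ⟨T, hT⟩ := exists_gl3Key_eq ht2
              obtain ⟨S, hS'⟩ := exists_gl3Key_eq hg2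
              refine ⟨T, S, by rw [hT, ht], Or.inr hS', gl3_eq_one ?_⟩
              rw [gl3Key_mul', hT, hS']
              exact hi2
          obtain ⟨T, S, hT, hS', hTS⟩ := hex
          have hlt' : tab32 glDepth (gl3Key (M * T)) < n := by
            rw [gl3Key_mul', hT, ← hM]
            exact hlt
          have hM' : P (M * T) := ih _ hlt' (M * T) rfl
          have h2 := hS (M * T) S hM' hS'
          rwa [mul_assoc, hTS, mul_one] at h2
  exact fun M => key _ M rfl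

/-- A table of tables indexed by `key9` defines a homomorphism from `GL₃(𝔽₂)`. -/
structure GL3Table (gl : List (List (List ℕ))) : Prop where
  ok : ∀ k ∈ glKeys, permOK (gl3Tab gl k) = true
  one : gl3Tab gl 273 = idT
  mul : ∀ k ∈ glKeys, compT (gl3Tab gl k) (gl3Tab gl glGen1) = gl3Tab gl (mulKey k glGen1) ∧
    compT (gl3Tab gl k) (gl3Tab gl glGen2) = gl3Tab gl (mulKey k glGen2)

theorem GL3Table.map_mul_gen {gl : List (List (List ℕ))} (h : GL3Table gl)
    (M S : GL (Fin 3) (ZMod 2)) (hS : gl3Key S = glGen1 ∨ gl3Key S = glGen2) :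
    tperm (gl3Tab gl (gl3Key (M * S))) =
      tperm (gl3Tab gl (gl3Key M)) * tperm (gl3Tab gl (gl3Key S)) := by
  rw [tperm_mul (h.ok _ (gl3Key_mem M)) (h.ok _ (gl3Key_mem S)), gl3Key_mul']
  rcases hS with hS | hS
  · rw [hS, (h.mul _ (gl3Key_mem M)).1]
  · rw [hS, (h.mul _ (gl3Key_mem M)).2]

theorem GL3Table.map_mul {gl : List (List (List ℕ))} (h : GL3Table gl)
    (M M' : GL (Fin 3) (ZMod 2)) :
    tperm (gl3Tab gl (gl3Key (M * M'))) =
      tperm (gl3Tab gl (gl3Key M)) * tperm (gl3Tab gl (gl3Key M')) := by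
  revert M
  refine gl3_induction (P := fun M' => ∀ M, tperm (gl3Tab gl (gl3Key (M * M'))) =
      tperm (gl3Tab gl (gl3Key M)) * tperm (gl3Tab gl (gl3Key M'))) ?_ ?_ M'
  · intro M
    rw [mul_one, gl3Key_one, h.one, tperm_idT, mul_one]
  · intro M' S ih hS M
    rw [← mul_assoc, h.map_mul_gen (M * M') S hS, ih M, h.map_mul_gen M' S hS, mul_assoc]

/-- The homomorphism defined by a table of tables. -/
noncomputable def gl3Hom (gl : List (List (List ℕ))) (h : GL3Table gl) :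
    GL (Fin 3) (ZMod 2) →* Equiv.Perm GolayPt :=
  MonoidHom.mk' (fun M => tperm (gl3Tab gl (gl3Key M))) h.map_mul

theorem gl3Hom_apply (gl : List (List (List ℕ))) (h : GL3Table gl) (M : GL (Fin 3) (ZMod 2)) :
    gl3Hom gl h M = tperm (gl3Tab gl (gl3Key M)) := rfl

/-- The image of the homomorphism lies in any submonoid containing the images of the
generators. -/
theorem gl3Hom_mem {gl : List (List (List ℕ))} (h : GL3Table gl)
    (H : Submonoid (Equiv.Perm GolayPt)) (h1 : tperm (gl3Tab gl glGen1) ∈ H)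
    (h2 : tperm (gl3Tab gl glGen2) ∈ H) (M : GL (Fin 3) (ZMod 2)) : gl3Hom gl h M ∈ H := by
  refine gl3_induction (P := fun M => gl3Hom gl h M ∈ H) ?_ ?_ M
  · rw [map_one]
    exact H.one_mem
  · intro M S hM hS
    rw [map_mul]
    refine H.mul_mem hM ?_
    rw [gl3Hom_apply]
    rcases hS with hS | hS
    · rw [hS]
      exact h1
    · rw [hS]
      exact h2

theorem gl3Key_lt (M : GL (Fin 3) (ZMod 2)) : gl3Key M < 512 := key9_lt _ _ _ _ _ _ _ _ _

/-! ### The symmetric group of degree 3 -/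

/-- The index of a permutation of three points. -/
def p3Key (π : Equiv.Perm (Fin 3)) : ℕ := 3 * (π 0).val + (π 1).val

theorem p3Key_mem : ∀ π : Equiv.Perm (Fin 3), p3Key π ∈ ([1, 2, 3, 5, 6, 7] : List ℕ) := by decide

theorem p3_eq_one : ∀ π : Equiv.Perm (Fin 3), p3Key π = 1 → π = 1 := by decide

theorem p3Key_lt (π : Equiv.Perm (Fin 3)) : p3Key π < 9 := by
  have h := p3Key_mem π
  simp only [List.mem_cons, List.not_mem_nil, or_false] at h
  omega

/-- A table of tables indexed by `p3Key` defines a homomorphism from the symmetric group. -/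
structure P3Table (p3 : List (List ℕ)) : Prop where
  ok : ∀ k < 9, permOK (p3.getD k idT) = true
  mul : ∀ π π' : Equiv.Perm (Fin 3), compT (p3.getD (p3Key π) idT) (p3.getD (p3Key π') idT) =
    p3.getD (p3Key (π * π')) idT

/-- The homomorphism defined by a table of tables. -/
noncomputable def p3Hom (p3 : List (List ℕ)) (h : P3Table p3) :
    Equiv.Perm (Fin 3) →* Equiv.Perm GolayPt :=
  MonoidHom.mk' (fun π => tperm (p3.getD (p3Key π) idT)) (by
    intro π π'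
    rw [← h.mul π π']
    exact (tperm_mul (h.ok _ (p3Key_lt π)) (h.ok _ (p3Key_lt π'))).symm)

theorem p3Hom_apply (p3 : List (List ℕ)) (h : P3Table p3) (π : Equiv.Perm (Fin 3)) :
    p3Hom p3 h π = tperm (p3.getD (p3Key π) idT) := rfl

end Cfsg.Agent.Lib.Helper95
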