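import Cfsg.Agent.Lib.Helper95.IcoA

set_option autoImplicit false
set_option maxRecDepth 100000

/-! Icosian model, part B: algebra of the model, and the complete verified enumeration of the
icosians of norm `1, 2, τ², σ²` (as far as needed: the 120 units, and the 56 short elements
congruent to 1 modulo `I h`). -/

namespace Cfsg.Agent.Lib.Helper95.Ico

open Quaternion Cfsg.Spor

/-! ### Algebra of the model (through injectivity of `iota`) -/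

theorem I8.mul_assoc' (x y z : I8) : (x.mul y).mul z = x.mul (y.mul z) :=
  iota_injective (by simp only [iota_mul, mul_assoc])

theorem I8.mul_one' (x : I8) : x.mul I8.one = x :=
  iota_injective (by rw [iota_mul, iota_one, mul_one])

theorem I8.one_mul' (x : I8) : I8.one.mul x = x :=
  iota_injective (by rw [iota_mul, iota_one, one_mul])

theorem I8.mul_sub' (u x y : I8) : u.mul (x.sub y) = (u.mul x).sub (u.mul y) :=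
  iota_injective (by simp only [iota_mul, iota_sub, mul_sub])

theorem I8.mul_add' (u x y : I8) : u.mul (x.add y) = (u.mul x).add (u.mul y) :=
  iota_injective (by simp only [iota_mul, iota_add, mul_add])

theorem I8.mul_smul' (u : I8) (n : ℤ) (w : I8) : u.mul (I8.smul n w) = I8.smul n (u.mul w) :=
  iota_injective (by
    simp only [iota_mul, iota_smul]
    rw [← mul_assoc, ← Int.cast_comm, mul_assoc])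

theorem I8.mul_zero' (u : I8) : u.mul I8.zero = I8.zero :=
  iota_injective (by rw [iota_mul, iota_zero, mul_zero])

def hI8 : I8 := ⟨-2, 0, 0, 1, 1, 1, 0, -1⟩
def hbI8 : I8 := ⟨-2, 0, 0, 1, 1, 0, -1, -2⟩
def twoI8 : I8 := ⟨0, 0, 0, 0, 4, -2, -2, -2⟩

theorem iota_hI8 : iota hI8 = icoH := by
  apply Quaternion.ext <;> simp only [iota_re, iota_imI, iota_imJ, iota_imK, hI8, icoH] <;>
    push_cast <;> ring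

theorem hbI8_eq : hbI8 = hI8.conj := by decide

theorem iota_hbI8 : iota hbI8 = star icoH := by
  rw [hbI8_eq, iota_conj, iota_hI8]

theorem mulH_eq (x : I8) : x.mulH = x.mul hI8 := by
  simp only [I8.mul, I8.mulH, hI8, I8.mk.injEq]
  refine ⟨?_, ?_, ?_, ?_, ?_, ?_, ?_, ?_⟩ <;> ring

theorem mulHb_eq (x : I8) : x.mulHb = x.mul hbI8 := by
  simp only [I8.mul, I8.mulHb, hbI8, I8.mk.injEq]
  refine ⟨?_, ?_, ?_, ?_, ?_, ?_, ?_, ?_⟩ <;> ring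

theorem iota_mulH (x : I8) : iota x.mulH = iota x * icoH := by
  rw [mulH_eq, iota_mul, iota_hI8]

theorem iota_mulHb (x : I8) : iota x.mulHb = iota x * star icoH := by
  rw [mulHb_eq, iota_mul, iota_hbI8]

theorem mulH_mulHb (x : I8) : x.mulHb.mulH = I8.smul 2 x := by
  cases x
  simp only [I8.mulH, I8.mulHb, I8.smul, I8.mk.injEq]
  refine ⟨?_, ?_, ?_, ?_, ?_, ?_, ?_, ?_⟩ <;> ring

theorem mulHb_mulH (x : I8) : x.mulH.mulHb = I8.smul 2 x := by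
  cases x
  simp only [I8.mulH, I8.mulHb, I8.smul, I8.mk.injEq]
  refine ⟨?_, ?_, ?_, ?_, ?_, ?_, ?_, ?_⟩ <;> ring

theorem mulH_mul (u x : I8) : (u.mul x).mulH = u.mul x.mulH := by
  rw [mulH_eq, mulH_eq, I8.mul_assoc']

theorem mulHb_mul (u x : I8) : (u.mul x).mulHb = u.mul x.mulHb := by
  rw [mulHb_eq, mulHb_eq, I8.mul_assoc']

theorem mul_twoI8 (w : I8) : w.mul twoI8 = I8.smul 2 w := by
  have h : twoI8 = I8.smul 2 I8.one := by decide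
  rw [h, I8.mul_smul', I8.mul_one']

/-! ### Norms -/

theorem tau_indep {a b a' b' : ℤ} (h : (a : ℝ) + b * tau = a' + b' * tau) : a = a' ∧ b = b' := by
  have h2 : (((2 * (a - a') + (b - b') : ℤ)) : ℝ) + ((b - b' : ℤ) : ℝ) * Real.sqrt 5 = 0 := by
    push_cast; unfold tau at h; linarith
  obtain ⟨h3, h4⟩ := irr5 _ _ h2
  omega

theorem tau_sq : tau * tau = tau + 1 := by
  unfold tau; nlinarith [s5sq]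

theorem nrm_mul (x y : I8) : (x.mul y).nrmA = x.nrmA * y.nrmA + x.nrmB * y.nrmB ∧
    (x.mul y).nrmB = x.nrmA * y.nrmB + x.nrmB * y.nrmA + x.nrmB * y.nrmB := by
  have h := iota_normSq (x.mul y)
  rw [iota_mul, map_mul, iota_normSq, iota_normSq] at h
  apply tau_indep
  push_cast
  linear_combination (-1 : ℝ) * h + ((x.nrmB : ℝ) * y.nrmB) * tau_sq

theorem nrm_conj (x : I8) : x.conj.nrmA = x.nrmA ∧ x.conj.nrmB = x.nrmB := by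
  have h := iota_normSq x.conj
  rw [iota_conj, Quaternion.normSq_star, iota_normSq] at h
  exact (tau_indep h).symm.imp Eq.symm Eq.symm |>.symm

theorem conj_mul_self {u : I8} (hA : u.nrmA = 1) (hB : u.nrmB = 0) : u.conj.mul u = I8.one := by
  apply iota_injective
  rw [iota_mul, iota_conj, Quaternion.star_mul_self, iota_normSq, hA, hB, iota_one]
  simp

theorem self_mul_conj {u : I8} (hA : u.nrmA = 1) (hB : u.nrmB = 0) : u.mul u.conj = I8.one := by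
  apply iota_injective
  rw [iota_mul, iota_conj, Quaternion.self_mul_star, iota_normSq, hA, hB, iota_one]
  simp

theorem nrm_unit_mul {u : I8} (hA : u.nrmA = 1) (hB : u.nrmB = 0) (x : I8) :
    (u.mul x).nrmA = x.nrmA ∧ (u.mul x).nrmB = x.nrmB := by
  obtain ⟨h1, h2⟩ := nrm_mul u x
  rw [hA, hB] at h1 h2
  constructor <;> linarith

theorem nrm_mulH (x : I8) : x.mulH.nrmA = 2 * x.nrmA ∧ x.mulH.nrmB = 2 * x.nrmB := by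
  obtain ⟨h1, h2⟩ := nrm_mul x hI8
  have hA : hI8.nrmA = 2 := by decide
  have hB : hI8.nrmB = 0 := by decide
  rw [hA, hB] at h1 h2
  rw [mulH_eq]
  constructor <;> linarith

/-! ### Evenness -/

def Ev (v : I8) : Prop := ∃ w : I8, v = I8.smul 2 w

def ev8 (v : I8) : Bool :=
  v.a % 2 == 0 && v.b % 2 == 0 && v.c % 2 == 0 && v.d % 2 == 0 &&
    v.e % 2 == 0 && v.f % 2 == 0 && v.g % 2 == 0 && v.h % 2 == 0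

theorem ev_iff (v : I8) : Ev v ↔ (v.a % 2 = 0 ∧ v.b % 2 = 0 ∧ v.c % 2 = 0 ∧ v.d % 2 = 0 ∧
    v.e % 2 = 0 ∧ v.f % 2 = 0 ∧ v.g % 2 = 0 ∧ v.h % 2 = 0) := by
  constructor
  · rintro ⟨w, rfl⟩
    simp only [I8.smul]
    omega
  · rintro ⟨h1, h2, h3, h4, h5, h6, h7, h8⟩
    refine ⟨⟨v.a / 2, v.b / 2, v.c / 2, v.d / 2, v.e / 2, v.f / 2, v.g / 2, v.h / 2⟩, ?_⟩
    cases v
    simp only [I8.smul, I8.mk.injEq] at *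
    omega

theorem ev8_iff (v : I8) : ev8 v = true ↔ Ev v := by
  rw [ev_iff]
  simp only [ev8, Bool.and_eq_true, beq_iff_eq]
  tauto

theorem Ev.mul (u : I8) {v : I8} (h : Ev v) : Ev (u.mul v) := by
  obtain ⟨w, rfl⟩ := h
  exact ⟨u.mul w, I8.mul_smul' u 2 w⟩

/-! ### The units and the short elements congruent to 1 -/

/-- the 120 unit icosians -/
def Ulist : List I8 := [
  ⟨-1,-1,0,1,0,1,0,-1⟩, ⟨-1,-1,0,1,0,1,1,-1⟩, ⟨-1,-1,0,1,1,0,0,-2⟩, ⟨-1,-1,0,1,1,0,0,-1⟩, ⟨-1,0,-1,1,0,1,0,-1⟩, ⟨-1,0,-1,1,0,1,0,0⟩,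
  ⟨-1,0,-1,1,1,0,-1,-1⟩, ⟨-1,0,-1,1,1,1,-1,-1⟩, ⟨-1,0,0,0,0,0,0,0⟩, ⟨-1,0,0,0,0,1,0,0⟩, ⟨-1,0,0,0,1,0,-1,-1⟩, ⟨-1,0,0,0,1,0,0,-1⟩,
  ⟨-1,0,0,1,0,0,0,-1⟩, ⟨-1,0,0,1,0,1,0,-1⟩, ⟨-1,0,0,1,1,0,-1,-1⟩, ⟨-1,0,0,1,1,0,0,-1⟩, ⟨-1,0,1,0,0,0,0,-1⟩, ⟨-1,0,1,0,0,0,0,0⟩,
  ⟨-1,0,1,0,1,-1,0,-1⟩, ⟨-1,0,1,0,1,0,0,-1⟩, ⟨-1,1,0,0,0,0,-1,0⟩, ⟨-1,1,0,0,0,0,0,0⟩, ⟨-1,1,0,0,1,0,-1,-1⟩, ⟨-1,1,0,0,1,0,-1,0⟩,
  ⟨0,-1,-1,1,-1,1,1,0⟩, ⟨0,-1,-1,1,0,1,0,-1⟩, ⟨0,-1,-1,1,0,1,0,0⟩, ⟨0,-1,-1,1,1,0,0,-1⟩, ⟨0,-1,0,0,-1,1,1,0⟩, ⟨0,-1,0,0,0,0,0,0⟩,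
  ⟨0,-1,0,0,0,0,1,0⟩, ⟨0,-1,0,0,1,0,0,-1⟩, ⟨0,-1,0,1,-1,1,1,0⟩, ⟨0,-1,0,1,0,0,0,-1⟩, ⟨0,-1,0,1,0,0,1,-1⟩, ⟨0,-1,0,1,1,0,0,-1⟩,
  ⟨0,-1,1,0,-1,0,1,0⟩, ⟨0,-1,1,0,0,0,1,-1⟩, ⟨0,-1,1,0,0,0,1,0⟩, ⟨0,-1,1,0,1,-1,0,-1⟩, ⟨0,0,-1,0,-1,1,0,1⟩, ⟨0,0,-1,0,0,0,0,0⟩,
  ⟨0,0,-1,0,0,1,0,0⟩, ⟨0,0,-1,0,1,0,-1,0⟩, ⟨0,0,-1,1,-1,1,0,0⟩, ⟨0,0,-1,1,0,0,0,0⟩, ⟨0,0,-1,1,0,1,0,0⟩, ⟨0,0,-1,1,1,0,-1,-1⟩,
  ⟨0,0,0,0,-2,1,1,1⟩, ⟨0,0,0,0,-1,0,0,0⟩, ⟨0,0,0,0,-1,0,0,1⟩, ⟨0,0,0,0,-1,0,1,0⟩, ⟨0,0,0,0,-1,0,1,1⟩, ⟨0,0,0,0,-1,1,0,0⟩,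
  ⟨0,0,0,0,-1,1,0,1⟩, ⟨0,0,0,0,-1,1,1,0⟩, ⟨0,0,0,0,-1,1,1,1⟩, ⟨0,0,0,0,0,-1,0,0⟩, ⟨0,0,0,0,0,0,-1,0⟩, ⟨0,0,0,0,0,0,0,-1⟩,
  ⟨0,0,0,0,0,0,0,1⟩, ⟨0,0,0,0,0,0,1,0⟩, ⟨0,0,0,0,0,1,0,0⟩, ⟨0,0,0,0,1,-1,-1,-1⟩, ⟨0,0,0,0,1,-1,-1,0⟩, ⟨0,0,0,0,1,-1,0,-1⟩,
  ⟨0,0,0,0,1,-1,0,0⟩, ⟨0,0,0,0,1,0,-1,-1⟩, ⟨0,0,0,0,1,0,-1,0⟩, ⟨0,0,0,0,1,0,0,-1⟩, ⟨0,0,0,0,1,0,0,0⟩, ⟨0,0,0,0,2,-1,-1,-1⟩,
  ⟨0,0,1,-1,-1,0,1,1⟩, ⟨0,0,1,-1,0,-1,0,0⟩, ⟨0,0,1,-1,0,0,0,0⟩, ⟨0,0,1,-1,1,-1,0,0⟩, ⟨0,0,1,0,-1,0,1,0⟩, ⟨0,0,1,0,0,-1,0,0⟩,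
  ⟨0,0,1,0,0,0,0,0⟩, ⟨0,0,1,0,1,-1,0,-1⟩, ⟨0,1,-1,0,-1,1,0,1⟩, ⟨0,1,-1,0,0,0,-1,0⟩, ⟨0,1,-1,0,0,0,-1,1⟩, ⟨0,1,-1,0,1,0,-1,0⟩,
  ⟨0,1,0,-1,-1,0,0,1⟩, ⟨0,1,0,-1,0,0,-1,1⟩, ⟨0,1,0,-1,0,0,0,1⟩, ⟨0,1,0,-1,1,-1,-1,0⟩, ⟨0,1,0,0,-1,0,0,1⟩, ⟨0,1,0,0,0,0,-1,0⟩,
  ⟨0,1,0,0,0,0,0,0⟩, ⟨0,1,0,0,1,-1,-1,0⟩, ⟨0,1,1,-1,-1,0,0,1⟩, ⟨0,1,1,-1,0,-1,0,0⟩, ⟨0,1,1,-1,0,-1,0,1⟩, ⟨0,1,1,-1,1,-1,-1,0⟩,
  ⟨1,-1,0,0,-1,0,1,0⟩, ⟨1,-1,0,0,-1,0,1,1⟩, ⟨1,-1,0,0,0,0,0,0⟩, ⟨1,-1,0,0,0,0,1,0⟩, ⟨1,0,-1,0,-1,0,0,1⟩, ⟨1,0,-1,0,-1,1,0,1⟩,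
  ⟨1,0,-1,0,0,0,0,0⟩, ⟨1,0,-1,0,0,0,0,1⟩, ⟨1,0,0,-1,-1,0,0,1⟩, ⟨1,0,0,-1,-1,0,1,1⟩, ⟨1,0,0,-1,0,-1,0,1⟩, ⟨1,0,0,-1,0,0,0,1⟩,
  ⟨1,0,0,0,-1,0,0,1⟩, ⟨1,0,0,0,-1,0,1,1⟩, ⟨1,0,0,0,0,-1,0,0⟩, ⟨1,0,0,0,0,0,0,0⟩, ⟨1,0,1,-1,-1,-1,1,1⟩, ⟨1,0,1,-1,-1,0,1,1⟩,
  ⟨1,0,1,-1,0,-1,0,0⟩, ⟨1,0,1,-1,0,-1,0,1⟩, ⟨1,1,0,-1,-1,0,0,1⟩, ⟨1,1,0,-1,-1,0,0,2⟩, ⟨1,1,0,-1,0,-1,-1,1⟩, ⟨1,1,0,-1,0,-1,0,1⟩]

/-- the 56 icosians of norm `1, 2, τ², σ²` congruent to 1 modulo `I h` -/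
def T1 : List I8 := [
  ⟨-2,0,0,1,1,0,-1,-2⟩, ⟨-2,0,0,1,1,0,0,-1⟩, ⟨-2,0,0,1,1,1,-1,-1⟩, ⟨-2,0,0,1,1,1,0,-2⟩, ⟨-1,-1,-1,1,1,1,0,-1⟩, ⟨-1,-1,-1,2,0,1,0,-1⟩,
  ⟨-1,-1,1,0,0,0,1,-1⟩, ⟨-1,-1,1,1,1,0,0,-2⟩, ⟨-1,1,-1,0,0,1,-1,0⟩, ⟨-1,1,-1,1,1,0,-1,-1⟩, ⟨-1,1,1,-1,1,-1,-1,0⟩, ⟨-1,1,1,0,0,0,0,0⟩,
  ⟨0,-2,0,1,-1,1,1,-1⟩, ⟨0,-2,0,1,-1,1,2,0⟩, ⟨0,-2,0,1,1,0,0,-1⟩, ⟨0,-2,0,1,1,0,1,-2⟩, ⟨0,0,-2,1,-1,1,0,0⟩, ⟨0,0,-2,1,-1,2,0,1⟩,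
  ⟨0,0,-2,1,1,0,-1,0⟩, ⟨0,0,-2,1,1,1,-1,-1⟩, ⟨0,0,0,-1,-1,0,0,1⟩, ⟨0,0,0,-1,-1,1,1,1⟩, ⟨0,0,0,-1,1,-1,0,0⟩, ⟨0,0,0,-1,1,0,-1,0⟩,
  ⟨0,0,0,0,-2,1,1,1⟩, ⟨0,0,0,0,0,-1,0,0⟩, ⟨0,0,0,0,0,0,-1,0⟩, ⟨0,0,0,0,0,0,0,-1⟩, ⟨0,0,0,0,0,0,0,1⟩, ⟨0,0,0,0,0,0,1,0⟩,
  ⟨0,0,0,0,0,1,0,0⟩, ⟨0,0,0,0,2,-1,-1,-1⟩, ⟨0,0,0,1,-1,0,1,0⟩, ⟨0,0,0,1,-1,1,0,0⟩, ⟨0,0,0,1,1,-1,-1,-1⟩, ⟨0,0,0,1,1,0,0,-1⟩,
  ⟨0,0,2,-1,-1,-1,1,1⟩, ⟨0,0,2,-1,-1,0,1,0⟩, ⟨0,0,2,-1,1,-2,0,-1⟩, ⟨0,0,2,-1,1,-1,0,0⟩, ⟨0,2,0,-1,-1,0,-1,2⟩, ⟨0,2,0,-1,-1,0,0,1⟩,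
  ⟨0,2,0,-1,1,-1,-2,0⟩, ⟨0,2,0,-1,1,-1,-1,1⟩, ⟨1,-1,-1,0,0,0,0,0⟩, ⟨1,-1,-1,1,-1,1,1,0⟩, ⟨1,-1,1,-1,-1,0,1,1⟩, ⟨1,-1,1,0,0,-1,1,0⟩,
  ⟨1,1,-1,-1,-1,0,0,2⟩, ⟨1,1,-1,0,0,0,-1,1⟩, ⟨1,1,1,-2,0,-1,0,1⟩, ⟨1,1,1,-1,-1,-1,0,1⟩, ⟨2,0,0,-1,-1,-1,0,2⟩, ⟨2,0,0,-1,-1,-1,1,1⟩,
  ⟨2,0,0,-1,-1,0,0,1⟩, ⟨2,0,0,-1,-1,0,1,2⟩]

def cls (a b : ℤ) : Bool :=
  (a == 1 && b == 0) || (a == 2 && b == 0) || (a == 1 && b == 1) || (a == 2 && b == -1)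

/-- congruent to 1 modulo `I h` -/
def kb1 (x : I8) : Bool := ev8 (x.sub I8.one).mulHb

def good (x : I8) : Bool :=
  !(cls x.nrmA x.nrmB) ||
    ((!(x.nrmA == 1 && x.nrmB == 0) || decide (x ∈ Ulist)) && (!(kb1 x) || decide (x ∈ T1)))

def rI (n : ℕ) : List ℤ := (List.range (2 * n + 1)).map (fun k : ℕ => Int.ofNat k - Int.ofNat n)

theorem mem_rI (n : ℕ) (x : ℤ) (h1 : -(n : ℤ) ≤ x) (h2 : x ≤ n) : x ∈ rI n := by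
  have h3 : ((x + n).toNat : ℤ) = x + n := Int.toNat_of_nonneg (by omega)
  have h4 : (x + n).toNat < 2 * n + 1 := by omega
  have h5 : Int.ofNat (x + n).toNat - Int.ofNat n = x := by
    show ((x + n).toNat : ℤ) - (n : ℤ) = x
    omega
  unfold rI
  rw [List.mem_map]
  exact ⟨(x + n).toNat, List.mem_range.mpr h4, h5⟩

def leafOK (s8 : ℤ) (x : I8) : Bool :=
  (decide (s8 ≠ 16) && decide (s8 ≠ 24) && decide (s8 ≠ 32)) || good x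

def chkH (a b c d e f g s7 : ℤ) : Bool :=
  (rI 6).all fun h =>
    leafOK (s7 + (-a - b + c + 2 * d + 2 * e + 4 * h) * (-a - b + c + 2 * d + 2 * e + 4 * h))
      ⟨a, b, c, d, e, f, g, h⟩

def chkG (a b c d e f s6 : ℤ) : Bool :=
  (rI 4).all fun g =>
    decide (32 < s6 + (2 * b - c + 2 * e + 4 * g) * (2 * b - c + 2 * e + 4 * g)) ||
      chkH a b c d e f g (s6 + (2 * b - c + 2 * e + 4 * g) * (2 * b - c + 2 * e + 4 * g))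

def chkF (a b c d e s5 : ℤ) : Bool :=
  (rI 5).all fun f =>
    decide (32 < s5 + (2 * a + b + 2 * c + 2 * e + 4 * f) * (2 * a + b + 2 * c + 2 * e + 4 * f)) ||
      chkG a b c d e f (s5 + (2 * a + b + 2 * c + 2 * e + 4 * f) * (2 * a + b + 2 * c + 2 * e + 4 * f))

def chkE (a b c d s4 : ℤ) : Bool :=
  (rI 3).all fun e =>
    decide (32 < s4 + (a + 2 * e) * (a + 2 * e)) || chkF a b c d e (s4 + (a + 2 * e) * (a + 2 * e))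

def chkD (a b c : ℤ) : Bool :=
  (rI 4).all fun d =>
    decide (32 < 5 * (a * a + b * b + c * c + (a + b + c + 2 * d) * (a + b + c + 2 * d))) ||
      chkE a b c d (5 * (a * a + b * b + c * c + (a + b + c + 2 * d) * (a + b + c + 2 * d)))

def enumChk : Bool := (rI 2).all fun a => (rI 2).all fun b => (rI 2).all fun c => chkD a b c

theorem enumChk_true : enumChk = true := by decide +kernel

theorem sq_bound2 (x : ℤ) (h : 5 * (x * x) ≤ 32) : -2 ≤ x ∧ x ≤ 2 := by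
  constructor <;> nlinarith

theorem sq_bound5 (x : ℤ) (h : x * x ≤ 32) : -5 ≤ x ∧ x ≤ 5 := by
  constructor <;> nlinarith

theorem enum_sound (x : I8) (hF : 8 * (2 * x.nrmA + x.nrmB) = 16 ∨ 8 * (2 * x.nrmA + x.nrmB) = 24 ∨
    8 * (2 * x.nrmA + x.nrmB) = 32) : good x = true := by
  obtain ⟨a, b, c, d, e, f, g, h⟩ := x
  have hid : 8 * (2 * (I8.mk a b c d e f g h).nrmA + (I8.mk a b c d e f g h).nrmB) =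
      5 * (a * a + b * b + c * c + (a + b + c + 2 * d) * (a + b + c + 2 * d)) +
      (a + 2 * e) * (a + 2 * e) +
      (2 * a + b + 2 * c + 2 * e + 4 * f) * (2 * a + b + 2 * c + 2 * e + 4 * f) +
      (2 * b - c + 2 * e + 4 * g) * (2 * b - c + 2 * e + 4 * g) +
      (-a - b + c + 2 * d + 2 * e + 4 * h) * (-a - b + c + 2 * d + 2 * e + 4 * h) := by
    simp only [I8.nrmA, I8.nrmB]; ring
  rw [hid] at hF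
  obtain ⟨q3, hq3⟩ : ∃ q3, q3 = a + b + c + 2 * d := ⟨_, rfl⟩
  obtain ⟨p0, hp0⟩ : ∃ p0, p0 = a + 2 * e := ⟨_, rfl⟩
  obtain ⟨p1, hp1⟩ : ∃ p1, p1 = 2 * a + b + 2 * c + 2 * e + 4 * f := ⟨_, rfl⟩
  obtain ⟨p2, hp2⟩ : ∃ p2, p2 = 2 * b - c + 2 * e + 4 * g := ⟨_, rfl⟩
  obtain ⟨p3, hp3⟩ : ∃ p3, p3 = -a - b + c + 2 * d + 2 * e + 4 * h := ⟨_, rfl⟩
  rw [← hq3, ← hp0, ← hp1, ← hp2, ← hp3] at hF
  have hF' : 5 * (a * a + b * b + c * c + q3 * q3) + p0 * p0 + p1 * p1 + p2 * p2 + p3 * p3 ≤ 32 := by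
    omega
  have na := mul_self_nonneg a
  have nb := mul_self_nonneg b
  have nc := mul_self_nonneg c
  have nq3 := mul_self_nonneg q3
  have np0 := mul_self_nonneg p0
  have np1 := mul_self_nonneg p1
  have np2 := mul_self_nonneg p2
  have np3 := mul_self_nonneg p3
  have ba := sq_bound2 a (by linarith)
  have bb := sq_bound2 b (by linarith)
  have bc := sq_bound2 c (by linarith)
  have bq3 := sq_bound2 q3 (by linarith)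
  have bp0 := sq_bound5 p0 (by linarith)
  have bp1 := sq_bound5 p1 (by linarith)
  have bp2 := sq_bound5 p2 (by linarith)
  have bp3 := sq_bound5 p3 (by linarith)
  have h0 := enumChk_true
  have h1 := List.all_eq_true.mp h0 a (mem_rI 2 a (by omega) (by omega))
  have h2 := List.all_eq_true.mp h1 b (mem_rI 2 b (by omega) (by omega))
  have h3 := List.all_eq_true.mp h2 c (mem_rI 2 c (by omega) (by omega))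
  have h4 := List.all_eq_true.mp h3 d (mem_rI 4 d (by omega) (by omega))
  rw [← hq3] at h4
  simp only [Bool.or_eq_true, decide_eq_true_eq] at h4
  rcases h4 with h4 | h4
  · exfalso; linarith
  have h5 := List.all_eq_true.mp h4 e (mem_rI 3 e (by omega) (by omega))
  rw [← hp0] at h5
  simp only [Bool.or_eq_true, decide_eq_true_eq] at h5
  rcases h5 with h5 | h5
  · exfalso; linarith
  have h6 := List.all_eq_true.mp h5 f (mem_rI 5 f (by omega) (by omega))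
  rw [← hp1] at h6
  simp only [Bool.or_eq_true, decide_eq_true_eq] at h6
  rcases h6 with h6 | h6
  · exfalso; linarith
  have h7 := List.all_eq_true.mp h6 g (mem_rI 4 g (by omega) (by omega))
  rw [← hp2] at h7
  simp only [Bool.or_eq_true, decide_eq_true_eq] at h7
  rcases h7 with h7 | h7
  · exfalso; linarith
  have h8 := List.all_eq_true.mp h7 h (mem_rI 6 h (by omega) (by omega))
  rw [← hp3] at h8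
  simp only [leafOK, Bool.or_eq_true, Bool.and_eq_true, decide_eq_true_eq] at h8
  rcases h8 with h8 | h8
  · exfalso; omega
  exact h8

theorem cls_good {x : I8} (h : cls x.nrmA x.nrmB = true) : good x = true := by
  apply enum_sound
  simp only [cls, Bool.or_eq_true, Bool.and_eq_true, beq_iff_eq] at h
  omega

/-- every icosian of norm 1 is one of the 120 listed units -/
theorem unit_mem {x : I8} (hA : x.nrmA = 1) (hB : x.nrmB = 0) : x ∈ Ulist := by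
  have hc : cls x.nrmA x.nrmB = true := by rw [hA, hB]; decide
  have hg := cls_good hc
  unfold good at hg
  rw [hc] at hg
  simp only [Bool.not_true, Bool.false_or, Bool.and_eq_true, Bool.or_eq_true,
    decide_eq_true_eq] at hg
  rcases hg.1 with h | h
  · rw [hA, hB] at h
    exact absurd h (by decide)
  · exact h

/-- every short icosian congruent to 1 modulo `I h` is one of the 56 listed ones -/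
theorem t1_mem {x : I8} (hc : cls x.nrmA x.nrmB = true) (hk : kb1 x = true) : x ∈ T1 := by
  have hg := cls_good hc
  unfold good at hg
  rw [hc] at hg
  simp only [Bool.not_true, Bool.false_or, Bool.and_eq_true, Bool.or_eq_true,
    decide_eq_true_eq] at hg
  rcases hg.2 with h | h
  · rw [hk] at h
    exact absurd h (by decide)
  · exact h

theorem Ulist_nrm : ∀ u ∈ Ulist, u.nrmA = 1 ∧ u.nrmB = 0 := by decide +kernel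

theorem Ulist_nodup : Ulist.Nodup := by decide +kernel

theorem Ulist_length : Ulist.length = 120 := by decide

end Cfsg.Agent.Lib.Helper95.Ico
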