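import Cfsg.Agent.Lib.Helper95.IcoOA

/-!
# Automorphisms of the permutation group of degree 315: the levels of the chase

Checks on the table of orders: the candidates for the images of the base points.
-/

set_option autoImplicit false
set_option maxHeartbeats 400000

namespace Cfsg.Agent.Lib.Helper95.IcoO

open Cfsg.Agent.Lib.Helper7.Sims Cfsg.Agent.Lib.Helper7.J2P Cfsg.Agent.Lib.Helper95.IcoS

theorem lvl1 : allLt (fun j => !(Nat.beq (CT 0 j) (CT 0 27)) ||
    U2.any (fun T => Nat.beq (ap9 T 27) j)) 315 = true := by decide +kernel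

theorem lvl2 : allLt (fun j => !(Nat.beq (CT 0 j) (CT 0 280)) || !(Nat.beq (CT 1 j) (CT 1 280)) ||
    U3.any (fun T => Nat.beq (ap9 T j) 280 || Nat.beq (ap9 TT (ap9 T j)) 280)) 315 = true := by
  decide +kernel

theorem lvl3 : allLt (fun j => !(Nat.beq (CT 0 j) (CT 0 100)) || !(Nat.beq (CT 1 j) (CT 1 100)) ||
    !(Nat.beq (CT 2 j) (CT 2 100)) ||
    U3.any (fun T => (Nat.beq (ap9 T 280) 280 && Nat.beq (ap9 T j) 100) ||
      (Nat.beq (ap9 TT (ap9 T 280)) 280 && Nat.beq (ap9 TT (ap9 T j)) 100))) 315 = true := by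
  decide +kernel

/-- the point `bp k` is determined by the orders at the earlier base points -/
def forced (k : ℕ) : Bool :=
  allLt (fun j => Nat.beq j (bp k) ||
    anyLt (fun r => !(Nat.beq (CT r j) (CT r (bp k)))) k) 315

theorem lvl4 : forced 4 = true ∧ forced 5 = true ∧ forced 6 = true ∧ forced 7 = true ∧
    forced 8 = true := by decide +kernel

/-- the vector of orders at the nine base points -/
def encV (j : ℕ) : ℕ :=
  CT 0 j + 8 * (CT 1 j + 8 * (CT 2 j + 8 * (CT 3 j + 8 * (CT 4 j + 8 * (CT 5 j +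
    8 * (CT 6 j + 8 * (CT 7 j + 8 * CT 8 j)))))))

theorem lvl5 : nodupB ((List.range 315).map encV) = true := by decide +kernel

end Cfsg.Agent.Lib.Helper95.IcoO
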