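import Cfsg.Agent.Lib.Helper95.IcoOB
import Cfsg.Agent.Lib.Helper95.IcoSE

/-!
# Automorphisms of the permutation group of degree 315: the reflections

The 315 reflections `rho j` of the permutation group `P` on the lines, their tables, and the
orders of their products at the base points.
-/

set_option autoImplicit false
set_option maxHeartbeats 400000

namespace Cfsg.Agent.Lib.Helper95.IcoO

open Quaternion Cfsg.Spor Cfsg.Agent.Lib.Helper7.Sims Cfsg.Agent.Lib.Helper7.J2P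
  Cfsg.Agent.Lib.Helper95.IcoS Equiv

/-- the reflection in the line `j`, as an element of `P` -/
noncomputable def rho (j : Fin 315) : ↥P :=
  ⟨Ico.phiJ (QuotientGroup.mk (Ico.Rr j)), Ico.phiJ_mem _⟩

theorem rho_conj (p : ↥P) (j : Fin 315) : p * rho j * p⁻¹ = rho (p.1 j) := by
  obtain ⟨y, hy⟩ := Ico.phiJ_surj p.2
  obtain ⟨h, rfl⟩ := QuotientGroup.mk_surjective y
  apply Subtype.ext
  show p.1 * Ico.phiJ (QuotientGroup.mk (Ico.Rr j)) * p.1⁻¹ =
    Ico.phiJ (QuotientGroup.mk (Ico.Rr (p.1 j)))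
  rw [← hy]
  show Ico.lineHom h * Ico.lineHom (Ico.Rr j) * (Ico.lineHom h)⁻¹ =
    Ico.lineHom (Ico.Rr (Ico.lineHom h j))
  rw [← Ico.conj_Rr, map_mul, map_mul, map_inv]

theorem rho_zero : (rho 0).1 = s0 := Ico.phiJ_R0

theorem rho_gen0 : (rho 0).1 = s0 := Ico.phiJ_R0

theorem rho_gen1 : (rho ⟨78, by norm_num⟩).1 = s1 := Ico.genPerm1

theorem rho_gen2 : (rho ⟨166, by norm_num⟩).1 = s2 := Ico.genPerm2

theorem rho_gen3 : (rho ⟨203, by norm_num⟩).1 = s3 := Ico.genPerm3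

theorem P_eq_K1 : P = K (n := 315) ap9 Sn1 := by rw [hgen.2, ← P_eq]

/-- a transversal table gives an element of `P` -/
theorem u1_perm (T : ℕ) (hT : T ∈ U1) : ∃ u : ↥P, ActsAs u.1 (ap9 T) := by
  obtain ⟨u, hu, hact⟩ := tree_sound ap9 Sn1 hS1 U1 [] htree1 (by simp) T hT
  exact ⟨⟨u, by rw [P_eq_K1]; exact hu⟩, hact⟩

/-- a table of the second transversal gives an element of the point stabiliser -/
theorem u2_perm (T : ℕ) (hT : T ∈ U2) : ∃ u ∈ St0, ActsAs u (ap9 T) :=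
  tree_sound ap9 Sn2 hS2 U2 [] htree2 (by simp) T hT

theorem hS3 : ∀ T ∈ Sn3, ∃ g : Perm (Fin 315), ActsAs g (ap9 T) := fun T hT =>
  hS2 T ((memB_iff _ _).1 (List.all_eq_true.1 hnest2 T hT))

/-- a table of the third transversal gives an element of the point stabiliser fixing `27` -/
theorem u3_perm (T : ℕ) (hT : T ∈ U3) :
    ∃ u ∈ St0, ActsAs u (ap9 T) ∧ u 0 = 0 ∧ u ⟨27, by norm_num⟩ = ⟨27, by norm_num⟩ := by
  obtain ⟨u, hu, hact⟩ := tree_sound ap9 Sn3 hS3 U3 [] htree3 (by simp) T hT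
  have hle : K (n := 315) ap9 Sn3 ≤ St0 := by
    apply Subgroup.closure_mono
    rintro v ⟨S, hS, hv⟩
    exact ⟨S, (memB_iff _ _).1 (List.all_eq_true.1 hnest2 S hS), hv⟩
  refine ⟨u, hle hu, hact, St0_fix (hle hu), ?_⟩
  apply Fin.ext
  rw [hact]
  have h := List.all_eq_true.1 hfx2 ⟨4, Sn3, U3⟩ List.mem_cons_self
  exact (nbeq_iff _ _).1 (List.all_eq_true.1 h T hT)

/-- `P` is transitive on the points -/
theorem P_trans (j : Fin 315) : ∃ p : ↥P, p.1 0 = j := by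
  have h := (allLt_iff _ 315).1 u1_trans j.1 j.2
  rw [List.any_eq_true] at h
  obtain ⟨T, hT, hTj⟩ := h
  obtain ⟨u, hu⟩ := u1_perm T hT
  exact ⟨u, Fin.ext ((hu 0).trans ((nbeq_iff _ _).1 hTj))⟩

theorem rho_eq_conj (p : ↥P) (j : Fin 315) (h : p.1 0 = j) : rho j = p * rho 0 * p⁻¹ := by
  rw [rho_conj, h]

theorem rho_sq (j : Fin 315) : rho j * rho j = 1 := by
  obtain ⟨p, hp⟩ := P_trans j
  rw [rho_eq_conj p j hp]
  have h0 : rho 0 * rho 0 = 1 := Subtype.ext (by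
    show (rho 0).1 * (rho 0).1 = 1
    rw [rho_zero]; exact s0_sq)
  calc p * rho 0 * p⁻¹ * (p * rho 0 * p⁻¹) = p * (rho 0 * rho 0) * p⁻¹ := by group
    _ = 1 := by rw [h0]; group

theorem rho_ne_one (j : Fin 315) : rho j ≠ 1 := by
  obtain ⟨p, hp⟩ := P_trans j
  rw [rho_eq_conj p j hp]
  intro h
  have h1 : rho 0 = 1 := by
    have h2 : rho 0 = p⁻¹ * (p * rho 0 * p⁻¹) * p := by group
    rw [h2, h]; group
  have h3 : (rho 0).1 = 1 := congrArg Subtype.val h1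
  rw [rho_zero] at h3
  exact s0_ne_one h3

/-- the tabulated reflections -/
theorem rts_spec (q : ℕ × ℕ) (hq : q ∈ RTS) (hj : q.1 < 315) :
    ActsAs (rho ⟨q.1, hj⟩).1 (ap9 q.2) := by
  have h := List.all_eq_true.1 rts_ok q hq
  rw [Bool.and_eq_true] at h
  have h2 := h.2
  unfold rtOK at h2
  rw [List.any_eq_true] at h2
  obtain ⟨T, hT, h3⟩ := h2
  rw [Bool.and_eq_true] at h3
  obtain ⟨h4, h5⟩ := h3
  have h6 := (allLt_iff _ 315).1 h5
  obtain ⟨u, hu⟩ := u1_perm T hT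
  have hu0 : u.1 0 = ⟨q.1, hj⟩ := Fin.ext ((hu 0).trans ((nbeq_iff _ _).1 h4))
  have hconj : (rho ⟨q.1, hj⟩).1 * u.1 = u.1 * s0 := by
    have e := congrArg Subtype.val (rho_eq_conj u ⟨q.1, hj⟩ hu0)
    have e2 : (rho ⟨q.1, hj⟩).1 = u.1 * (rho 0).1 * u.1⁻¹ := e
    rw [e2, rho_zero]
    group
  intro x
  have hx : x = u.1 (u.1⁻¹ x) := (u.1.apply_symm_apply x).symm
  have e3 : (rho ⟨q.1, hj⟩).1 x = u.1 (s0 (u.1⁻¹ x)) := by
    conv_lhs => rw [hx]
    have := congrArg (fun g : Perm (Fin 315) => g (u.1⁻¹ x)) hconj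
    simpa only [Perm.mul_apply] using this
  rw [e3, hu, s0_apply, ← (nbeq_iff _ _).1 (h6 _ (u.1⁻¹ x).2), ← hu, ← hx]

theorem itF_eq (f : ℕ → ℕ) : ∀ (m x : ℕ), itF f m x = f^[m] x
  | 0, _ => rfl
  | m + 1, x => by
    rw [itF, itF_eq f m x, Function.iterate_succ_apply']

/-- the order of a permutation from its function -/
theorem order_of_ordOK {g : Perm (Fin 315)} {f : ℕ → ℕ} (hg : ActsAs g f) {c : ℕ}
    (h : ordOK f c = true) : orderOf g = c := by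
  unfold ordOK at h
  rw [Bool.and_eq_true, Bool.and_eq_true] at h
  obtain ⟨⟨h0, h1⟩, h2⟩ := h
  have hc : 0 < c := (nblt_iff _ _).1 h0
  have h1' := (allLt_iff _ 315).1 h1
  have h2' := (allLt_iff _ c).1 h2
  rw [orderOf_eq_iff hc]
  constructor
  · refine ActsAs.ext' (actsAs_pow hg c) actsAs_one (fun i hi => ?_)
    rw [← itF_eq]
    exact (nbeq_iff _ _).1 (h1' i hi)
  · intro m hm hm0 hpow
    have h3 := h2' m hm
    rw [Bool.or_eq_true] at h3
    rcases h3 with h3 | h3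
    · have := (nbeq_iff _ _).1 h3
      omega
    · obtain ⟨i, hi, h4⟩ := anyLt_imp _ _ h3
      have h5 := (actsAs_pow hg m) ⟨i, hi⟩
      rw [hpow] at h5
      have h6 : i = itF f m i := by rw [itF_eq]; exact h5
      have h7 := (nbeq_iff _ _).2 h6.symm
      rw [h7] at h4
      exact Bool.noConfusion h4

theorem orderOf_conj' {G : Type*} [Group G] (g x : G) : orderOf (g * x * g⁻¹) = orderOf x :=
  (MulAut.conj g).orderOf_eq x

theorem chkW_spec : ∀ (L : List (ℕ × ℕ × ℕ)) (s : ℕ), chkW L s = true → ∀ j < L.length,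
    ∃ w ∈ L, memB w.1 U2 = true ∧ memB w.2.1 U3 = true ∧ ap9 w.1 (ap9 w.2.1 w.2.2) = s + j ∧
      OT (s + j) = OT w.2.2 ∧ memB w.2.2 [0, 1, 3, 27, 195, 197] = true
  | [], _, _, j, hj => by simp at hj
  | w :: l, s, h, j, hj => by
    rw [chkW, Bool.and_eq_true] at h
    obtain ⟨h1, h2⟩ := h
    rcases j with _ | j
    · simp only [Bool.and_eq_true] at h1
      obtain ⟨⟨⟨⟨a, b⟩, c⟩, d⟩, e⟩ := h1
      exact ⟨w, List.mem_cons_self, a, b, (nbeq_iff _ _).1 c, (nbeq_iff _ _).1 d, e⟩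
    · have hj' : j < l.length := by
        rw [List.length_cons] at hj; omega
      obtain ⟨w', hw', hh⟩ := chkW_spec l (Nat.succ s) h2 j hj'
      have e : Nat.succ s + j = s + (j + 1) := by omega
      rw [e] at hh
      exact ⟨w', List.mem_cons_of_mem _ hw', hh⟩

/-- a product of tables of the second and third transversals is in the point stabiliser -/
theorem pair_perm (p : ℕ × ℕ) (h1 : p.1 ∈ U2) (h2 : p.2 ∈ U3) : ∃ g ∈ St0, ActsAs g (f2 p) := by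
  have hsel : Sel [p.1, p.2] (us Lt) :=
    List.Forall₂.cons h1 (List.Forall₂.cons h2 List.Forall₂.nil)
  obtain ⟨g, hg, hact⟩ := rep_pset ap9 (us Lt) tail_perm [p.1, p.2] hsel
  refine ⟨g, ?_, fun i => hact i⟩
  have h3 : g ∈ (St0 : Set (Perm (Fin 315))) := by rw [← St0_eq_pset]; exact hg
  exact h3

/-- the orders at the orbit representatives -/
theorem ord_rep (r : ℕ) (hr : r ∈ [0, 1, 3, 27, 195, 197]) (hr' : r < 315) :
    orderOf (rho 0 * rho ⟨r, hr'⟩) = OT r := by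
  have h := List.all_eq_true.1 ord_ok r hr
  rw [List.any_eq_true] at h
  obtain ⟨q, hq, h1⟩ := h
  rw [Bool.and_eq_true] at h1
  obtain ⟨h2, h3⟩ := h1
  have hq1 : q.1 = r := (nbeq_iff _ _).1 h2
  have hj : q.1 < 315 := by rw [hq1]; exact hr'
  have hact := rts_spec q hq hj
  have e : (⟨q.1, hj⟩ : Fin 315) = ⟨r, hr'⟩ := Fin.ext hq1
  rw [e] at hact
  have hprod : ActsAs ((rho 0).1 * (rho ⟨r, hr'⟩).1) (fun x => ap9 t0 (ap9 q.2 x)) := by
    rw [rho_zero]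
    exact actsAs_s0.mul hact
  rw [← Subgroup.orderOf_coe]
  exact order_of_ordOK hprod h3

/-- the orders of the products of the first generator with the reflections -/
theorem ord0 (k : Fin 315) : orderOf (rho 0 * rho k) = OT k.1 := by
  have hk : k.1 < OW.length := by rw [ow_len]; exact k.2
  obtain ⟨w, _, a, b, c, d, e⟩ := chkW_spec OW 0 ow_ok k.1 hk
  rw [Nat.zero_add] at c d
  have hr : w.2.2 ∈ [0, 1, 3, 27, 195, 197] := (memB_iff _ _).1 e
  have hr' : w.2.2 < 315 := by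
    simp only [List.mem_cons, List.mem_nil_iff, or_false] at hr
    rcases hr with h | h | h | h | h | h <;> rw [h] <;> norm_num
  obtain ⟨g, hg, hact⟩ := pair_perm (w.1, w.2.1) ((memB_iff _ _).1 a) ((memB_iff _ _).1 b)
  have hgr : g ⟨w.2.2, hr'⟩ = k := Fin.ext ((hact _).trans c)
  have hg0 : g 0 = 0 := St0_fix hg
  have hgP : g ∈ P := St0_le_P hg
  have e1 : rho 0 * rho k = (⟨g, hgP⟩ : ↥P) * (rho 0 * rho ⟨w.2.2, hr'⟩) * (⟨g, hgP⟩ : ↥P)⁻¹ := by
    have a1 := rho_conj ⟨g, hgP⟩ 0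
    have a2 := rho_conj ⟨g, hgP⟩ ⟨w.2.2, hr'⟩
    have b1 : (⟨g, hgP⟩ : ↥P).1 0 = 0 := hg0
    have b2 : (⟨g, hgP⟩ : ↥P).1 ⟨w.2.2, hr'⟩ = k := hgr
    rw [b1] at a1
    rw [b2] at a2
    have a3 : (⟨g, hgP⟩ : ↥P) * (rho 0 * rho ⟨w.2.2, hr'⟩) * (⟨g, hgP⟩ : ↥P)⁻¹ =
        ((⟨g, hgP⟩ : ↥P) * rho 0 * (⟨g, hgP⟩ : ↥P)⁻¹) *
          ((⟨g, hgP⟩ : ↥P) * rho ⟨w.2.2, hr'⟩ * (⟨g, hgP⟩ : ↥P)⁻¹) := by group
    rw [a3, a1, a2]
  rw [e1, orderOf_conj', ord_rep w.2.2 hr hr', d]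

/-- the orders of the products of the reflections at the base points with the reflections -/
theorem ordB (r : ℕ) (hr : r < 9) (b : Fin 315) (hb : b.1 = bp r) (j : Fin 315) :
    orderOf (rho b * rho j) = CT r j.1 := by
  have h := (allLt_iff _ 9).1 ui_ok r hr
  rw [forceNat_eq, List.any_eq_true] at h
  obtain ⟨T, hT, h1⟩ := h
  rw [Bool.and_eq_true] at h1
  obtain ⟨h2, h3⟩ := h1
  have h4 := (allLt_iff _ 315).1 h3
  obtain ⟨u, hu⟩ := u1_perm T hT
  have hu0 : u.1 0 = b := Fin.ext ((hu 0).trans (((nbeq_iff _ _).1 h2).trans hb.symm))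
  have hk : ((u.1⁻¹ j : Fin 315) : ℕ) = ap9 (UI r) j.1 := by
    have hx : j = u.1 (u.1⁻¹ j) := (u.1.apply_symm_apply j).symm
    have h5 := (nbeq_iff _ _).1 (h4 _ (u.1⁻¹ j).2)
    rw [← hu, ← hx] at h5
    exact h5.symm
  have e1 : rho b * rho j = u * (rho 0 * rho (u.1⁻¹ j)) * u⁻¹ := by
    have a1 := rho_conj u 0
    have a2 := rho_conj u (u.1⁻¹ j)
    rw [hu0] at a1
    have b2 : u.1 (u.1⁻¹ j) = j := u.1.apply_symm_apply j
    rw [b2] at a2
    have a3 : u * (rho 0 * rho (u.1⁻¹ j)) * u⁻¹ =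
        (u * rho 0 * u⁻¹) * (u * rho (u.1⁻¹ j) * u⁻¹) := by group
    rw [a3, a1, a2]
  rw [e1, orderOf_conj', ord0, hk]
  rfl

end Cfsg.Agent.Lib.Helper95.IcoO
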