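import Cfsg.Agent.Lib.Helper95.IcoOC
import Cfsg.Prelude.Def_KGroupFacts

/-!
# The outer automorphism group of the Hall–Janko group

Every automorphism of the permutation group `P` of degree 315 permutes the reflections
(the squares of the elements of order four), preserving the orders of their products; a
chase along nine base points shows that it is inner or inner times the automorphism induced
by the permutation `tauP`.  Hence `|Out(J₂)| = 2`.
-/

set_option autoImplicit false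
set_option maxHeartbeats 400000

namespace Cfsg.Agent.Lib.Helper95.IcoO

open Quaternion Cfsg.Spor Cfsg.Agent.Lib.Helper7.Sims Cfsg.Agent.Lib.Helper7.J2P
  Cfsg.Agent.Lib.Helper95.IcoS Equiv

/-! ### The class of reflections is characteristic -/

theorem a5_no4 : ∀ π : Perm (Fin 5), Perm.sign π = 1 → π ^ 4 = 1 → π ^ 2 = 1 := by
  decide +kernel

/-- the square of an element of the point stabiliser of order four is a reflection -/
theorem sq_refl {y : Perm (Fin 315)} (hy : y ∈ St0) (h4 : y ^ 4 = 1) (hne : y * y ≠ 1) :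
    ∃ m : Fin 315, y * y = (rho m).1 := by
  have hπ4 : psiS ⟨y, hy⟩ ^ 4 = 1 := by
    rw [← map_pow]
    have h1 : (⟨y, hy⟩ : ↥St0) ^ 4 = 1 := Subtype.ext h4
    rw [h1, map_one]
  have hπ2 : psiS ⟨y, hy⟩ ^ 2 = 1 := a5_no4 _ (psiS_sign _) hπ4
  have hyy : y * y ∈ Kp := by
    rw [mem_Kp]
    refine ⟨St0.mul_mem hy hy, ?_⟩
    have e : (⟨y * y, St0.mul_mem hy hy⟩ : ↥St0) = ⟨y, hy⟩ ^ 2 :=
      Subtype.ext (pow_two y).symm
    rw [e, map_pow, hπ2]
  obtain ⟨q, hq, hact⟩ := mem_Kp_iff.mp hyy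
  have h := List.all_eq_true.1 qp_inv q hq
  unfold invOK at h
  rw [Bool.or_eq_true, Bool.or_eq_true] at h
  rcases h with (h | h) | h
  · exfalso
    apply hne
    exact ActsAs.ext' hact actsAs_one
      (fun i hi => (nbeq_iff _ _).1 ((allLt_iff _ 315).1 h i hi))
  · exfalso
    have hsq : (y * y) * (y * y) = 1 := by
      rw [← h4, show (4 : ℕ) = 2 + 2 from rfl, pow_add, pow_two]
    have h7 : allLt (fun i => Nat.beq (f2 q (f2 q i)) i) 315 = true := by
      refine (allLt_iff _ 315).2 (fun i hi => (nbeq_iff _ _).2 ?_)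
      have h6 := (hact.mul hact) ⟨i, hi⟩
      rw [hsq] at h6
      exact h6.symm
    rw [h7] at h
    exact Bool.noConfusion h
  · rw [List.any_eq_true] at h
    obtain ⟨p, hp, h8⟩ := h
    have hj : p.1 < 315 := by
      have h9 := List.all_eq_true.1 rts_ok p hp
      rw [Bool.and_eq_true] at h9
      exact (nblt_iff _ _).1 h9.1
    exact ⟨⟨p.1, hj⟩, ActsAs.ext' hact (rts_spec p hp hj)
      (fun i hi => (nbeq_iff _ _).1 ((allLt_iff _ 315).1 h8 i hi))⟩

theorem exists_root : ∃ g0 : ↥P, g0 * g0 = rho 0 := by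
  have h := qp_root
  rw [List.any_eq_true] at h
  obtain ⟨q, hq, h1⟩ := h
  obtain ⟨g, hg, hact⟩ := qp_perm q hq
  refine ⟨⟨g, St0_le_P hg⟩, Subtype.ext ?_⟩
  show g * g = (rho 0).1
  rw [rho_zero]
  exact ActsAs.ext' (hact.mul hact) actsAs_s0
    (fun i hi => (nbeq_iff _ _).1 ((allLt_iff _ 315).1 h1 i hi))

/-- automorphisms permute the reflections -/
theorem class_inv (α : ↥P ≃* ↥P) (j : Fin 315) : ∃ k : Fin 315, α (rho j) = rho k := by
  obtain ⟨g0, hg0⟩ := exists_root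
  obtain ⟨p, hp⟩ := P_trans j
  obtain ⟨y, hy⟩ : ∃ y : ↥P, y = α (p * g0 * p⁻¹) := ⟨_, rfl⟩
  have hyy : y * y = α (rho j) := by
    rw [rho_eq_conj p j hp, ← hg0, hy, ← map_mul]
    congr 1
    group
  have hy4' : y ^ 4 = 1 := by
    have h1 : y * y * (y * y) = 1 := by rw [hyy, ← map_mul, rho_sq, map_one]
    rw [show (4 : ℕ) = 2 + 2 from rfl, pow_add, pow_two, h1]
  have hy4 : y.1 ^ 4 = 1 := congrArg Subtype.val hy4'
  have hfix : ∃ a : Fin 315, y.1 a = a := by
    haveI : Fact (Nat.Prime 2) := ⟨Nat.prime_two⟩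
    refine Equiv.Perm.exists_fixed_point_of_prime (p := 2) (n := 2) ?_ hy4
    rw [Fintype.card_fin]; norm_num
  obtain ⟨a, ha⟩ := hfix
  obtain ⟨v, hv⟩ := P_trans a
  obtain ⟨y', hy'⟩ : ∃ y' : ↥P, y' = v⁻¹ * y * v := ⟨_, rfl⟩
  have hy'0 : y'.1 0 = 0 := by
    rw [hy']
    show v.1⁻¹ (y.1 (v.1 0)) = 0
    rw [hv, ha, ← hv]
    exact v.1.symm_apply_apply 0
  have hy'S : y'.1 ∈ St0 := mem_St0_of_fix y'.2 hy'0
  have hy'4 : y'.1 ^ 4 = 1 := by
    have h1 : y' ^ 4 = 1 := by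
      have h2 : (v⁻¹ * y * v) ^ 4 = v⁻¹ * y ^ 4 * v := by
        have h3 := conj_pow (a := v⁻¹) (b := y) (i := 4)
        rw [inv_inv] at h3
        exact h3
      rw [hy', h2, hy4', mul_one, inv_mul_cancel]
    exact congrArg Subtype.val h1
  have hback : y * y = v * (y' * y') * v⁻¹ := by
    rw [hy']; group
  have hne : y'.1 * y'.1 ≠ 1 := by
    intro h
    have h1 : y' * y' = 1 := Subtype.ext h
    have h2 : y * y = 1 := by
      rw [hback, h1]; group
    rw [hyy] at h2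
    have h3 : rho j = 1 := by
      have h4 := congrArg α.symm h2
      rwa [MulEquiv.symm_apply_apply, map_one] at h4
    exact rho_ne_one j h3
  obtain ⟨m, hm⟩ := sq_refl hy'S hy'4 hne
  refine ⟨v.1 m, ?_⟩
  have h1 : y' * y' = rho m := Subtype.ext hm
  rw [← hyy, hback, h1, rho_conj]

/-! ### The automorphism induced by `tauP` -/

/-- the permutation normalising the group -/
def tauP : Perm (Fin 315) := permOf ap9 315 TT TT tt_inv

theorem actsAs_tau : ActsAs tauP (ap9 TT) := permOf_actsAs tt_inv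

theorem tau_sq : tauP * tauP = 1 :=
  ActsAs.ext' (actsAs_tau.mul actsAs_tau) actsAs_one
    (fun i hi => (invChk_spec tt_inv i hi).2.2.1)

theorem tau_inv : tauP⁻¹ = tauP := inv_eq_of_mul_eq_one_left tau_sq

theorem tau0 : tauP 0 = 0 := Fin.ext ((actsAs_tau 0).trans tt_base.1)

theorem tau27 : tauP ⟨27, by norm_num⟩ = ⟨27, by norm_num⟩ :=
  Fin.ext ((actsAs_tau _).trans tt_base.2.1)

theorem tau_gen (e : ℕ × ℕ) (he : e ∈ [(t0, 0), (t1, 133), (t2, 173), (t3, 201)])
    (s : Perm (Fin 315)) (hs : ActsAs s (ap9 e.1)) :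
    ∃ k : Fin 315, k.1 = e.2 ∧ tauP * s * tauP⁻¹ = (rho k).1 := by
  have h := List.all_eq_true.1 tt_gen e he
  rw [List.any_eq_true] at h
  obtain ⟨p, hp, h1⟩ := h
  rw [Bool.and_eq_true] at h1
  obtain ⟨h2, h3⟩ := h1
  have hj : p.1 < 315 := by
    have h9 := List.all_eq_true.1 rts_ok p hp
    rw [Bool.and_eq_true] at h9
    exact (nblt_iff _ _).1 h9.1
  refine ⟨⟨p.1, hj⟩, (nbeq_iff _ _).1 h2, ?_⟩
  have h4 : tauP * s = (rho ⟨p.1, hj⟩).1 * tauP :=
    ActsAs.ext' (actsAs_tau.mul hs) ((rts_spec p hp hj).mul actsAs_tau)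
      (fun i hi => (nbeq_iff _ _).1 ((allLt_iff _ 315).1 h3 i hi))
  rw [h4]; group

theorem tau_conj_mem {x : Perm (Fin 315)} (hx : x ∈ P) : tauP * x * tauP⁻¹ ∈ P := by
  have hle : P ≤ P.comap (MulAut.conj tauP).toMonoidHom := by
    show Subgroup.closure {s0, s1, s2, s3} ≤ _
    rw [Subgroup.closure_le]
    intro s hs
    simp only [Set.mem_insert_iff, Set.mem_singleton_iff] at hs
    rw [SetLike.mem_coe, Subgroup.mem_comap]
    show tauP * s * tauP⁻¹ ∈ P
    rcases hs with rfl | rfl | rfl | rfl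
    · obtain ⟨k, -, hk⟩ := tau_gen (t0, 0) (by simp) s0 (permOf_actsAs hinv0)
      rw [hk]; exact (rho k).2
    · obtain ⟨k, -, hk⟩ := tau_gen (t1, 133) (by simp) s1 (permOf_actsAs hinv1)
      rw [hk]; exact (rho k).2
    · obtain ⟨k, -, hk⟩ := tau_gen (t2, 173) (by simp) s2 (permOf_actsAs hinv2)
      rw [hk]; exact (rho k).2
    · obtain ⟨k, -, hk⟩ := tau_gen (t3, 201) (by simp) s3 (permOf_actsAs hinv3)
      rw [hk]; exact (rho k).2
  exact hle hx

theorem tau_map : P.map (MulAut.conj tauP).toMonoidHom = P := by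
  apply Subgroup.eq_of_le_of_card_ge
  · rintro _ ⟨x, hx, rfl⟩
    exact tau_conj_mem hx
  · rw [Subgroup.card_map_of_injective (MulAut.conj tauP).injective]

/-- the automorphism of `P` induced by `tauP` -/
noncomputable def psi : ↥P ≃* ↥P :=
  ((MulAut.conj tauP).subgroupMap P).trans (MulEquiv.subgroupCongr tau_map)

theorem psi_val (x : ↥P) : (psi x).1 = tauP * x.1 * tauP⁻¹ := rfl

theorem psi_rho0 : psi (rho 0) = rho 0 := by
  obtain ⟨k, hk0, hk⟩ := tau_gen (t0, 0) (by simp) s0 (permOf_actsAs hinv0)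
  have hk' : k = 0 := Fin.ext hk0
  apply Subtype.ext
  rw [psi_val, rho_zero, hk, hk']
  exact rho_zero

theorem psi_rho (j : Fin 315) : psi (rho j) = rho (tauP j) := by
  obtain ⟨p, hp⟩ := P_trans j
  rw [rho_eq_conj p j hp, map_mul, map_mul, map_inv, psi_rho0, rho_conj]
  congr 1
  rw [psi_val]
  show tauP (p.1 (tauP⁻¹ 0)) = tauP j
  rw [tau_inv, tau0, hp]

theorem psi_sq : (psi : MulAut ↥P) * psi = 1 := by
  refine MulEquiv.ext fun x => Subtype.ext ?_
  rw [MulAut.mul_apply, MulAut.one_apply]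
  show ((psi (psi x)).1 : Perm (Fin 315)) = x.1
  rw [psi_val, psi_val, tau_inv]
  calc tauP * (tauP * x.1 * tauP) * tauP = (tauP * tauP) * x.1 * (tauP * tauP) := by group
    _ = x.1 := by rw [tau_sq, one_mul, mul_one]

theorem psi_not_inner : psi ∉ Cfsg.Inn ↥P := by
  rintro ⟨g, hg⟩
  have hc : ∀ x : ↥P, (g.1⁻¹ * tauP) * x.1 = x.1 * (g.1⁻¹ * tauP) := by
    intro x
    have h1 := congrArg (fun f : MulAut ↥P => (f x).1) hg
    have h2 : g.1 * x.1 * g.1⁻¹ = tauP * x.1 * tauP⁻¹ := h1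
    calc g.1⁻¹ * tauP * x.1 = g.1⁻¹ * (tauP * x.1 * tauP⁻¹) * tauP := by group
      _ = g.1⁻¹ * (g.1 * x.1 * g.1⁻¹) * tauP := by rw [h2]
      _ = x.1 * (g.1⁻¹ * tauP) := by group
  obtain ⟨c, hcdef⟩ : ∃ c : Perm (Fin 315), c = g.1⁻¹ * tauP := ⟨_, rfl⟩
  rw [← hcdef] at hc
  have hc0 : c 0 = 0 := by
    by_contra hne
    have h1 := (allLt_iff _ 315).1 st_fix (c 0).1 (c 0).2
    rw [Bool.or_eq_true] at h1
    rcases h1 with h1 | h1
    · exact hne (Fin.ext ((nbeq_iff _ _).1 h1))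
    · rw [List.any_eq_true] at h1
      obtain ⟨T, hT, h2⟩ := h1
      obtain ⟨s, hs⟩ := hS2 T hT
      have hsS : s ∈ St0 := Subgroup.subset_closure ⟨T, hT, hs⟩
      have h3 := hc ⟨s, St0_le_P hsS⟩
      have h4 := congrArg (fun f : Perm (Fin 315) => f 0) h3
      simp only [Perm.mul_apply] at h4
      rw [St0_fix hsS] at h4
      have h5 : ap9 T (c 0).1 = (c 0).1 := by
        rw [← hs]; exact congrArg Fin.val h4.symm
      have h6 := (nbeq_iff _ _).2 h5
      rw [h6] at h2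
      exact Bool.noConfusion h2
  have hc1 : c = 1 := by
    ext j
    obtain ⟨p, hp⟩ := P_trans j
    have h3 := congrArg (fun f : Perm (Fin 315) => f 0) (hc p)
    simp only [Perm.mul_apply] at h3
    rw [hc0, hp] at h3
    rw [h3]; rfl
  have htg : tauP = g.1 := by
    have h1 : g.1 * c = tauP := by rw [hcdef]; group
    rw [← h1, hc1, mul_one]
  have htP : tauP ∈ P := by rw [htg]; exact g.2
  have hPset : tauP ∈ Pset (n := 315) ap9 (us Lvs) := by
    rw [(main ap9 Lvs lvOK hS1).1]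
    rw [P_eq_K1] at htP
    exact htP
  have h1 : tauP = 1 := by
    apply base_triv Lvs lvOK baseOK tauP hPset
    intro b hb hbn
    simp only [Lvs, bs, List.mem_cons, List.mem_nil_iff, or_false] at hb
    rcases hb with rfl | rfl | rfl
    · exact Fin.ext ((actsAs_tau _).trans tt_base.1)
    · exact Fin.ext ((actsAs_tau _).trans tt_base.2.1)
    · exact Fin.ext ((actsAs_tau _).trans tt_base.2.2.1)
  have h2 := actsAs_tau ⟨3, by norm_num⟩
  rw [h1] at h2
  exact tt_base.2.2.2 h2.symm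

/-! ### The chase -/

/-- inner, or inner up to the automorphism `psi` -/
def Q (α : MulAut ↥P) : Prop := α ∈ Cfsg.Inn ↥P ∨ psi * α ∈ Cfsg.Inn ↥P

theorem Q_one : Q 1 := Or.inl (one_mem _)

theorem Q_conj (p : ↥P) {α : MulAut ↥P} (h : Q (MulAut.conj p * α)) : Q α := by
  have hp : MulAut.conj p ∈ Cfsg.Inn ↥P := ⟨p, rfl⟩
  rcases h with h | h
  · left
    have h1 := (Cfsg.Inn ↥P).mul_mem ((Cfsg.Inn ↥P).inv_mem hp) h
    rwa [inv_mul_cancel_left] at h1
  · right
    have hn : psi * (MulAut.conj p)⁻¹ * psi⁻¹ ∈ Cfsg.Inn ↥P :=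
      (Cfsg.innNormal ↥P).conj_mem _ ((Cfsg.Inn ↥P).inv_mem hp) psi
    have h1 := (Cfsg.Inn ↥P).mul_mem hn h
    have e : psi * (MulAut.conj p)⁻¹ * psi⁻¹ * (psi * (MulAut.conj p * α)) = psi * α := by
      group
    rwa [e] at h1

theorem Q_psi {α : MulAut ↥P} (h : Q (psi * α)) : Q α := by
  rcases h with h | h
  · right; exact h
  · left
    have e : psi * (psi * α) = α := by rw [← mul_assoc, psi_sq, one_mul]
    rwa [e] at h

/-- the automorphism maps the reflection in `j` to the reflection in `σ j` -/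
def Rep (α : MulAut ↥P) (σ : Fin 315 → Fin 315) : Prop := ∀ j, α (rho j) = rho (σ j)

theorem rep_conj {α : MulAut ↥P} {σ : Fin 315 → Fin 315} (p : ↥P) (h : Rep α σ) :
    Rep (MulAut.conj p * α) (fun j => p.1 (σ j)) := by
  intro j
  rw [MulAut.mul_apply, h j, MulAut.conj_apply, rho_conj]

theorem rep_psi {α : MulAut ↥P} {σ : Fin 315 → Fin 315} (h : Rep α σ) :
    Rep (psi * α) (fun j => tauP (σ j)) := by
  intro j
  rw [MulAut.mul_apply, h j, psi_rho]

theorem rep_one {α : MulAut ↥P} {σ : Fin 315 → Fin 315} (h : Rep α σ) (hσ : ∀ j, σ j = j) :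
    α = 1 := by
  have hgen : Subgroup.closure (((↑) : ↥P → Perm (Fin 315)) ⁻¹' {s0, s1, s2, s3}) = ⊤ :=
    Subgroup.closure_closure_coe_preimage
  have h3 : α.toMonoidHom = (1 : MulAut ↥P).toMonoidHom := by
    apply MonoidHom.eq_of_eqOn_dense hgen
    intro x hx
    have hx' : x.1 ∈ ({s0, s1, s2, s3} : Set (Perm (Fin 315))) := hx
    simp only [Set.mem_insert_iff, Set.mem_singleton_iff] at hx'
    have key : ∀ k : Fin 315, x.1 = (rho k).1 → α x = x := by
      intro k hk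
      have e : x = rho k := Subtype.ext hk
      rw [e, h k, hσ k]
    show α x = x
    rcases hx' with e | e | e | e
    · exact key 0 (e.trans rho_gen0.symm)
    · exact key ⟨78, by norm_num⟩ (e.trans rho_gen1.symm)
    · exact key ⟨166, by norm_num⟩ (e.trans rho_gen2.symm)
    · exact key ⟨203, by norm_num⟩ (e.trans rho_gen3.symm)
  exact MulEquiv.ext fun x => DFunLike.congr_fun h3 x

theorem rep_order {α : MulAut ↥P} {σ : Fin 315 → Fin 315} (h : Rep α σ) (i j : Fin 315) :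
    orderOf (rho (σ i) * rho (σ j)) = orderOf (rho i * rho j) := by
  rw [← h i, ← h j, ← map_mul]
  exact α.orderOf_eq _

theorem ct_inv {α : MulAut ↥P} {σ : Fin 315 → Fin 315} (h : Rep α σ) (r : ℕ) (hr : r < 9)
    (b : Fin 315) (hb : b.1 = bp r) (hfix : σ b = b) (j : Fin 315) :
    CT r (σ j).1 = CT r j.1 := by
  rw [← ordB r hr b hb (σ j), ← ordB r hr b hb j]
  have h1 := rep_order h b j
  rw [hfix] at h1
  exact h1

theorem bp_lt : ∀ r < 9, bp r < 315 := by decide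

/-- `σ` fixes the first `k` base points -/
def FixTo (σ : Fin 315 → Fin 315) (k : ℕ) : Prop :=
  ∀ r < k, ∀ b : Fin 315, b.1 = bp r → σ b = b

theorem forced_step {α : MulAut ↥P} {σ : Fin 315 → Fin 315} (h : Rep α σ) (k : ℕ) (hk : k < 9)
    (hf : forced k = true) (hfix : FixTo σ k) : FixTo σ (k + 1) := by
  intro r hr b hb
  rcases Nat.lt_succ_iff_lt_or_eq.1 hr with hr' | rfl
  · exact hfix r hr' b hb
  · have h1 := (allLt_iff _ 315).1 hf (σ b).1 (σ b).2
    rw [Bool.or_eq_true] at h1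
    rcases h1 with h1 | h1
    · exact Fin.ext (((nbeq_iff _ _).1 h1).trans hb.symm)
    · exfalso
      obtain ⟨r', hr', h2⟩ := anyLt_imp _ _ h1
      have h3 := ct_inv h r' (hr'.trans hk) ⟨bp r', bp_lt r' (hr'.trans hk)⟩ rfl
        (hfix r' hr' _ rfl) b
      rw [hb] at h3
      have h4 := (nbeq_iff _ _).2 h3
      rw [h4] at h2
      exact Bool.noConfusion h2

theorem chase4 {α : MulAut ↥P} {σ : Fin 315 → Fin 315} (h : Rep α σ) (hfix : FixTo σ 4) :
    Q α := by
  obtain ⟨f4, f5, f6, f7, f8⟩ := lvl4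
  have h5 := forced_step h 4 (by norm_num) f4 hfix
  have h6 := forced_step h 5 (by norm_num) f5 h5
  have h7 := forced_step h 6 (by norm_num) f6 h6
  have h8 := forced_step h 7 (by norm_num) f7 h7
  have h9 := forced_step h 8 (by norm_num) f8 h8
  have hσ : ∀ j, σ j = j := by
    intro j
    have hct : ∀ r < 9, CT r (σ j).1 = CT r j.1 := fun r hr =>
      ct_inv h r hr ⟨bp r, bp_lt r hr⟩ rfl (h9 r hr _ rfl) j
    have henc : encV (σ j).1 = encV j.1 := by
      unfold encV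
      rw [hct 0 (by norm_num), hct 1 (by norm_num), hct 2 (by norm_num), hct 3 (by norm_num),
        hct 4 (by norm_num), hct 5 (by norm_num), hct 6 (by norm_num), hct 7 (by norm_num),
        hct 8 (by norm_num)]
    exact Fin.ext (List.inj_on_of_nodup_map (nodupB_imp _ lvl5)
      (List.mem_range.2 (σ j).2) (List.mem_range.2 j.2) henc)
  rw [rep_one h hσ]
  exact Q_one

theorem fixTo4 {σ : Fin 315 → Fin 315} (h0 : σ 0 = 0)
    (h1 : σ ⟨27, by norm_num⟩ = ⟨27, by norm_num⟩)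
    (h2 : σ ⟨280, by norm_num⟩ = ⟨280, by norm_num⟩)
    (h3 : σ ⟨100, by norm_num⟩ = ⟨100, by norm_num⟩) : FixTo σ 4 := by
  intro r hr b hb
  interval_cases r
  · have e : b = 0 := Fin.ext hb
    rw [e]; exact h0
  · have e : b = ⟨27, by norm_num⟩ := Fin.ext hb
    rw [e]; exact h1
  · have e : b = ⟨280, by norm_num⟩ := Fin.ext hb
    rw [e]; exact h2
  · have e : b = ⟨100, by norm_num⟩ := Fin.ext hb
    rw [e]; exact h3

theorem chase3 {α : MulAut ↥P} {σ : Fin 315 → Fin 315} (h : Rep α σ) (h0 : σ 0 = 0)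
    (h1 : σ ⟨27, by norm_num⟩ = ⟨27, by norm_num⟩)
    (h2 : σ ⟨280, by norm_num⟩ = ⟨280, by norm_num⟩) : Q α := by
  have c0 := ct_inv h 0 (by norm_num) 0 rfl h0 ⟨100, by norm_num⟩
  have c1 := ct_inv h 1 (by norm_num) ⟨27, by norm_num⟩ rfl h1 ⟨100, by norm_num⟩
  have c2 := ct_inv h 2 (by norm_num) ⟨280, by norm_num⟩ rfl h2 ⟨100, by norm_num⟩
  have hl := (allLt_iff _ 315).1 lvl3 (σ ⟨100, by norm_num⟩).1 (σ ⟨100, by norm_num⟩).2
  rw [Bool.or_eq_true, Bool.or_eq_true, Bool.or_eq_true] at hl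
  rcases hl with ((hl | hl) | hl) | hl
  · exfalso
    rw [(nbeq_iff _ _).2 c0] at hl
    exact Bool.noConfusion hl
  · exfalso
    rw [(nbeq_iff _ _).2 c1] at hl
    exact Bool.noConfusion hl
  · exfalso
    rw [(nbeq_iff _ _).2 c2] at hl
    exact Bool.noConfusion hl
  · rw [List.any_eq_true] at hl
    obtain ⟨T, hT, h3⟩ := hl
    obtain ⟨u, huS, hact, hu0, hu27⟩ := u3_perm T hT
    rw [Bool.or_eq_true, Bool.and_eq_true, Bool.and_eq_true] at h3
    rcases h3 with ⟨h4, h5⟩ | ⟨h4, h5⟩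
    · have hu280 : u ⟨280, by norm_num⟩ = ⟨280, by norm_num⟩ :=
        Fin.ext ((hact _).trans ((nbeq_iff _ _).1 h4))
      have huj : u (σ ⟨100, by norm_num⟩) = ⟨100, by norm_num⟩ :=
        Fin.ext ((hact _).trans ((nbeq_iff _ _).1 h5))
      apply Q_conj ⟨u, St0_le_P huS⟩
      apply chase4 (rep_conj ⟨u, St0_le_P huS⟩ h)
      refine fixTo4 ?_ ?_ ?_ huj
      · show u (σ 0) = 0
        rw [h0, hu0]
      · show u (σ ⟨27, by norm_num⟩) = ⟨27, by norm_num⟩
        rw [h1, hu27]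
      · show u (σ ⟨280, by norm_num⟩) = ⟨280, by norm_num⟩
        rw [h2, hu280]
    · have hu280 : tauP (u ⟨280, by norm_num⟩) = ⟨280, by norm_num⟩ := by
        apply Fin.ext
        rw [actsAs_tau, hact]
        exact (nbeq_iff _ _).1 h4
      have huj : tauP (u (σ ⟨100, by norm_num⟩)) = ⟨100, by norm_num⟩ := by
        apply Fin.ext
        rw [actsAs_tau, hact]
        exact (nbeq_iff _ _).1 h5
      apply Q_conj ⟨u, St0_le_P huS⟩
      apply Q_psi
      apply chase4 (rep_psi (rep_conj ⟨u, St0_le_P huS⟩ h))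
      refine fixTo4 ?_ ?_ ?_ huj
      · show tauP (u (σ 0)) = 0
        rw [h0, hu0, tau0]
      · show tauP (u (σ ⟨27, by norm_num⟩)) = ⟨27, by norm_num⟩
        rw [h1, hu27, tau27]
      · show tauP (u (σ ⟨280, by norm_num⟩)) = ⟨280, by norm_num⟩
        rw [h2, hu280]

theorem chase2 {α : MulAut ↥P} {σ : Fin 315 → Fin 315} (h : Rep α σ) (h0 : σ 0 = 0)
    (h1 : σ ⟨27, by norm_num⟩ = ⟨27, by norm_num⟩) : Q α := by
  have c0 := ct_inv h 0 (by norm_num) 0 rfl h0 ⟨280, by norm_num⟩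
  have c1 := ct_inv h 1 (by norm_num) ⟨27, by norm_num⟩ rfl h1 ⟨280, by norm_num⟩
  have hl := (allLt_iff _ 315).1 lvl2 (σ ⟨280, by norm_num⟩).1 (σ ⟨280, by norm_num⟩).2
  rw [Bool.or_eq_true, Bool.or_eq_true] at hl
  rcases hl with (hl | hl) | hl
  · exfalso
    rw [(nbeq_iff _ _).2 c0] at hl
    exact Bool.noConfusion hl
  · exfalso
    rw [(nbeq_iff _ _).2 c1] at hl
    exact Bool.noConfusion hl
  · rw [List.any_eq_true] at hl
    obtain ⟨T, hT, h3⟩ := hl
    obtain ⟨u, huS, hact, hu0, hu27⟩ := u3_perm T hT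
    rw [Bool.or_eq_true] at h3
    rcases h3 with h4 | h4
    · have huj : u (σ ⟨280, by norm_num⟩) = ⟨280, by norm_num⟩ :=
        Fin.ext ((hact _).trans ((nbeq_iff _ _).1 h4))
      apply Q_conj ⟨u, St0_le_P huS⟩
      refine chase3 (rep_conj ⟨u, St0_le_P huS⟩ h) ?_ ?_ huj
      · show u (σ 0) = 0
        rw [h0, hu0]
      · show u (σ ⟨27, by norm_num⟩) = ⟨27, by norm_num⟩
        rw [h1, hu27]
    · have huj : tauP (u (σ ⟨280, by norm_num⟩)) = ⟨280, by norm_num⟩ := by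
        apply Fin.ext
        rw [actsAs_tau, hact]
        exact (nbeq_iff _ _).1 h4
      apply Q_conj ⟨u, St0_le_P huS⟩
      apply Q_psi
      refine chase3 (rep_psi (rep_conj ⟨u, St0_le_P huS⟩ h)) ?_ ?_ huj
      · show tauP (u (σ 0)) = 0
        rw [h0, hu0, tau0]
      · show tauP (u (σ ⟨27, by norm_num⟩)) = ⟨27, by norm_num⟩
        rw [h1, hu27, tau27]

theorem chase1 {α : MulAut ↥P} {σ : Fin 315 → Fin 315} (h : Rep α σ) (h0 : σ 0 = 0) : Q α := by
  have c0 := ct_inv h 0 (by norm_num) 0 rfl h0 ⟨27, by norm_num⟩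
  have hl := (allLt_iff _ 315).1 lvl1 (σ ⟨27, by norm_num⟩).1 (σ ⟨27, by norm_num⟩).2
  rw [Bool.or_eq_true] at hl
  rcases hl with hl | hl
  · exfalso
    rw [(nbeq_iff _ _).2 c0] at hl
    exact Bool.noConfusion hl
  · rw [List.any_eq_true] at hl
    obtain ⟨T, hT, h3⟩ := hl
    obtain ⟨u, huS, hact⟩ := u2_perm T hT
    have hu27 : u ⟨27, by norm_num⟩ = σ ⟨27, by norm_num⟩ :=
      Fin.ext ((hact _).trans ((nbeq_iff _ _).1 h3))
    have hu0 : u 0 = 0 := St0_fix huS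
    apply Q_conj (⟨u, St0_le_P huS⟩ : ↥P)⁻¹
    refine chase2 (rep_conj (⟨u, St0_le_P huS⟩ : ↥P)⁻¹ h) ?_ ?_
    · show u⁻¹ (σ 0) = 0
      rw [h0, Perm.inv_eq_iff_eq, hu0]
    · show u⁻¹ (σ ⟨27, by norm_num⟩) = ⟨27, by norm_num⟩
      rw [Perm.inv_eq_iff_eq, hu27]

theorem chase0 {α : MulAut ↥P} {σ : Fin 315 → Fin 315} (h : Rep α σ) : Q α := by
  obtain ⟨p, hp⟩ := P_trans (σ 0)
  apply Q_conj p⁻¹
  refine chase1 (rep_conj p⁻¹ h) ?_
  show p.1⁻¹ (σ 0) = 0
  rw [Perm.inv_eq_iff_eq, hp]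

theorem all_Q (α : MulAut ↥P) : Q α := by
  choose σ hσ using class_inv α
  exact chase0 (σ := σ) hσ

/-! ### The outer automorphism group -/

theorem card_out_P : Nat.card (Cfsg.Out ↥P) = 2 := by
  have hψ1 : (QuotientGroup.mk psi : Cfsg.Out ↥P) ≠ 1 := fun h =>
    psi_not_inner ((QuotientGroup.eq_one_iff psi).mp h)
  rw [Nat.card_eq_two_iff]
  refine ⟨1, QuotientGroup.mk psi, fun h => hψ1 h.symm, ?_⟩
  ext x
  simp only [Set.mem_insert_iff, Set.mem_singleton_iff, Set.mem_univ, iff_true]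
  obtain ⟨α, rfl⟩ := QuotientGroup.mk_surjective x
  rcases all_Q α with h | h
  · left
    exact (QuotientGroup.eq_one_iff α).mpr h
  · right
    have h1 : (QuotientGroup.mk psi : Cfsg.Out ↥P) * QuotientGroup.mk α = 1 := by
      rw [← QuotientGroup.mk_mul]
      exact (QuotientGroup.eq_one_iff _).mpr h
    have h2 : (QuotientGroup.mk psi : Cfsg.Out ↥P) * QuotientGroup.mk psi = 1 := by
      rw [← QuotientGroup.mk_mul, psi_sq]
      rfl
    exact mul_left_cancel (h1.trans h2.symm)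

/-- the isomorphism of outer automorphism groups induced by an isomorphism -/
noncomputable def outCongrJ {A B : Type} [Group A] [Group B] (e : A ≃* B) :
    Cfsg.Out A ≃* Cfsg.Out B :=
  QuotientGroup.congr (Cfsg.Inn A) (Cfsg.Inn B) (MulAut.congr e) (by
    ext φ
    constructor
    · rintro ⟨_, ⟨a, rfl⟩, rfl⟩
      refine ⟨e a, ?_⟩
      ext b
      simp [MulAut.congr, MulAut.conj_apply]
    · rintro ⟨b, rfl⟩
      refine ⟨MulAut.conj (e.symm b), ⟨e.symm b, rfl⟩, ?_⟩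
      ext b'
      simp [MulAut.congr, MulAut.conj_apply])

/-- the outer automorphism group of the Hall–Janko group has order two -/
theorem card_out_J2 : Nat.card (Cfsg.Out J2) = 2 := by
  rw [Nat.card_congr (outCongrJ Ico.j2IsoP).toEquiv]
  exact card_out_P

end Cfsg.Agent.Lib.Helper95.IcoO
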