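import Cfsg.Agent.Lib.Helper7.J2Perm

/-!
# The point stabiliser in the permutation group of degree 315: data

Checks on the tables of the Schreier–Sims chain of `Cfsg.Agent.Lib.Helper7.J2P.P` used for
the structure of the stabiliser of the point `0`: the action on the five pairs of points
among the ten further fixed points of the first generator, and the 32 chain products acting
trivially on these pairs.
-/

set_option autoImplicit false
set_option maxHeartbeats 400000

namespace Cfsg.Agent.Lib.Helper95.IcoS

open Cfsg.Agent.Lib.Helper7.Sims Cfsg.Agent.Lib.Helper7.J2P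

/-- the class of a point: `0 … 4` for the five pairs, `5` otherwise -/
def c6 (j : ℕ) : ℕ :=
  if j = 1 then 0 else if j = 2 then 0 else if j = 19 then 1 else if j = 26 then 1
  else if j = 20 then 2 else if j = 25 then 2 else if j = 21 then 3 else if j = 24 then 3
  else if j = 22 then 4 else if j = 23 then 4 else 5

/-- a representative of each pair -/
def repN (c : ℕ) : ℕ :=
  if c = 0 then 1 else if c = 1 then 19 else if c = 2 then 20 else if c = 3 then 21 else 22

/-- the function of a product of two tables -/
def f2 (p : ℕ × ℕ) (i : ℕ) : ℕ := ap9 p.1 (ap9 p.2 i)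

/-- the function `f` permutes the ten points of the pairs, compatibly with the pairs -/
def pairOK (f : ℕ → ℕ) : Bool :=
  allLt (fun j => Nat.blt 4 (c6 j) ||
    (Nat.blt (c6 (f j)) 5 && Nat.beq (c6 (f j)) (c6 (f (repN (c6 j)))))) 315

theorem pair_gen : Sn2.all (fun T => pairOK (ap9 T)) = true := by decide +kernel

/-- the generators of the point stabiliser commute with the first generator -/
theorem comm_gen : Sn2.all (fun T =>
    allLt (fun i => Nat.beq (ap9 T (ap9 t0 i)) (ap9 t0 (ap9 T i))) 315) = true := by
  decide +kernel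

/-- a transversal element commuting with the first generator fixes the point `0` -/
theorem u1_comm : U1.all (fun T => Nat.beq (ap9 T 0) 0 ||
    anyLt (fun i => !(Nat.beq (ap9 T (ap9 t0 i)) (ap9 t0 (ap9 T i)))) 315) = true := by
  decide +kernel

/-- the 32 chain products acting trivially on the pairs -/
def QP : List (ℕ × ℕ) := [(t4, t4), (t0, t4), (t316, t481), (t318, t482), (t322, t4), (t328, t4), (t329, t481), (t335, t481), (t337, t480), (t340, t481), (t342, t482), (t350, t477), (t353, t482), (t357, t478), (t362, t482), (t371, t4), (t374, t475), (t378, t483), (t389, t4), (t403, t480), (t408, t474), (t413, t479), (t423, t481), (t429, t481), (t431, t479), (t444, t477), (t448, t478), (t452, t482), (t454, t482), (t457, t477), (t466, t477), (t467, t477)]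

theorem qp_len : QP.length = 32 := by decide +kernel

theorem qp_mem : QP.all (fun p => memB p.1 U2 && memB p.2 U3) = true := by decide +kernel

theorem qp_ker : QP.all (fun p => allLt (fun c => Nat.beq (c6 (f2 p (repN c))) c) 5) = true := by
  decide +kernel

theorem qp_nodup : nodupB (QP.map (fun p => f2 p 27)) = true := by decide +kernel

/-- the product is the identity -/
def isId (p : ℕ × ℕ) : Bool := allLt (fun i => Nat.beq (f2 p i) i) 315

/-- the product is the first generator -/
def isS0 (p : ℕ × ℕ) : Bool := allLt (fun i => Nat.beq (f2 p i) (ap9 t0 i)) 315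

theorem qp_s0 : QP.any isS0 = true := by decide +kernel

theorem qp_sq : QP.all (fun p => allLt (fun i => Nat.beq (f2 p (f2 p i)) i) 315 ||
    allLt (fun i => Nat.beq (f2 p (f2 p i)) (ap9 t0 i)) 315) = true := by decide +kernel

theorem qp_cen : QP.all (fun p => isId p || isS0 p || QP.any (fun p' =>
    anyLt (fun i => !(Nat.beq (f2 p (f2 p' i)) (f2 p' (f2 p i)))) 315)) = true := by
  decide +kernel

theorem qp_nonab : QP.any (fun p => QP.any (fun p' =>
    anyLt (fun i => !(Nat.beq (f2 p (f2 p' i)) (f2 p' (f2 p i)))) 315)) = true := by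
  decide +kernel

/-- the first generator is not the identity -/
theorem t0_ne : ap9 t0 3 ≠ 3 := by decide +kernel

/-! ### The action of the generators on the five pairs -/

/-- image of `t316` -/
def g316 : Equiv.Perm (Fin 5) := ⟨![0, 1, 4, 2, 3], ![0, 1, 3, 4, 2], by decide, by decide⟩
/-- image of `t317` -/
def g317 : Equiv.Perm (Fin 5) := ⟨![3, 0, 2, 1, 4], ![1, 3, 2, 0, 4], by decide, by decide⟩
/-- image of `t474` -/
def g474 : Equiv.Perm (Fin 5) := ⟨![3, 1, 2, 4, 0], ![4, 1, 2, 0, 3], by decide, by decide⟩
/-- image of `t475` -/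
def g475 : Equiv.Perm (Fin 5) := ⟨![3, 1, 0, 2, 4], ![2, 1, 3, 0, 4], by decide, by decide⟩

theorem v316 : ∀ c : Fin 5, c6 (ap9 t316 (repN c.1)) = (g316 c).1 := by decide +kernel
theorem v317 : ∀ c : Fin 5, c6 (ap9 t317 (repN c.1)) = (g317 c).1 := by decide +kernel
theorem v474 : ∀ c : Fin 5, c6 (ap9 t474 (repN c.1)) = (g474 c).1 := by decide +kernel
theorem v475 : ∀ c : Fin 5, c6 (ap9 t475 (repN c.1)) = (g475 c).1 := by decide +kernel

theorem sg316 : Equiv.Perm.sign g316 = 1 := by decide
theorem sg317 : Equiv.Perm.sign g317 = 1 := by decide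
theorem sg474 : Equiv.Perm.sign g474 = 1 := by decide
theorem sg475 : Equiv.Perm.sign g475 = 1 := by decide

theorem ord3 : orderOf g317 = 3 := orderOf_eq_prime (by decide) (by decide)
theorem ord5 : orderOf (g316 * g317) = 5 :=
  haveI : Fact (Nat.Prime 5) := ⟨by norm_num⟩
  orderOf_eq_prime (by decide) (by decide)
theorem ord2 : orderOf (g317 * g475) = 2 := orderOf_eq_prime (by decide) (by decide)

end Cfsg.Agent.Lib.Helper95.IcoS
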