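import Cfsg.Agent.Lib.Helper95.IcoSA

/-!
# The point stabiliser in the permutation group of degree 315

`St0`, the group generated by the second level of the Schreier–Sims chain of
`Cfsg.Agent.Lib.Helper7.J2P.P`, is the stabiliser of the point `0`, of order `1920`; it is the
centraliser of the first generator `s0`.  It acts on the five pairs among the further fixed
points of `s0`.
-/

set_option autoImplicit false
set_option maxHeartbeats 400000

namespace Cfsg.Agent.Lib.Helper95.IcoS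

open Cfsg.Agent.Lib.Helper7.Sims Cfsg.Agent.Lib.Helper7.J2P Equiv

/-- the levels below the first -/
def Lt : List Lvl := [⟨27, Sn2, U2⟩, ⟨4, Sn3, U3⟩]

theorem lvOKt : LvOK ap9 315 Lt := lvOK.2.2.2.2

theorem baseOKt : BaseOK ap9 315 Lt := baseOK.2.2.2

theorem hS2 : ∀ T ∈ Sn2, ∃ g : Perm (Fin 315), ActsAs g (ap9 T) := fun T hT =>
  hgen.1 T ((memB_iff _ _).1 (List.all_eq_true.1 hnest1 T hT))

/-- the stabiliser of the point `0` -/
def St0 : Subgroup (Perm (Fin 315)) := K (n := 315) ap9 Sn2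

theorem St0_eq_pset : Pset (n := 315) ap9 (us Lt) = (St0 : Set (Perm (Fin 315))) :=
  (main ap9 Lt lvOKt hS2).1

theorem tail_perm : ∀ Us ∈ us Lt, ∀ T ∈ Us, ∃ u : Perm (Fin 315), ActsAs u (ap9 T) :=
  (main ap9 Lt lvOKt hS2).2

theorem card_St0 : Nat.card St0 = 1920 := by
  have h := card_K (Lvs := Lt) lvOKt baseOKt hS2
  have h2 : cardL Lt = 1920 := by decide +kernel
  rw [← h2]
  exact h

theorem fix_tail : ∀ Us ∈ us Lt, ∀ T ∈ Us, ap9 T 0 = 0 := by
  intro Us hUs T hT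
  obtain ⟨l', hl', rfl⟩ := mem_us Lt Us hUs
  exact (nbeq_iff _ _).1 (List.all_eq_true.1 (List.all_eq_true.1 hfx1 l' hl') T hT)

theorem St0_fix {π : Perm (Fin 315)} (h : π ∈ St0) : π 0 = 0 := by
  have h' : π ∈ Pset (n := 315) ap9 (us Lt) := by rw [St0_eq_pset]; exact h
  exact pset_fix ap9 0 (by norm_num) (us Lt) fix_tail π h'

/-- decomposition of an element of `P` along the first transversal -/
theorem P_decomp {π : Perm (Fin 315)} (hπ : π ∈ P) :
    ∃ u T, T ∈ U1 ∧ ActsAs u (ap9 T) ∧ ∃ p ∈ St0, π = u * p := by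
  have hK : π ∈ K (n := 315) ap9 Sn1 := by
    rw [hgen.2, ← P_eq]; exact hπ
  have hP := (main ap9 Lvs lvOK hS1).1
  have h' : π ∈ Pset (n := 315) ap9 (U1 :: us Lt) := by
    have h2 : π ∈ Pset (n := 315) ap9 (us Lvs) := by rw [hP]; exact hK
    exact h2
  obtain ⟨u, ⟨T, hT, hu⟩, p, hp, rfl⟩ := h'
  refine ⟨u, T, hT, hu, p, ?_, rfl⟩
  have h3 : p ∈ (St0 : Set (Perm (Fin 315))) := by rw [← St0_eq_pset]; exact hp
  exact h3

theorem mem_St0_of_fix {π : Perm (Fin 315)} (hπ : π ∈ P) (h0 : π 0 = 0) : π ∈ St0 := by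
  obtain ⟨u, T, hT, hu, p, hpS, rfl⟩ := P_decomp hπ
  have hp0 : p 0 = 0 := St0_fix hpS
  have hu0 : ap9 T 0 = 0 := by
    have h1 : u (p 0) = 0 := h0
    rw [hp0] at h1
    have h2 := hu 0
    rw [h1] at h2
    exact h2.symm
  have hid := hid1
  rw [List.any_eq_true] at hid
  obtain ⟨I, hI, hIid⟩ := hid
  have hIb : ap9 I 0 = 0 := (nbeq_iff _ _).1 ((allLt_iff _ 315).1 hIid 0 (by norm_num))
  have hTI : T = I := List.inj_on_of_nodup_map (nodupB_imp _ hnd1) hT hI (hu0.trans hIb.symm)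
  have hu1 : u = 1 := by
    refine ActsAs.ext' hu actsAs_one (fun i hi => ?_)
    rw [hTI]
    exact (nbeq_iff _ _).1 ((allLt_iff _ 315).1 hIid i hi)
  rw [hu1, one_mul]
  exact hpS

theorem actsAs_s0 : ActsAs s0 (ap9 t0) := permOf_actsAs hinv0

theorem St0_le_P : St0 ≤ P := by
  rw [P_eq, ← hgen.2]
  apply Subgroup.closure_mono
  rintro u ⟨T, hT, hu⟩
  exact ⟨T, (memB_iff _ _).1 (List.all_eq_true.1 hnest1 T hT), hu⟩

/-- the point stabiliser centralises `s0` -/
theorem St0_comm {π : Perm (Fin 315)} (h : π ∈ St0) : π * s0 = s0 * π := by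
  have hle : St0 ≤ Subgroup.centralizer {s0} := by
    show Subgroup.closure (elems (n := 315) ap9 Sn2) ≤ _
    rw [Subgroup.closure_le]
    rintro u ⟨T, hT, hu⟩
    rw [SetLike.mem_coe, Subgroup.mem_centralizer_iff]
    intro g hg
    rw [Set.mem_singleton_iff] at hg
    subst hg
    have h1 := (allLt_iff _ 315).1 (List.all_eq_true.1 comm_gen T hT)
    exact ActsAs.ext' (actsAs_s0.mul hu) (hu.mul actsAs_s0)
      (fun i hi => ((nbeq_iff _ _).1 (h1 i hi)).symm)
  have h2 := Subgroup.mem_centralizer_iff.mp (hle h) s0 (Set.mem_singleton _)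
  exact h2.symm

/-- an element of `P` commuting with `s0` fixes the point `0` -/
theorem fix_of_comm {π : Perm (Fin 315)} (hπ : π ∈ P) (hc : π * s0 = s0 * π) : π 0 = 0 := by
  obtain ⟨u, T, hT, hu, p, hpS, rfl⟩ := P_decomp hπ
  have hpc : p * s0 = s0 * p := St0_comm hpS
  have huc : u * s0 = s0 * u := by
    have h1 : u * s0 * p = s0 * u * p := by
      rw [mul_assoc, ← hpc, ← mul_assoc, hc, mul_assoc]
    exact mul_right_cancel h1
  have htab : ∀ i < 315, ap9 T (ap9 t0 i) = ap9 t0 (ap9 T i) := by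
    intro i hi
    have h1 := (hu.mul actsAs_s0) ⟨i, hi⟩
    have h2 := (actsAs_s0.mul hu) ⟨i, hi⟩
    rw [huc] at h1
    exact h1.symm.trans h2
  have hchk := List.all_eq_true.1 u1_comm T hT
  rw [Bool.or_eq_true] at hchk
  rcases hchk with h0 | hne
  · have hT0 := (nbeq_iff _ _).1 h0
    show u (p 0) = 0
    rw [St0_fix hpS]
    exact Fin.ext ((hu 0).trans hT0)
  · obtain ⟨i, hi, hP⟩ := anyLt_imp _ _ hne
    exfalso
    have h3 := (nbeq_iff _ _).2 (htab i hi)
    rw [h3] at hP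
    exact Bool.noConfusion hP

end Cfsg.Agent.Lib.Helper95.IcoS
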