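import Cfsg.Agent.Lib.Helper95.IcoSB

/-!
# The action of the point stabiliser on five pairs

The point stabiliser `St0` of the permutation group of degree 315 permutes the five pairs
among the further fixed points of `s0`; the image of this action is the alternating group.
-/

set_option autoImplicit false
set_option maxHeartbeats 400000

namespace Cfsg.Agent.Lib.Helper95.IcoS

open Cfsg.Agent.Lib.Helper7.Sims Cfsg.Agent.Lib.Helper7.J2P Equiv

theorem rep_lt : ∀ c : Fin 5, repN c.1 < 315 := by decide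

/-- a representative of each pair -/
def rep (c : Fin 5) : Fin 315 := ⟨repN c.1, rep_lt c⟩

/-- the pair of a point (meaningful on the ten points of the pairs) -/
def cls (j : Fin 315) : Fin 5 := ⟨c6 j.1 % 5, Nat.mod_lt _ (by norm_num)⟩

/-- the map induced on the pairs -/
def act (π : Perm (Fin 315)) (c : Fin 5) : Fin 5 := cls (π (rep c))

/-- the permutation maps the points of the pairs to such points, compatibly with the pairs -/
def Good (π : Perm (Fin 315)) : Prop :=
  ∀ j : Fin 315, c6 j.1 < 5 → c6 (π j).1 < 5 ∧ cls (π j) = act π (cls j)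

theorem cls_rep : ∀ c : Fin 5, cls (rep c) = c := by decide

theorem c6_rep : ∀ c : Fin 5, c6 (rep c).1 < 5 := by decide

theorem act_one (c : Fin 5) : act 1 c = c := cls_rep c

theorem good_one : Good 1 := fun j hj => ⟨hj, by
  show cls j = cls (rep (cls j))
  rw [cls_rep]⟩

theorem act_mul {π σ : Perm (Fin 315)} (hπ : Good π) (hσ : Good σ) (c : Fin 5) :
    act (π * σ) c = act π (act σ c) := by
  have h1 := hσ (rep c) (c6_rep c)
  have h2 := hπ (σ (rep c)) h1.1
  show cls (π (σ (rep c))) = act π (act σ c)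
  rw [h2.2, h1.2, cls_rep]

theorem good_mul {π σ : Perm (Fin 315)} (hπ : Good π) (hσ : Good σ) : Good (π * σ) := by
  intro j hj
  have h1 := hσ j hj
  have h2 := hπ (σ j) h1.1
  refine ⟨h2.1, ?_⟩
  show cls (π (σ j)) = act (π * σ) (cls j)
  rw [act_mul hπ hσ, h2.2, h1.2]

theorem good_pow {π : Perm (Fin 315)} (hπ : Good π) : ∀ k : ℕ, Good (π ^ k)
  | 0 => by rw [pow_zero]; exact good_one
  | k + 1 => by rw [pow_succ]; exact good_mul (good_pow hπ k) hπ

theorem good_inv {π : Perm (Fin 315)} (hπ : Good π) : Good π⁻¹ := by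
  have hx : π⁻¹ = π ^ (orderOf π - 1) := by
    rw [inv_eq_iff_mul_eq_one, ← pow_succ', Nat.sub_add_cancel (orderOf_pos π),
      pow_orderOf_eq_one]
  rw [hx]
  exact good_pow hπ _

/-- the group of permutations compatible with the pairs -/
def Bs : Subgroup (Perm (Fin 315)) where
  carrier := {π | Good π}
  mul_mem' := fun ha hb => good_mul ha hb
  one_mem' := good_one
  inv_mem' := fun ha => good_inv ha

theorem good_of_table {π : Perm (Fin 315)} {f : ℕ → ℕ} (hπ : ActsAs π f)
    (h : pairOK f = true) : Good π := by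
  intro j hj
  have h1 := (allLt_iff _ 315).1 h j.1 j.2
  rw [Bool.or_eq_true, Bool.and_eq_true] at h1
  rcases h1 with h1 | ⟨h2, h3⟩
  · exact absurd ((nblt_iff _ _).1 h1) (by omega)
  · have h2' := (nblt_iff _ _).1 h2
    have h3' := (nbeq_iff _ _).1 h3
    refine ⟨by rw [hπ j]; exact h2', ?_⟩
    apply Fin.ext
    show c6 (π j).1 % 5 = c6 (π (rep (cls j))).1 % 5
    rw [hπ j, hπ (rep (cls j))]
    show c6 (f j.1) % 5 = c6 (f (repN (c6 j.1 % 5))) % 5
    rw [Nat.mod_eq_of_lt hj, h3']

theorem St0_le_Bs : St0 ≤ Bs := by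
  show Subgroup.closure (elems (n := 315) ap9 Sn2) ≤ Bs
  rw [Subgroup.closure_le]
  rintro u ⟨T, hT, hu⟩
  exact good_of_table hu (List.all_eq_true.1 pair_gen T hT)

/-- the action on the five pairs -/
def psiB : ↥Bs →* Perm (Fin 5) where
  toFun x :=
    { toFun := act x.1
      invFun := act x.1⁻¹
      left_inv := fun c => by
        rw [← act_mul (good_inv x.2) x.2, inv_mul_cancel]
        exact act_one c
      right_inv := fun c => by
        rw [← act_mul x.2 (good_inv x.2), mul_inv_cancel]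
        exact act_one c }
  map_one' := Equiv.ext fun c => act_one c
  map_mul' := fun x y => Equiv.ext fun c => act_mul x.2 y.2 c

theorem psiB_val {x : ↥Bs} {f : ℕ → ℕ} (hx : ActsAs x.1 f) (c : Fin 5) :
    ((psiB x c : Fin 5) : ℕ) = c6 (f (repN c.1)) % 5 := by
  show c6 (x.1 (rep c)).1 % 5 = _
  rw [hx (rep c)]
  rfl

theorem psiB_eq {x : ↥Bs} {T : ℕ} (hx : ActsAs x.1 (ap9 T)) (g : Perm (Fin 5))
    (hv : ∀ c : Fin 5, c6 (ap9 T (repN c.1)) = (g c).1) : psiB x = g := by
  refine Equiv.ext fun c => Fin.ext ?_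
  rw [psiB_val hx, hv, Nat.mod_eq_of_lt (g c).2]

/-- the action of the point stabiliser on the five pairs -/
def psiS : ↥St0 →* Perm (Fin 5) := psiB.comp (Subgroup.inclusion St0_le_Bs)

theorem psiS_eq {x : ↥St0} {T : ℕ} (hx : ActsAs x.1 (ap9 T)) (g : Perm (Fin 5))
    (hv : ∀ c : Fin 5, c6 (ap9 T (repN c.1)) = (g c).1) : psiS x = g :=
  psiB_eq (x := Subgroup.inclusion St0_le_Bs x) hx g hv

/-- an element whose function fixes the classes of the representatives acts trivially -/
theorem psiS_one {x : ↥St0} {f : ℕ → ℕ} (hx : ActsAs x.1 f)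
    (hv : ∀ c < 5, c6 (f (repN c)) = c) : psiS x = 1 := by
  refine Equiv.ext fun c => Fin.ext ?_
  have h1 := psiB_val (x := Subgroup.inclusion St0_le_Bs x) hx c
  have h2 : ((psiS x c : Fin 5) : ℕ) = c6 (f (repN c.1)) % 5 := h1
  rw [h2, hv c.1 c.2, Nat.mod_eq_of_lt c.2]
  rfl

theorem psiS_sign (x : ↥St0) : Perm.sign (psiS x) = 1 := by
  have key : ∀ π : Perm (Fin 315), π ∈ Subgroup.closure (elems (n := 315) ap9 Sn2) →
      ∀ h : π ∈ Bs, Perm.sign (psiB ⟨π, h⟩) = 1 := by
    intro π hπ
    induction hπ using Subgroup.closure_induction with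
    | mem u hu =>
      intro h
      obtain ⟨T, hT, huT⟩ := hu
      simp only [Sn2, List.mem_cons, List.mem_nil_iff, or_false] at hT
      rcases hT with rfl | rfl | rfl | rfl
      · rw [psiB_eq (x := ⟨u, h⟩) huT g316 v316]; exact sg316
      · rw [psiB_eq (x := ⟨u, h⟩) huT g317 v317]; exact sg317
      · rw [psiB_eq (x := ⟨u, h⟩) huT g474 v474]; exact sg474
      · rw [psiB_eq (x := ⟨u, h⟩) huT g475 v475]; exact sg475
    | one =>
      intro h
      have h1 : (⟨1, h⟩ : ↥Bs) = 1 := rfl
      rw [h1, map_one, map_one]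
    | mul a b ha hb iha ihb =>
      intro h
      have ha' : a ∈ Bs := St0_le_Bs ha
      have hb' : b ∈ Bs := St0_le_Bs hb
      have h1 : (⟨a * b, h⟩ : ↥Bs) = ⟨a, ha'⟩ * ⟨b, hb'⟩ := rfl
      rw [h1, map_mul, map_mul, iha ha', ihb hb', mul_one]
    | inv a ha iha =>
      intro h
      have ha' : a ∈ Bs := St0_le_Bs ha
      have h1 : (⟨a⁻¹, h⟩ : ↥Bs) = (⟨a, ha'⟩)⁻¹ := rfl
      rw [h1, map_inv, map_inv, iha ha', inv_one]
  exact key x.1 x.2 (St0_le_Bs x.2)

theorem exists_gen (T : ℕ) (hT : T ∈ Sn2) : ∃ x : ↥St0, ActsAs x.1 (ap9 T) := by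
  obtain ⟨g, hg⟩ := hS2 T hT
  exact ⟨⟨g, Subgroup.subset_closure ⟨T, hT, hg⟩⟩, hg⟩

theorem range_le_alt : psiS.range ≤ alternatingGroup (Fin 5) := by
  rintro _ ⟨x, rfl⟩
  exact Perm.mem_alternatingGroup.mpr (psiS_sign x)

theorem card_alt5 : Nat.card (alternatingGroup (Fin 5)) = 60 := by
  rw [nat_card_alternatingGroup, Nat.card_eq_fintype_card, Fintype.card_fin]
  rfl

theorem orderOf_dvd_range (x : ↥St0) : orderOf (psiS x) ∣ Nat.card psiS.range := by
  have h := orderOf_dvd_natCard (⟨psiS x, x, rfl⟩ : ↥psiS.range)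
  rw [← Subgroup.orderOf_coe] at h
  exact h

theorem range_eq_alt : psiS.range = alternatingGroup (Fin 5) := by
  obtain ⟨x316, h316⟩ := exists_gen t316 (by simp [Sn2])
  obtain ⟨x317, h317⟩ := exists_gen t317 (by simp [Sn2])
  obtain ⟨x475, h475⟩ := exists_gen t475 (by simp [Sn2])
  have e316 : psiS x316 = g316 := psiS_eq h316 g316 v316
  have e317 : psiS x317 = g317 := psiS_eq h317 g317 v317
  have e475 : psiS x475 = g475 := psiS_eq h475 g475 v475
  have d3 : 3 ∣ Nat.card psiS.range := by
    have h := orderOf_dvd_range x317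
    rwa [e317, ord3] at h
  have d5 : 5 ∣ Nat.card psiS.range := by
    have h := orderOf_dvd_range (x316 * x317)
    rwa [map_mul, e316, e317, ord5] at h
  have d2 : 2 ∣ Nat.card psiS.range := by
    have h := orderOf_dvd_range (x317 * x475)
    rwa [map_mul, e317, e475, ord2] at h
  have d30 : 30 ∣ Nat.card psiS.range := by
    have h6 : 6 ∣ Nat.card psiS.range := Nat.Coprime.mul_dvd_of_dvd_of_dvd (by norm_num) d2 d3
    exact Nat.Coprime.mul_dvd_of_dvd_of_dvd (by norm_num) h6 d5
  have d60 : Nat.card psiS.range ∣ 60 := by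
    rw [← card_alt5]
    exact Subgroup.card_dvd_of_le range_le_alt
  apply Subgroup.eq_of_le_of_card_ge range_le_alt
  rw [card_alt5]
  by_contra hlt
  have hpos : 0 < Nat.card psiS.range := Nat.card_pos
  have h30 : Nat.card psiS.range = 30 := by
    obtain ⟨k, hk⟩ := d30
    obtain ⟨m, hm⟩ := d60
    rw [hk] at hm hlt ⊢
    have hk1 : k = 1 := by
      rcases k with _ | _ | k
      · omega
      · rfl
      · exfalso
        have : m ≥ 1 := by
          rcases m with _ | m
          · omega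
          · omega
        nlinarith
    rw [hk1]
  -- a subgroup of index 2 in the simple group A₅
  let H : Subgroup ↥(alternatingGroup (Fin 5)) := psiS.range.subgroupOf (alternatingGroup (Fin 5))
  have hHc : Nat.card H = 30 := by
    rw [← h30]
    exact Nat.card_congr (Subgroup.subgroupOfEquivOfLe range_le_alt).toEquiv
  have hidx : H.index = 2 := by
    have h1 := H.card_mul_index
    rw [hHc, card_alt5] at h1
    omega
  have hn : H.Normal := Subgroup.normal_of_index_eq_two hidx
  rcases hn.eq_bot_or_eq_top with hb | ht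
  · rw [hb, Subgroup.card_bot] at hHc
    omega
  · rw [ht, Subgroup.card_top, card_alt5] at hHc
    omega

theorem card_ker : Nat.card psiS.ker = 32 := by
  have h1 := Subgroup.card_eq_card_quotient_mul_card_subgroup psiS.ker
  have h2 : Nat.card (↥St0 ⧸ psiS.ker) = 60 := by
    rw [Nat.card_congr (QuotientGroup.quotientKerEquivRange psiS).toEquiv, range_eq_alt, card_alt5]
  rw [card_St0, h2] at h1
  omega

end Cfsg.Agent.Lib.Helper95.IcoS
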