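import Cfsg.Agent.S5421
import Cfsg.Agent.Lib.Helper94.LargeExtra
import Cfsg.Agent.Lib.Helper66.Cores
import Cfsg.Agent.Lib.Helper3.Extra4
import Cfsg.Prelude.Def_MonsterType

/-!
# Centralisers of shape `2^{1+6} : L₃(2)`: abstract part

The group-theoretic reduction of the structure of the centraliser of a 2-central involution to
elementwise facts, and the transport of the conclusion along conjugation.
-/

set_option autoImplicit false
open Cfsg

namespace Cfsg.Agent.Lib.Helper95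

open Cfsg.Agent.Lib.Helper94

section OctInv

variable {G : Type*} [Group G]

/-- The concrete data of an extraspecial 2-group, from the squares. -/
theorem extraAt_of_sq {P : Subgroup G} {x : G} (mem : x ∈ P) (ne_one : x ≠ 1) (sq : x * x = 1)
    (central : ∀ u ∈ P, u * x = x * u)
    (center : ∀ u ∈ P, (∀ v ∈ P, u * v = v * u) → u = 1 ∨ u = x)
    (sqmem : ∀ u ∈ P, u * u = 1 ∨ u * u = x) : ExtraAt P x := by
  refine ⟨mem, ne_one, sq, central, center, ?_, sqmem⟩
  intro u hu v hv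
  have hT : ∀ a b : G, (a = 1 ∨ a = x) → (b = 1 ∨ b = x) → (a * b = 1 ∨ a * b = x) := by
    intro a b ha hb
    rcases ha with ha | ha <;> rcases hb with hb | hb <;> rw [ha, hb]
    · left; exact mul_one 1
    · right; exact one_mul x
    · right; exact mul_one x
    · left; exact sq
  have hTi : ∀ a : G, (a = 1 ∨ a = x) → (a⁻¹ = 1 ∨ a⁻¹ = x) := by
    intro a ha
    rcases ha with ha | ha <;> rw [ha]
    · left; exact inv_one
    · right; exact inv_eq_of_mul_eq_one_left sq
  have hcm : Commute (u * u) v := by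
    rcases sqmem u hu with e | e
    · rw [e]; exact Commute.one_left v
    · rw [e]; exact (central v hv).symm
  have h1 : v⁻¹ * (u * u)⁻¹ = (u * u)⁻¹ * v⁻¹ := (hcm.inv_inv).symm.eq
  have key : u * v * u⁻¹ * v⁻¹ = (u * v * (u * v)) * ((u * u)⁻¹ * (v * v)⁻¹) := by
    have e1 : u * v * u⁻¹ * v⁻¹ = (u * v * (u * v)) * (v⁻¹ * (u * u)⁻¹) * v⁻¹ := by group
    rw [e1, h1]
    group
  rw [key]
  exact hT _ _ (sqmem _ (P.mul_mem hu hv)) (hT _ _ (hTi _ (sqmem u hu)) (hTi _ (sqmem v hv)))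

/-- An extraspecial 2-group from its concrete data. -/
theorem isExtraspecial_of_extraAt [Finite G] {P : Subgroup G} {x : G} (h : ExtraAt P x)
    (hP : IsPGroup 2 ↥P) (hna : ∃ a ∈ P, ∃ b ∈ P, a * b ≠ b * a) : IsExtraspecial 2 ↥P := by
  obtain ⟨a, ha, b, hb, hab⟩ := hna
  refine Cfsg.Agent.Lib.Helper3.Extra4.es2_of_data hP (⟨x, h.mem⟩ : ↥P) ?_ ?_ ?_ ?_ ?_ ?_
    ⟨⟨a, ha⟩, ⟨b, hb⟩, fun e => hab (congrArg Subtype.val e)⟩
  · intro e
    exact h.ne_one (congrArg Subtype.val e)
  · apply Subtype.ext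
    rw [pow_two]
    exact h.sq
  · rintro ⟨g, hg⟩
    apply Subtype.ext
    exact h.central g hg
  · rintro ⟨c, hc⟩ hcc
    rcases h.center c hc (fun v hv => (congrArg Subtype.val (hcc ⟨v, hv⟩)).symm) with e | e
    · left; exact Subtype.ext e
    · right; exact Subtype.ext e
  · rintro ⟨u, hu⟩ ⟨v, hv⟩
    rcases h.comm u hu v hv with e | e
    · refine ⟨1, fun g => by rw [mul_one, one_mul], ?_⟩
      apply Subtype.ext
      show u * v = 1 * v * u
      have : u * v = (u * v * u⁻¹ * v⁻¹) * v * u := by group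
      rw [this, e]
    · refine ⟨⟨x, h.mem⟩, ?_, ?_⟩
      · rintro ⟨g, hg⟩
        apply Subtype.ext
        exact h.central g hg
      · apply Subtype.ext
        show u * v = x * v * u
        have : u * v = (u * v * u⁻¹ * v⁻¹) * v * u := by group
        rw [this, e]
  · rintro ⟨a, ha⟩ ⟨g, hg⟩
    apply Subtype.ext
    show g * a ^ 2 = a ^ 2 * g
    rw [pow_two]
    rcases h.sqmem a ha with e | e
    · rw [e, mul_one, one_mul]
    · rw [e]
      exact h.central g hg

/-- The largest normal 2-subgroup of a split extension of a 2-group by a group without normal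
2-subgroups. -/
theorem coreIn_eq_of_split [Finite G] (C Q K : Subgroup G) (hQC : Q ≤ C) (hKC : K ≤ C)
    (hQ2 : IsPGroup 2 ↥Q) (hnorm : ∀ c ∈ C, ∀ q ∈ Q, c * q * c⁻¹ ∈ Q)
    (hsurj : ∀ c ∈ C, ∃ q ∈ Q, ∃ k ∈ K, c = q * k)
    (hK : ∀ N : Subgroup G, N ≤ K → (∀ k ∈ K, ∀ n ∈ N, k * n * k⁻¹ ∈ N) → IsPGroup 2 ↥N →
      N = ⊥) : coreIn C = Q := by
  have : Fact (Nat.Prime 2) := ⟨Nat.prime_two⟩
  have hge : Q ≤ coreIn C := by
    have hn : (Q.subgroupOf C).Normal := ⟨fun n hn g => by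
      rw [Subgroup.mem_subgroupOf] at hn ⊢
      exact hnorm g.1 g.2 _ hn⟩
    have hp : IsPGroup 2 ↥(Q.subgroupOf C) := hQ2.of_equiv (Subgroup.subgroupOfEquivOfLe hQC).symm
    have hle : Q.subgroupOf C ≤ Cfsg.pCore 2 ↥C := le_sSup ⟨hn, hp⟩
    intro q hq
    exact ⟨⟨q, hQC hq⟩, hle (Subgroup.mem_subgroupOf.mpr hq), rfl⟩
  apply le_antisymm _ hge
  have hNn : (Cfsg.pCore 2 ↥C).Normal := Subgroup.sSup_normal _ (fun H hH => hH.1)
  have hNp : IsPGroup 2 ↥(coreIn C) := (Cfsg.Agent.Lib.Helper66.isPGroup_pCore (G := ↥C) 2).map _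
  have hNC : ∀ c ∈ C, ∀ n ∈ coreIn C, c * n * c⁻¹ ∈ coreIn C := by
    rintro c hc _ ⟨n, hn, rfl⟩
    exact ⟨(⟨c, hc⟩ : ↥C) * n * (⟨c, hc⟩ : ↥C)⁻¹, hNn.conj_mem n hn _, rfl⟩
  have hbot : coreIn C ⊓ K = ⊥ := by
    refine hK _ inf_le_right ?_ (hNp.to_le inf_le_left)
    intro k hk n hn
    exact ⟨hNC k (hKC hk) n hn.1, K.mul_mem (K.mul_mem hk hn.2) (K.inv_mem hk)⟩
  intro n hn
  obtain ⟨q, hq, k, hk, rfl⟩ := hsurj n (coreIn_le C hn)
  have hk' : k ∈ coreIn C ⊓ K := by
    refine ⟨?_, hk⟩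
    have e : k = q⁻¹ * (q * k) := by group
    rw [e]
    exact (coreIn C).mul_mem ((coreIn C).inv_mem (hge hq)) hn
  rw [hbot, Subgroup.mem_bot] at hk'
  rw [hk', mul_one]
  exact hq

/-- Extraspecial groups are preserved by isomorphisms. -/
theorem isExtraspecial_mulEquiv {P P' : Type*} [Group P] [Group P'] (e : P ≃* P')
    (h : IsExtraspecial 2 P) : IsExtraspecial 2 P' := by
  obtain ⟨⟨h1, h2, h3⟩, h4⟩ := h
  have hc : (Subgroup.center P).map e.toMonoidHom = Subgroup.center P' := by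
    ext x
    rw [Subgroup.mem_map_equiv, Subgroup.mem_center_iff, Subgroup.mem_center_iff]
    constructor
    · intro hx y
      have h5 := congrArg e (hx (e.symm y))
      simpa using h5
    · intro hx g
      apply e.injective
      simpa using hx (e g)
  have hcm : (commutator P).map e.toMonoidHom = commutator P' := by
    rw [commutator_def, commutator_def, Subgroup.map_commutator,
      Subgroup.map_top_of_surjective _ e.surjective]
  have hf : (frattini P).map e.toMonoidHom = frattini P' := e.mapSubgroup.map_radical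
  refine ⟨⟨h1.of_equiv e, ?_, ?_⟩, ?_⟩
  · rw [← hf, ← hc, h2]
  · rw [← hcm, ← hc, h3]
  · rw [← h4]
    exact (Nat.card_congr (Subgroup.centerCongr e).toEquiv).symm

theorem mem_map_center_subtype {Q : Subgroup G} {x : G} :
    x ∈ (Subgroup.center ↥Q).map Q.subtype ↔ x ∈ Q ∧ ∀ v ∈ Q, v * x = x * v := by
  constructor
  · rintro ⟨c, hc, rfl⟩
    refine ⟨c.2, fun v hv => ?_⟩
    exact congrArg Subtype.val (Subgroup.mem_center_iff.mp hc ⟨v, hv⟩)
  · rintro ⟨hx, hc⟩
    refine ⟨⟨x, hx⟩, Subgroup.mem_center_iff.mpr ?_, rfl⟩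
    rintro ⟨v, hv⟩
    exact Subtype.ext (hc v hv)

/-- Large extraspecial subgroups are preserved by isomorphisms of the ambient group. -/
theorem isLargeExtraspecial_map {G' : Type*} [Group G'] (φ : G ≃* G') {Q : Subgroup G}
    (h : IsLargeExtraspecial Q) : IsLargeExtraspecial (Q.map φ.toMonoidHom) := by
  obtain ⟨h1, h2, h3, h4⟩ := h
  have hmem : ∀ x : G, φ x ∈ Q.map φ.toMonoidHom ↔ x ∈ Q := fun x => by
    rw [Subgroup.mem_map_equiv, MulEquiv.symm_apply_apply]
  have hZ : ∀ c : G, c ∈ (Subgroup.center ↥Q).map Q.subtype →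
      φ c ∈ (Subgroup.center ↥(Q.map φ.toMonoidHom)).map (Q.map φ.toMonoidHom).subtype := by
    intro c hc
    rw [mem_map_center_subtype] at hc ⊢
    refine ⟨(hmem c).mpr hc.1, fun v hv => ?_⟩
    rw [Subgroup.mem_map_equiv] at hv
    have h5 := congrArg φ (hc.2 _ hv)
    simpa using h5
  refine ⟨isExtraspecial_mulEquiv (Q.equivMapOfInjective φ.toMonoidHom φ.injective) h1, ?_, ?_,
    ?_⟩
  · ext y
    rw [mem_map_center_subtype, Subgroup.mem_centralizer_iff]
    constructor
    · intro hy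
      refine ⟨?_, fun v hv => hy v hv⟩
      have h5 : φ.symm y ∈ Subgroup.centralizer (Q : Set G) := by
        rw [Subgroup.mem_centralizer_iff]
        intro v hv
        apply φ.injective
        have h6 := hy (φ v) ((hmem v).mpr hv)
        simpa using h6
      rw [h2, mem_map_center_subtype] at h5
      rw [Subgroup.mem_map_equiv]
      exact h5.1
    · rintro ⟨-, hc⟩ v hv
      exact hc v hv
  · intro y hy
    rw [Subgroup.mem_centralizer_iff] at hy
    have h5 : φ.symm y ∈ Subgroup.normalizer (Q : Set G) := by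
      apply h3
      rw [Subgroup.mem_centralizer_iff]
      intro c hc
      apply φ.injective
      have h6 := hy (φ c) (hZ c hc)
      simpa using h6
    rw [Subgroup.mem_normalizer_iff] at h5 ⊢
    intro x
    rw [Subgroup.mem_map_equiv, Subgroup.mem_map_equiv, h5 (φ.symm x)]
    simp
  · intro K hK hQK
    have hcard : Nat.card ↥(K.comap φ.toMonoidHom) = Nat.card ↥K := by
      rw [Subgroup.comap_equiv_eq_map_symm']
      exact Subgroup.card_map_of_injective φ.symm.injective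
    have h5 : K.comap φ.toMonoidHom = ⊥ := by
      apply h4 _ (by rw [hcard]; exact hK)
      intro q hq
      have h6 := hQK ((hmem q).mpr hq)
      rw [Subgroup.mem_normalizer_iff] at h6 ⊢
      intro x
      show φ x ∈ K ↔ φ (q * x * q⁻¹) ∈ K
      rw [h6 (φ x)]
      simp
    rw [Subgroup.eq_bot_iff_forall] at h5 ⊢
    intro x hx
    have h6 := h5 (φ.symm x) (by
      show φ (φ.symm x) ∈ K
      rw [MulEquiv.apply_symm_apply]
      exact hx)
    rw [← φ.apply_symm_apply x, h6, map_one]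

/-- The structure of the centraliser of an involution `z`, in terms of the largest normal
2-subgroup of the centraliser. -/
def InvolConcl (z : G) : Prop :=
  IsExtraspecial 2 ↥(tc z) ∧ Nat.card ↥(tc z) = 2 ^ 7 ∧
  (∃ E : Subgroup G, E ≤ tc z ∧ IsElementaryAbelian 2 E ∧ Nat.card ↥E = 2 ^ 4) ∧
  IsLargeExtraspecial (tc z) ∧
  ∃ K : Subgroup G, K ≤ Subgroup.centralizer ({z} : Set G) ∧ tc z ⊓ K = ⊥ ∧
    tc z ⊔ K = Subgroup.centralizer ({z} : Set G) ∧
    Nonempty (↥K ≃* Matrix.SpecialLinearGroup (Fin 3) (ZMod 2))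

/-- The structure of the centraliser is the same for conjugate involutions. -/
theorem involConcl_conj {z : G} (h : InvolConcl z) (g : G) : InvolConcl (g * z * g⁻¹) := by
  obtain ⟨h1, h2, ⟨E, hEQ, ⟨hEc, hEs⟩, hE16⟩, h4, K, hKC, hinf, hsup, ⟨e⟩⟩ := h
  have hinj : Function.Injective (MulAut.conj g).toMonoidHom := (MulAut.conj g).injective
  unfold InvolConcl
  rw [tc_conj, centralizer_conj]
  refine ⟨isExtraspecial_mulEquiv ((tc z).equivMapOfInjective _ hinj) h1, ?_, ?_,
    isLargeExtraspecial_map (MulAut.conj g) h4, ?_⟩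
  · rw [Subgroup.card_map_of_injective hinj]
    exact h2
  · refine ⟨E.map (MulAut.conj g).toMonoidHom, Subgroup.map_mono hEQ, ⟨?_, ?_⟩, ?_⟩
    · refine ⟨⟨?_⟩⟩
      rintro ⟨_, a, ha, rfl⟩ ⟨_, b, hb, rfl⟩
      apply Subtype.ext
      show (MulAut.conj g).toMonoidHom a * (MulAut.conj g).toMonoidHom b =
        (MulAut.conj g).toMonoidHom b * (MulAut.conj g).toMonoidHom a
      rw [← map_mul, ← map_mul]
      congr 1
      exact congrArg Subtype.val (hEc.is_comm.comm ⟨a, ha⟩ ⟨b, hb⟩)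
    · rintro _ ⟨a, ha, rfl⟩
      rw [← map_pow, hEs a ha, map_one]
    · rw [Subgroup.card_map_of_injective hinj]
      exact hE16
  · refine ⟨K.map (MulAut.conj g).toMonoidHom, Subgroup.map_mono hKC, ?_, ?_, ?_⟩
    · rw [← Subgroup.map_inf _ _ _ hinj, hinf, Subgroup.map_bot]
    · rw [← Subgroup.map_sup, hsup]
    · exact ⟨(K.equivMapOfInjective _ hinj).symm.trans e⟩

/-- The structure of the centraliser of an involution from elementwise data: an extraspecial
normal subgroup `Q` with a complement isomorphic to `L₃(2)` acting faithfully on `Q / Z(Q)`,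
and a conjugate of the involution in `Q` that is swapped with it. -/
theorem involConcl_of_data [Finite G] {L : Type*} [Group L] (z : G) (Q : Subgroup G)
    (ψ : L →* G) (hex : ExtraAt Q z) (hna : ∃ a ∈ Q, ∃ b ∈ Q, a * b ≠ b * a)
    (hcard : Nat.card ↥Q = 2 ^ 7) (hψz : ∀ l, ψ l * z = z * ψ l)
    (hsurj : ∀ c : G, c * z = z * c → ∃ q ∈ Q, ∃ l, c = q * ψ l)
    (hker : ∀ l, ψ l ∈ Q → l = 1)
    (hnorm : ∀ l, ∀ q ∈ Q, ψ l * q * (ψ l)⁻¹ ∈ Q)
    (hL : ∀ N : Subgroup L, N.Normal → IsPGroup 2 ↥N → N = ⊥)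
    (hfaith : ∀ l, (∀ v ∈ Q, ψ l * v * (ψ l)⁻¹ = v ∨ ψ l * v * (ψ l)⁻¹ = z * v) → l = 1)
    (E : Subgroup G) (hEQ : E ≤ Q) (hE : IsElementaryAbelian 2 E) (hEc : Nat.card ↥E = 2 ^ 4)
    (b h : G) (hb : b ∈ Q) (hb1 : b ≠ 1) (hbz : b ≠ z) (hbb : b * b = 1)
    (hzb : h * z * h⁻¹ = b) (hbz' : h * b * h⁻¹ = z)
    (eL : L ≃* Matrix.SpecialLinearGroup (Fin 3) (ZMod 2)) : InvolConcl z := by
  have : Fact (Nat.Prime 2) := ⟨Nat.prime_two⟩
  have hmemC : ∀ c : G, c ∈ Subgroup.centralizer ({z} : Set G) ↔ c * z = z * c := by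
    intro c
    rw [Subgroup.mem_centralizer_iff]
    constructor
    · intro hc
      exact (hc z rfl).symm
    · intro hc y hy
      rw [Set.mem_singleton_iff.mp hy]
      exact hc.symm
  have hQC : Q ≤ Subgroup.centralizer ({z} : Set G) := fun q hq =>
    (hmemC q).mpr (hex.central q hq)
  have hKC : ψ.range ≤ Subgroup.centralizer ({z} : Set G) := by
    rintro _ ⟨l, rfl⟩
    exact (hmemC _).mpr (hψz l)
  have hψinj : Function.Injective ψ := by
    rw [injective_iff_map_eq_one]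
    intro l hl
    apply hker
    rw [hl]
    exact Q.one_mem
  have hQ2 : IsPGroup 2 ↥Q := IsPGroup.of_card hcard
  have hnormC : ∀ c ∈ Subgroup.centralizer ({z} : Set G), ∀ q ∈ Q, c * q * c⁻¹ ∈ Q := by
    intro c hc q hq
    obtain ⟨q', hq', l, rfl⟩ := hsurj c ((hmemC c).mp hc)
    have e : q' * ψ l * q * (q' * ψ l)⁻¹ = q' * (ψ l * q * (ψ l)⁻¹) * q'⁻¹ := by group
    rw [e]
    exact Q.mul_mem (Q.mul_mem hq' (hnorm l q hq)) (Q.inv_mem hq')
  have hcore : tc z = Q := by
    refine coreIn_eq_of_split _ Q ψ.range hQC hKC hQ2 hnormC ?_ ?_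
    · intro c hc
      obtain ⟨q, hq, l, rfl⟩ := hsurj c ((hmemC c).mp hc)
      exact ⟨q, hq, ψ l, ⟨l, rfl⟩, rfl⟩
    · intro N hNK hNn hNp
      have hn : (N.comap ψ).Normal := ⟨fun n hn g => by
        show ψ (g * n * g⁻¹) ∈ N
        rw [map_mul, map_mul, map_inv]
        exact hNn _ ⟨g, rfl⟩ _ hn⟩
      have h5 := hL _ hn (hNp.comap_of_injective ψ hψinj)
      rw [Subgroup.eq_bot_iff_forall] at h5 ⊢
      intro x hx
      obtain ⟨l, rfl⟩ := hNK hx
      rw [h5 l hx, map_one]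
  have hzZ : z ∈ (Subgroup.center ↥Q).map Q.subtype :=
    mem_map_center_subtype.mpr ⟨hex.mem, fun v hv => hex.central v hv⟩
  have hL2 : Subgroup.centralizer (Q : Set G) = (Subgroup.center ↥Q).map Q.subtype := by
    ext y
    rw [mem_map_center_subtype, Subgroup.mem_centralizer_iff]
    constructor
    · intro hy
      refine ⟨?_, fun v hv => hy v hv⟩
      obtain ⟨q, hq, l, rfl⟩ := hsurj y (hy z hex.mem).symm
      have hl : l = 1 := by
        apply hfaith
        intro v hv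
        have e1 : ψ l * v * (ψ l)⁻¹ = q⁻¹ * ((q * ψ l) * v * (q * ψ l)⁻¹) * q := by group
        have e2 : (q * ψ l) * v * (q * ψ l)⁻¹ = v := by
          rw [← hy v hv]
          group
        rw [e1, e2]
        rcases hex.comm q⁻¹ (Q.inv_mem hq) v hv with e | e
        · left
          have : q⁻¹ * v * q = (q⁻¹ * v * q⁻¹⁻¹ * v⁻¹) * v := by group
          rw [this, e, one_mul]
        · right
          have : q⁻¹ * v * q = (q⁻¹ * v * q⁻¹⁻¹ * v⁻¹) * v := by group
          rw [this, e]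
      rw [hl, map_one, mul_one]
      exact hq
    · rintro ⟨-, hc⟩ v hv
      exact hc v hv
  have hL3 : Subgroup.centralizer (((Subgroup.center ↥Q).map Q.subtype : Subgroup G) : Set G) ≤
      Subgroup.normalizer (Q : Set G) := by
    intro y hy
    rw [Subgroup.mem_centralizer_iff] at hy
    have hyC : y ∈ Subgroup.centralizer ({z} : Set G) := (hmemC y).mpr (hy z hzZ).symm
    rw [Subgroup.mem_normalizer_iff]
    intro x
    constructor
    · exact hnormC y hyC x
    · intro hx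
      have h5 := hnormC y⁻¹ (Subgroup.inv_mem _ hyC) _ hx
      have e : y⁻¹ * (y * x * y⁻¹) * y⁻¹⁻¹ = x := by group
      rwa [e] at h5
  have hbZ : b ∉ (Subgroup.center ↥Q).map Q.subtype := by
    intro hc
    rw [mem_map_center_subtype] at hc
    rcases hex.center b hb (fun v hv => (hc.2 v hv).symm) with e | e
    · exact hb1 e
    · exact hbz e
  have hbo : orderOf b = 2 := orderOf_eq_prime (by rw [pow_two]; exact hbb) hb1
  have hZb : (Subgroup.center ↥Q).map Q.subtype ≤
      (Cfsg.pCore 2 ↥(Subgroup.centralizer ({b} : Set G))).map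
        (Subgroup.centralizer ({b} : Set G)).subtype := by
    intro c hc
    rw [mem_map_center_subtype] at hc
    show c ∈ tc b
    rcases hex.center c hc.1 (fun v hv => (hc.2 v hv).symm) with e | e
    · rw [e]
      exact (tc b).one_mem
    · rw [e, ← hzb, tc_conj, mem_map_conj_iff, hcore]
      have e2 : h⁻¹ * z * h = b := by
        rw [← hbz']
        group
      rw [e2]
      exact hb
  unfold InvolConcl
  rw [hcore]
  refine ⟨isExtraspecial_of_extraAt hex hQ2 hna, hcard, ⟨E, hEQ, hE, hEc⟩,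
    Cfsg.Agent.S5421.result Q (isExtraspecial_of_extraAt hex hQ2 hna) hL2 hL3 b hb hbZ hbo hZb,
    ψ.range, hKC, ?_, ?_, ⟨(MonoidHom.ofInjective hψinj).symm.trans eL⟩⟩
  · rw [Subgroup.eq_bot_iff_forall]
    rintro x ⟨hxQ, l, rfl⟩
    rw [hker l hxQ, map_one]
  · apply le_antisymm (sup_le hQC hKC)
    intro c hc
    obtain ⟨q, hq, l, rfl⟩ := hsurj c ((hmemC c).mp hc)
    exact Subgroup.mul_mem_sup hq ⟨l, rfl⟩

end OctInv

end Cfsg.Agent.Lib.Helper95
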