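import Cfsg.Agent.Lib.Helper95.IcoSC
import Cfsg.Agent.Lib.Helper95.OctInvGrp

/-!
# The structure of the point stabiliser in the permutation group of degree 315

The kernel of the action of the point stabiliser `St0` on the five pairs consists of the 32
chain products of `QP`; it is extraspecial, and the quotient is the alternating group of
degree five.
-/

set_option autoImplicit false
set_option maxHeartbeats 400000

namespace Cfsg.Agent.Lib.Helper95.IcoS

open Cfsg.Agent.Lib.Helper7.Sims Cfsg.Agent.Lib.Helper7.J2P Equiv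

/-- the number of permutations with a function from a list, distinguished at a point -/
theorem ncard_elemsF {α : Type} (L : List α) (F : α → ℕ → ℕ) (b : ℕ) (hb : b < 315)
    (hU : ∀ a ∈ L, ∃ u : Perm (Fin 315), ActsAs u (F a))
    (hnd : (L.map (fun a => F a b)).Nodup) :
    ({u : Perm (Fin 315) | ∃ a ∈ L, ActsAs u (F a)}).ncard = L.length := by
  have hinj : Set.InjOn (fun u : Perm (Fin 315) => ((u ⟨b, hb⟩ : Fin 315) : ℕ))
      {u : Perm (Fin 315) | ∃ a ∈ L, ActsAs u (F a)} := by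
    rintro u ⟨T, hT, hu⟩ u' ⟨T', hT', hu'⟩ heq
    simp only at heq
    rw [hu, hu'] at heq
    have hTT : T = T' := List.inj_on_of_nodup_map hnd hT hT' heq
    subst hTT
    exact ActsAs.ext hu hu'
  have himg : (fun u : Perm (Fin 315) => ((u ⟨b, hb⟩ : Fin 315) : ℕ)) ''
      {u : Perm (Fin 315) | ∃ a ∈ L, ActsAs u (F a)} =
      ((L.map (fun a => F a b)).toFinset : Set ℕ) := by
    ext x
    simp only [Set.mem_image, Finset.mem_coe, List.mem_toFinset, List.mem_map]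
    constructor
    · rintro ⟨u, ⟨T, hT, hu⟩, rfl⟩
      exact ⟨T, hT, (hu ⟨b, hb⟩).symm⟩
    · rintro ⟨T, hT, rfl⟩
      obtain ⟨u, hu⟩ := hU T hT
      exact ⟨u, ⟨T, hT, hu⟩, hu ⟨b, hb⟩⟩
  rw [← Set.InjOn.ncard_image hinj, himg, Set.ncard_coe_finset,
    List.toFinset_card_of_nodup hnd, List.length_map]

/-- every chain product of `QP` is an element of the point stabiliser -/
theorem qp_perm (p : ℕ × ℕ) (hp : p ∈ QP) : ∃ g ∈ St0, ActsAs g (f2 p) := by
  have h1 := List.all_eq_true.1 qp_mem p hp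
  rw [Bool.and_eq_true] at h1
  have hsel : Sel [p.1, p.2] (us Lt) :=
    List.Forall₂.cons ((memB_iff _ _).1 h1.1)
      (List.Forall₂.cons ((memB_iff _ _).1 h1.2) List.Forall₂.nil)
  obtain ⟨g, hg, hact⟩ := rep_pset ap9 (us Lt) tail_perm [p.1, p.2] hsel
  refine ⟨g, ?_, fun i => hact i⟩
  have h3 : g ∈ (St0 : Set (Perm (Fin 315))) := by rw [← St0_eq_pset]; exact hg
  exact h3

/-- the kernel of the action on the pairs, as a group of permutations -/
def Kp : Subgroup (Perm (Fin 315)) := psiS.ker.map St0.subtype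

theorem mem_Kp {u : Perm (Fin 315)} : u ∈ Kp ↔ ∃ h : u ∈ St0, psiS ⟨u, h⟩ = 1 := by
  constructor
  · rintro ⟨x, hx, rfl⟩
    exact ⟨x.2, MonoidHom.mem_ker.mp hx⟩
  · rintro ⟨h, h1⟩
    exact ⟨⟨u, h⟩, MonoidHom.mem_ker.mpr h1, rfl⟩

theorem Kp_le : Kp ≤ St0 := fun _ hu => (mem_Kp.mp hu).1

theorem card_Kp : Nat.card Kp = 32 := by
  rw [Kp, Subgroup.card_map_of_injective (Subgroup.subtype_injective _), card_ker]

theorem qp_sub : {u : Perm (Fin 315) | ∃ p ∈ QP, ActsAs u (f2 p)} ⊆ (Kp : Set (Perm (Fin 315))) := by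
  rintro u ⟨p, hp, hu⟩
  obtain ⟨g, hg, hact⟩ := qp_perm p hp
  have hug : u = g := ActsAs.ext hu hact
  subst hug
  rw [SetLike.mem_coe, mem_Kp]
  refine ⟨hg, ?_⟩
  have h1 := (allLt_iff _ 5).1 (List.all_eq_true.1 qp_ker p hp)
  exact psiS_one (x := ⟨u, hg⟩) hu (fun c hc => (nbeq_iff _ _).1 (h1 c hc))

theorem Kp_eq : {u : Perm (Fin 315) | ∃ p ∈ QP, ActsAs u (f2 p)} = (Kp : Set (Perm (Fin 315))) := by
  apply Set.eq_of_subset_of_ncard_le qp_sub _ (Set.toFinite _)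
  rw [ncard_elemsF QP f2 27 (by norm_num) (fun p hp => by
    obtain ⟨g, _, hact⟩ := qp_perm p hp
    exact ⟨g, hact⟩) (nodupB_imp _ qp_nodup), qp_len]
  have h : (Kp : Set (Perm (Fin 315))).ncard = Nat.card Kp := rfl
  rw [h, card_Kp]

theorem mem_Kp_iff {u : Perm (Fin 315)} : u ∈ Kp ↔ ∃ p ∈ QP, ActsAs u (f2 p) := by
  have h : u ∈ {u : Perm (Fin 315) | ∃ p ∈ QP, ActsAs u (f2 p)} ↔ u ∈ (Kp : Set (Perm (Fin 315))) := by
    rw [Kp_eq]
  exact h.symm

theorem s0_sq : s0 * s0 = 1 :=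
  ActsAs.ext' (actsAs_s0.mul actsAs_s0) actsAs_one
    (fun i hi => (invChk_spec hinv0 i hi).2.2.1)

theorem s0_ne_one : s0 ≠ 1 := by
  intro h
  have h1 := actsAs_s0 ⟨3, by norm_num⟩
  rw [h] at h1
  exact t0_ne h1.symm

theorem s0_mem_Kp : s0 ∈ Kp := by
  have h := qp_s0
  rw [List.any_eq_true] at h
  obtain ⟨p, hp, hps⟩ := h
  obtain ⟨g, hg, hact⟩ := qp_perm p hp
  have h1 := (allLt_iff _ 315).1 hps
  have hgs : g = s0 := ActsAs.ext' hact actsAs_s0 (fun i hi => (nbeq_iff _ _).1 (h1 i hi))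
  rw [← hgs]
  exact mem_Kp_iff.mpr ⟨p, hp, hact⟩

theorem Kp_extraAt : Cfsg.Agent.Lib.Helper94.ExtraAt Kp s0 := by
  refine extraAt_of_sq s0_mem_Kp s0_ne_one s0_sq (fun u hu => St0_comm (Kp_le hu)) ?_ ?_
  · intro u hu hcomm
    obtain ⟨p, hp, hact⟩ := mem_Kp_iff.mp hu
    have h1 := List.all_eq_true.1 qp_cen p hp
    rw [Bool.or_eq_true, Bool.or_eq_true] at h1
    rcases h1 with (h1 | h1) | h1
    · left
      have h2 := (allLt_iff _ 315).1 h1
      exact ActsAs.ext' hact actsAs_one (fun i hi => (nbeq_iff _ _).1 (h2 i hi))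
    · right
      have h2 := (allLt_iff _ 315).1 h1
      exact ActsAs.ext' hact actsAs_s0 (fun i hi => (nbeq_iff _ _).1 (h2 i hi))
    · exfalso
      rw [List.any_eq_true] at h1
      obtain ⟨p', hp', h2⟩ := h1
      obtain ⟨i, hi, h3⟩ := anyLt_imp _ _ h2
      obtain ⟨v, hv, hvact⟩ := qp_perm p' hp'
      have hvK : v ∈ Kp := mem_Kp_iff.mpr ⟨p', hp', hvact⟩
      have h4 := hcomm v hvK
      have h5 := (hact.mul hvact) ⟨i, hi⟩
      have h6 := (hvact.mul hact) ⟨i, hi⟩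
      rw [h4] at h5
      have h7 : f2 p (f2 p' i) = f2 p' (f2 p i) := h5.symm.trans h6
      have h8 := (nbeq_iff _ _).2 h7
      rw [h8] at h3
      exact Bool.noConfusion h3
  · intro u hu
    obtain ⟨p, hp, hact⟩ := mem_Kp_iff.mp hu
    have h1 := List.all_eq_true.1 qp_sq p hp
    rw [Bool.or_eq_true] at h1
    rcases h1 with h1 | h1
    · left
      have h2 := (allLt_iff _ 315).1 h1
      exact ActsAs.ext' (hact.mul hact) actsAs_one (fun i hi => (nbeq_iff _ _).1 (h2 i hi))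
    · right
      have h2 := (allLt_iff _ 315).1 h1
      exact ActsAs.ext' (hact.mul hact) actsAs_s0 (fun i hi => (nbeq_iff _ _).1 (h2 i hi))

theorem Kp_nonab : ∃ a ∈ Kp, ∃ b ∈ Kp, a * b ≠ b * a := by
  have h := qp_nonab
  rw [List.any_eq_true] at h
  obtain ⟨p, hp, h1⟩ := h
  rw [List.any_eq_true] at h1
  obtain ⟨p', hp', h2⟩ := h1
  obtain ⟨i, hi, h3⟩ := anyLt_imp _ _ h2
  obtain ⟨u, _, hact⟩ := qp_perm p hp
  obtain ⟨v, _, hvact⟩ := qp_perm p' hp'
  refine ⟨u, mem_Kp_iff.mpr ⟨p, hp, hact⟩, v, mem_Kp_iff.mpr ⟨p', hp', hvact⟩, ?_⟩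
  intro h4
  have h5 := (hact.mul hvact) ⟨i, hi⟩
  have h6 := (hvact.mul hact) ⟨i, hi⟩
  rw [h4] at h5
  have h7 : f2 p (f2 p' i) = f2 p' (f2 p i) := h5.symm.trans h6
  have h8 := (nbeq_iff _ _).2 h7
  rw [h8] at h3
  exact Bool.noConfusion h3

theorem Kp_extraspecial : Cfsg.IsExtraspecial 2 ↥Kp :=
  isExtraspecial_of_extraAt Kp_extraAt (IsPGroup.of_card (n := 5) (by rw [card_Kp]; rfl)) Kp_nonab

/-- the structure of the point stabiliser: extraspecial of order 32 by `A₅` -/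
theorem St0_structure : ∃ (Q : Subgroup ↥St0) (_ : Q.Normal), Nat.card Q = 32 ∧
    Cfsg.IsExtraspecial 2 ↥Q ∧ Nonempty (↥St0 ⧸ Q ≃* alternatingGroup (Fin 5)) := by
  refine ⟨psiS.ker, inferInstance, card_ker, ?_, ?_⟩
  · exact isExtraspecial_mulEquiv
      (psiS.ker.equivMapOfInjective St0.subtype (Subgroup.subtype_injective _)).symm
      Kp_extraspecial
  · exact ⟨(QuotientGroup.quotientKerEquivRange psiS).trans (MulEquiv.subgroupCongr range_eq_alt)⟩

end Cfsg.Agent.Lib.Helper95.IcoS
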