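import Mathlib
import Cfsg.Agent.Lib.Helper95.NormBound

/-!
# The normalizer of a subgroup of order 11 of `M24` has order at most 110
-/

set_option autoImplicit false

namespace Cfsg.Agent.Lib.Helper95.B11

open Cfsg Cfsg.Agent.Lib.Helper9 Cfsg.Agent.Lib.Helper95

/-- An element of order 11. -/
def xT : List ℕ := [1, 2, 3, 4, 18, 7, 16, 15, 22, 17, 23, 9, 6, 13, 12, 14, 21, 10, 11, 19, 5, 8, 20, 0]

def reps : List ℕ := [23, 5]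

def dat : List (ℕ × ℕ × List ℕ) :=
  [(1, 23, [0, 1, 2, 3, 4, 5, 6, 7, 8, 9, 10, 11, 12, 13, 14, 15, 16, 17, 18, 19, 20, 21, 22, 23]),
   (1, 5, [7, 15, 14, 12, 13, 16, 20, 2, 22, 18, 10, 19, 9, 1, 3, 8, 11, 0, 4, 23, 21, 6, 17, 5]),
   (2, 23, [1, 3, 18, 9, 20, 0, 5, 19, 4, 13, 22, 6, 15, 10, 7, 11, 12, 16, 2, 21, 14, 8, 17, 23]),
   (2, 5, [15, 12, 16, 8, 18, 1, 7, 14, 9, 4, 6, 19, 2, 17, 21, 23, 13, 11, 20, 0, 22, 3, 10, 5]),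
   (3, 23, [2, 18, 17, 0, 12, 20, 14, 15, 13, 21, 9, 8, 3, 6, 4, 22, 5, 7, 16, 11, 1, 10, 19, 23]),
   (3, 5, [14, 16, 22, 7, 6, 21, 20, 15, 13, 12, 10, 4, 17, 19, 23, 9, 0, 1, 3, 11, 8, 18, 2, 5]),
   (4, 23, [3, 9, 0, 4, 16, 8, 5, 19, 10, 17, 22, 11, 12, 1, 2, 20, 18, 21, 14, 6, 13, 15, 7, 23]),
   (4, 5, [12, 8, 7, 6, 16, 9, 4, 22, 10, 2, 1, 13, 0, 18, 15, 14, 20, 17, 11, 3, 19, 21, 23, 5]),
   (5, 23, [4, 10, 3, 17, 1, 15, 18, 11, 13, 21, 6, 2, 14, 22, 16, 12, 9, 0, 20, 8, 19, 7, 5, 23]),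
   (5, 5, [6, 20, 12, 22, 0, 11, 16, 14, 3, 10, 9, 18, 15, 7, 2, 13, 4, 8, 21, 1, 23, 17, 19, 5]),
   (6, 23, [18, 0, 11, 1, 10, 2, 17, 3, 19, 9, 15, 14, 5, 13, 12, 22, 16, 8, 7, 21, 4, 6, 20, 23]),
   (6, 5, [16, 7, 21, 15, 1, 4, 3, 13, 12, 8, 0, 6, 10, 14, 20, 9, 22, 17, 2, 18, 19, 11, 23, 5]),
   (7, 23, [11, 2, 10, 18, 16, 17, 12, 19, 0, 13, 8, 6, 5, 1, 15, 9, 21, 14, 4, 7, 22, 20, 3, 23]),
   (7, 5, [21, 14, 20, 16, 9, 8, 23, 17, 1, 10, 22, 15, 19, 7, 3, 4, 11, 2, 0, 13, 6, 18, 12, 5]),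
   (8, 23, [9, 4, 1, 10, 7, 3, 16, 15, 12, 8, 18, 0, 17, 2, 5, 20, 14, 22, 6, 19, 13, 21, 11, 23]),
   (8, 5, [8, 6, 15, 20, 4, 0, 1, 22, 13, 12, 7, 23, 18, 21, 16, 9, 2, 10, 11, 3, 17, 14, 19, 5]),
   (9, 23, [17, 11, 4, 2, 7, 12, 14, 13, 18, 20, 10, 5, 16, 15, 22, 9, 6, 3, 1, 8, 21, 0, 19, 23]),
   (9, 5, [22, 21, 6, 14, 7, 20, 3, 2, 18, 12, 9, 16, 8, 0, 10, 19, 15, 4, 17, 23, 1, 13, 11, 5]),
   (10, 23, [10, 17, 9, 11, 15, 20, 1, 13, 7, 5, 0, 2, 6, 22, 4, 8, 19, 21, 3, 14, 18, 16, 12, 23]),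
   (10, 5, [20, 22, 8, 21, 0, 15, 10, 3, 4, 11, 6, 16, 19, 14, 23, 2, 17, 9, 1, 13, 12, 18, 7, 5])]

/-- The elements `g` of the normalizer (up to powers of `x`). -/
def sT : List (List ℕ) :=
  [[0, 1, 2, 3, 4, 5, 6, 7, 8, 9, 10, 11, 12, 13, 14, 15, 16, 17, 18, 19, 20, 21, 22, 23],
   [15, 12, 16, 8, 20, 11, 18, 17, 0, 6, 22, 14, 3, 19, 1, 23, 9, 21, 7, 13, 4, 10, 2, 5],
   [2, 18, 17, 0, 3, 7, 6, 12, 14, 1, 9, 10, 15, 13, 20, 21, 8, 4, 11, 19, 22, 5, 16, 23],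
   [3, 9, 0, 4, 17, 21, 6, 5, 16, 10, 11, 18, 7, 13, 8, 12, 22, 2, 1, 19, 14, 15, 20, 23],
   [4, 10, 3, 17, 2, 15, 6, 21, 22, 11, 18, 1, 5, 13, 16, 7, 20, 0, 9, 19, 8, 12, 14, 23],
   [16, 7, 21, 15, 8, 17, 18, 3, 1, 12, 6, 22, 23, 19, 4, 10, 0, 20, 14, 13, 2, 11, 9, 5],
   [21, 14, 20, 16, 15, 3, 18, 23, 4, 7, 12, 6, 10, 19, 2, 11, 1, 8, 22, 13, 9, 17, 0, 5],
   [8, 6, 15, 20, 21, 10, 18, 11, 9, 22, 14, 7, 17, 19, 0, 3, 2, 16, 12, 13, 1, 23, 4, 5],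
   [17, 11, 4, 2, 0, 12, 6, 15, 20, 18, 1, 9, 21, 13, 22, 5, 14, 3, 10, 19, 16, 7, 8, 23],
   [20, 22, 8, 21, 16, 23, 18, 10, 2, 14, 7, 12, 11, 19, 9, 17, 4, 15, 6, 13, 0, 3, 1, 5]]

theorem nd : ndOK 11 xT reps dat sT = true := by decide +kernel

theorem ord : (List.range 24).all (fun i => iterT xT 11 i == i) = true := by decide +kernel

theorem xT_ok : permOK xT = true ∧ tableOK xT = true := by decide +kernel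

/-- The element of order 11 of `M24`. -/
def x : ↥M24 := ⟨tperm xT, tperm_mem_M24 xT_ok.1 xT_ok.2⟩

theorem x_bound : orderOf x = 11 ∧
    Nat.card ↥(Subgroup.normalizer ((Subgroup.zpowers x : Subgroup ↥M24) : Set ↥M24)) ≤
      110 :=
  normalizer_bound (by norm_num) nd ord x rfl

/-- `M24` has an element of order 11 whose cyclic subgroup has a normalizer of order at most
110. -/
theorem main : ∃ x : ↥M24, orderOf x = 11 ∧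
    Nat.card ↥(Subgroup.normalizer ((Subgroup.zpowers x : Subgroup ↥M24) : Set ↥M24)) ≤
      110 :=
  ⟨x, x_bound⟩

end Cfsg.Agent.Lib.Helper95.B11
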