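import Mathlib
import Cfsg.Agent.Lib.Helper95.NormBound

/-!
# The normalizer of a subgroup of order 5 of `M24` has order at most 240
-/

set_option autoImplicit false

namespace Cfsg.Agent.Lib.Helper95.B5

open Cfsg Cfsg.Agent.Lib.Helper9 Cfsg.Agent.Lib.Helper95

/-- An element of order 5. -/
def xT : List ℕ := [1, 2, 3, 23, 15, 5, 11, 6, 12, 21, 18, 10, 4, 8, 14, 13, 19, 17, 7, 9, 20, 22, 16, 0]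

def reps : List ℕ := [23, 4, 6, 9]

def dat : List (ℕ × ℕ × List ℕ) :=
  [(1, 23, [0, 1, 2, 3, 4, 5, 6, 7, 8, 9, 10, 11, 12, 13, 14, 15, 16, 17, 18, 19, 20, 21, 22, 23]),
   (1, 4, [15, 13, 8, 12, 2, 14, 7, 11, 22, 1, 17, 3, 19, 0, 5, 6, 10, 20, 23, 21, 16, 9, 18, 4]),
   (1, 6, [11, 10, 18, 7, 23, 5, 15, 4, 2, 22, 8, 13, 3, 1, 17, 0, 9, 20, 12, 21, 14, 16, 19, 6]),
   (1, 9, [21, 22, 16, 19, 3, 17, 12, 15, 6, 2, 5, 23, 10, 1, 14, 4, 13, 20, 0, 7, 11, 18, 8, 9]),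
   (2, 23, [1, 3, 0, 2, 7, 5, 15, 12, 6, 19, 4, 8, 10, 18, 17, 11, 9, 14, 13, 22, 20, 21, 16, 23]),
   (2, 4, [13, 12, 15, 8, 19, 14, 10, 11, 3, 22, 17, 21, 2, 9, 20, 7, 18, 5, 16, 1, 0, 23, 6, 4]),
   (2, 6, [10, 7, 11, 18, 1, 17, 4, 12, 19, 23, 14, 3, 16, 2, 5, 13, 15, 20, 0, 22, 21, 9, 8, 6]),
   (2, 9, [22, 19, 21, 16, 12, 14, 13, 2, 18, 7, 23, 4, 8, 5, 17, 11, 1, 20, 10, 0, 3, 15, 6, 9]),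
   (3, 23, [2, 0, 3, 1, 10, 5, 8, 4, 11, 16, 12, 15, 7, 18, 17, 6, 22, 14, 13, 9, 20, 21, 19, 23]),
   (3, 4, [8, 15, 12, 13, 17, 5, 0, 11, 10, 9, 2, 16, 19, 18, 14, 22, 21, 20, 7, 6, 1, 3, 23, 4]),
   (3, 6, [18, 11, 7, 10, 19, 5, 16, 22, 4, 14, 15, 1, 13, 21, 20, 3, 8, 17, 0, 23, 9, 2, 12, 6]),
   (3, 9, [16, 21, 19, 22, 15, 17, 13, 10, 8, 6, 3, 7, 5, 1, 20, 2, 23, 14, 0, 12, 18, 11, 4, 9]),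
   (4, 23, [3, 2, 1, 0, 6, 17, 19, 9, 10, 8, 22, 16, 11, 18, 5, 7, 4, 14, 21, 12, 20, 13, 15, 23]),
   (4, 4, [12, 8, 13, 15, 16, 14, 6, 23, 3, 21, 0, 10, 9, 11, 5, 1, 18, 20, 17, 7, 19, 2, 22, 4]),
   (4, 6, [7, 18, 10, 11, 16, 20, 4, 14, 0, 3, 1, 23, 12, 13, 5, 21, 9, 17, 15, 2, 22, 19, 8, 6]),
   (4, 9, [19, 16, 22, 21, 11, 20, 5, 18, 7, 3, 0, 10, 1, 8, 17, 4, 6, 14, 2, 13, 12, 23, 15, 9])]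

/-- The elements `g` of the normalizer (up to powers of `x`). -/
def sT : List (List ℕ) :=
  [[0, 1, 2, 3, 4, 5, 6, 7, 8, 9, 10, 11, 12, 13, 14, 15, 16, 17, 18, 19, 20, 21, 22, 23],
   [0, 1, 2, 3, 11, 17, 16, 22, 7, 15, 9, 19, 6, 18, 5, 10, 12, 14, 21, 4, 20, 13, 8, 23],
   [0, 1, 2, 3, 19, 14, 12, 8, 22, 10, 15, 4, 16, 21, 17, 9, 6, 5, 13, 11, 20, 18, 7, 23],
   [15, 13, 8, 12, 7, 5, 23, 3, 10, 16, 1, 0, 18, 11, 20, 6, 21, 14, 2, 22, 17, 19, 9, 4],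
   [15, 13, 8, 12, 22, 20, 18, 10, 9, 1, 6, 7, 21, 19, 14, 16, 23, 5, 11, 0, 17, 2, 3, 4],
   [15, 13, 8, 12, 0, 14, 21, 9, 3, 6, 16, 22, 23, 2, 5, 1, 18, 20, 19, 7, 17, 11, 10, 4],
   [11, 10, 18, 7, 23, 5, 15, 4, 2, 22, 8, 13, 3, 1, 17, 0, 9, 20, 12, 21, 14, 16, 19, 6],
   [11, 10, 18, 7, 13, 20, 9, 19, 4, 0, 22, 21, 15, 12, 5, 8, 3, 17, 16, 23, 14, 1, 2, 6],
   [11, 10, 18, 7, 21, 17, 3, 2, 19, 8, 0, 23, 9, 16, 20, 22, 15, 5, 1, 13, 14, 12, 4, 6],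
   [21, 22, 16, 19, 12, 14, 0, 23, 13, 11, 2, 1, 8, 15, 20, 4, 7, 17, 3, 6, 5, 10, 18, 9],
   [21, 22, 16, 19, 6, 20, 8, 13, 18, 2, 4, 12, 7, 10, 17, 11, 0, 14, 15, 1, 5, 3, 23, 9],
   [21, 22, 16, 19, 1, 17, 7, 18, 23, 4, 11, 6, 0, 3, 14, 2, 8, 20, 10, 12, 5, 15, 13, 9],
   [1, 3, 0, 2, 7, 5, 15, 12, 6, 19, 4, 8, 10, 18, 17, 11, 9, 14, 13, 22, 20, 21, 16, 23],
   [1, 3, 0, 2, 8, 14, 9, 16, 12, 11, 19, 22, 15, 13, 5, 4, 10, 17, 21, 7, 20, 18, 6, 23],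
   [1, 3, 0, 2, 22, 17, 10, 6, 16, 4, 11, 7, 9, 21, 14, 19, 15, 5, 18, 8, 20, 13, 12, 23],
   [13, 12, 15, 8, 10, 20, 16, 21, 18, 0, 22, 9, 6, 11, 5, 7, 1, 14, 19, 3, 17, 2, 23, 4],
   [13, 12, 15, 8, 3, 5, 6, 18, 23, 22, 7, 10, 1, 2, 14, 0, 16, 20, 11, 9, 17, 19, 21, 4],
   [13, 12, 15, 8, 9, 14, 1, 23, 21, 7, 0, 3, 16, 19, 20, 22, 6, 5, 2, 10, 17, 11, 18, 4],
   [10, 7, 11, 18, 4, 5, 0, 3, 15, 21, 23, 2, 8, 12, 20, 13, 22, 17, 1, 19, 14, 16, 9, 6],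
   [10, 7, 11, 18, 19, 20, 8, 15, 9, 23, 13, 4, 22, 16, 17, 21, 0, 5, 12, 2, 14, 1, 3, 6],
   [10, 7, 11, 18, 2, 17, 22, 9, 3, 13, 21, 19, 0, 1, 5, 23, 8, 20, 16, 4, 14, 12, 15, 6],
   [22, 19, 21, 16, 13, 20, 11, 7, 8, 1, 6, 18, 4, 15, 14, 12, 2, 17, 10, 23, 5, 3, 0, 9],
   [22, 19, 21, 16, 18, 17, 2, 0, 7, 12, 1, 23, 11, 10, 20, 6, 4, 14, 3, 13, 5, 15, 8, 9],
   [22, 19, 21, 16, 23, 14, 4, 8, 0, 6, 12, 13, 2, 3, 17, 1, 11, 20, 15, 18, 5, 10, 7, 9],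
   [2, 0, 3, 1, 10, 5, 8, 4, 11, 16, 12, 15, 7, 18, 17, 6, 22, 14, 13, 9, 20, 21, 19, 23],
   [2, 0, 3, 1, 15, 14, 22, 19, 4, 6, 16, 9, 8, 13, 5, 12, 7, 17, 21, 10, 20, 18, 11, 23],
   [2, 0, 3, 1, 9, 17, 7, 11, 19, 12, 6, 10, 22, 21, 14, 16, 8, 5, 18, 15, 20, 13, 4, 23],
   [8, 15, 12, 13, 16, 14, 3, 0, 22, 18, 23, 1, 9, 19, 20, 21, 10, 5, 2, 6, 17, 11, 7, 4],
   [8, 15, 12, 13, 6, 20, 9, 22, 7, 23, 21, 16, 10, 11, 5, 18, 3, 14, 19, 1, 17, 2, 0, 4],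
   [8, 15, 12, 13, 1, 5, 10, 7, 0, 21, 18, 6, 3, 2, 14, 23, 9, 20, 11, 16, 17, 19, 22, 4],
   [18, 11, 7, 10, 22, 20, 4, 13, 21, 3, 15, 8, 19, 16, 17, 9, 2, 5, 12, 0, 14, 1, 23, 6],
   [18, 11, 7, 10, 8, 5, 2, 23, 13, 9, 3, 0, 4, 12, 20, 15, 19, 17, 1, 22, 14, 16, 21, 6],
   [18, 11, 7, 10, 0, 17, 19, 21, 23, 15, 9, 22, 2, 1, 5, 3, 4, 20, 16, 8, 14, 12, 13, 6],
   [16, 21, 19, 22, 2, 14, 13, 12, 1, 7, 8, 4, 23, 3, 17, 0, 18, 20, 15, 11, 5, 10, 6, 9],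
   [16, 21, 19, 22, 11, 17, 23, 1, 6, 8, 0, 2, 18, 10, 20, 7, 13, 14, 3, 4, 5, 15, 12, 9],
   [16, 21, 19, 22, 4, 20, 18, 6, 12, 0, 7, 11, 13, 15, 14, 8, 23, 17, 10, 2, 5, 3, 1, 9],
   [3, 2, 1, 0, 6, 17, 19, 9, 10, 8, 22, 16, 11, 18, 5, 7, 4, 14, 21, 12, 20, 13, 15, 23],
   [3, 2, 1, 0, 16, 14, 4, 15, 9, 7, 8, 12, 19, 21, 17, 22, 11, 5, 13, 6, 20, 18, 10, 23],
   [3, 2, 1, 0, 12, 5, 11, 10, 15, 22, 7, 6, 4, 13, 14, 8, 19, 17, 18, 16, 20, 21, 9, 23],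
   [12, 8, 13, 15, 23, 14, 22, 16, 1, 10, 9, 21, 0, 2, 5, 3, 7, 20, 19, 18, 17, 11, 6, 4],
   [12, 8, 13, 15, 21, 20, 7, 6, 16, 3, 10, 18, 22, 19, 14, 9, 0, 5, 11, 23, 17, 2, 1, 4],
   [12, 8, 13, 15, 18, 5, 0, 1, 6, 9, 3, 23, 7, 11, 20, 10, 22, 14, 2, 21, 17, 19, 16, 4],
   [7, 18, 10, 11, 3, 5, 13, 8, 0, 19, 4, 15, 23, 1, 17, 2, 21, 20, 12, 9, 14, 16, 22, 6],
   [7, 18, 10, 11, 9, 17, 23, 0, 22, 4, 2, 3, 21, 16, 20, 19, 13, 5, 1, 15, 14, 12, 8, 6],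
   [7, 18, 10, 11, 15, 20, 21, 22, 8, 2, 19, 9, 13, 12, 5, 4, 23, 17, 16, 3, 14, 1, 0, 6],
   [19, 16, 22, 21, 7, 20, 12, 4, 11, 23, 13, 8, 6, 10, 17, 18, 1, 14, 15, 0, 5, 3, 2, 9],
   [19, 16, 22, 21, 0, 17, 6, 11, 2, 13, 18, 7, 1, 3, 14, 23, 12, 20, 10, 8, 5, 15, 4, 9],
   [19, 16, 22, 21, 8, 14, 1, 2, 4, 18, 23, 0, 12, 15, 20, 13, 6, 17, 3, 7, 5, 10, 11, 9]]

theorem nd : ndOK 5 xT reps dat sT = true := by decide +kernel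

theorem ord : (List.range 24).all (fun i => iterT xT 5 i == i) = true := by decide +kernel

theorem xT_ok : permOK xT = true ∧ tableOK xT = true := by decide +kernel

/-- The element of order 5 of `M24`. -/
def x : ↥M24 := ⟨tperm xT, tperm_mem_M24 xT_ok.1 xT_ok.2⟩

theorem x_bound : orderOf x = 5 ∧
    Nat.card ↥(Subgroup.normalizer ((Subgroup.zpowers x : Subgroup ↥M24) : Set ↥M24)) ≤
      240 :=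
  normalizer_bound (by norm_num) nd ord x rfl

/-- A subgroup of order 4 of the centralizer. -/
def tL : List (List ℕ) :=
  [[0, 1, 2, 3, 4, 5, 6, 7, 8, 9, 10, 11, 12, 13, 14, 15, 16, 17, 18, 19, 20, 21, 22, 23],
   [22, 16, 19, 9, 11, 20, 12, 8, 7, 3, 15, 4, 6, 18, 17, 10, 1, 14, 13, 2, 5, 23, 0, 21],
   [8, 12, 4, 15, 2, 14, 16, 22, 0, 10, 9, 19, 1, 23, 5, 3, 6, 20, 21, 11, 17, 18, 7, 13],
   [7, 6, 11, 10, 19, 17, 1, 0, 22, 15, 3, 2, 16, 21, 20, 9, 12, 5, 23, 4, 14, 13, 8, 18]]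

theorem tL_group : tabGroupOK tL = true := by decide +kernel

theorem tL_nodup : tL.Nodup := by decide +kernel

theorem tL_ok : tL.all (fun A => tableOK A && (compT xT A == compT A xT)) = true := by
  decide +kernel

/-- `M24` has an element of order 5 whose cyclic subgroup has a normalizer of order at most
240, and whose centralizer contains a subgroup of order 4. -/
theorem main : ∃ (x : ↥M24) (T : Subgroup ↥M24), orderOf x = 5 ∧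
    Nat.card ↥(Subgroup.normalizer ((Subgroup.zpowers x : Subgroup ↥M24) : Set ↥M24)) ≤
      240 ∧ T ≤ Subgroup.centralizer ({x} : Set ↥M24) ∧ Nat.card T = 4 := by
  obtain ⟨T, hT, hc⟩ := exists_cent_sub xT_ok.1 tL tL_group tL_nodup tL_ok x rfl
  exact ⟨x, T, x_bound.1, x_bound.2, hT, hc⟩

end Cfsg.Agent.Lib.Helper95.B5
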