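import Mathlib
import Cfsg.Agent.Lib.Helper95.NormBound

/-!
# The normalizer of a subgroup of order 7 of `M24` has order at most 126
-/

set_option autoImplicit false

namespace Cfsg.Agent.Lib.Helper95.B7

open Cfsg Cfsg.Agent.Lib.Helper9 Cfsg.Agent.Lib.Helper95

/-- An element of order 7. -/
def xT : List ℕ := [1, 2, 3, 14, 18, 5, 11, 9, 19, 12, 10, 15, 8, 13, 17, 4, 21, 23, 16, 22, 7, 6, 20, 0]

def reps : List ℕ := [23, 4, 7]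

def dat : List (ℕ × ℕ × List ℕ) :=
  [(1, 23, [0, 1, 2, 3, 4, 5, 6, 7, 8, 9, 10, 11, 12, 13, 14, 15, 16, 17, 18, 19, 20, 21, 22, 23]),
   (1, 4, [18, 16, 21, 6, 14, 10, 23, 20, 8, 13, 0, 1, 7, 19, 11, 17, 5, 15, 2, 22, 9, 3, 12, 4]),
   (1, 7, [9, 12, 8, 19, 1, 22, 5, 17, 3, 4, 18, 11, 16, 10, 20, 14, 21, 13, 2, 15, 0, 6, 23, 7]),
   (2, 23, [1, 3, 17, 0, 19, 14, 12, 10, 15, 13, 21, 11, 9, 22, 5, 7, 6, 2, 8, 20, 4, 18, 16, 23]),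
   (2, 4, [16, 6, 15, 18, 12, 21, 13, 8, 20, 0, 2, 3, 14, 5, 11, 9, 23, 10, 19, 17, 7, 1, 22, 4]),
   (2, 7, [12, 19, 20, 9, 2, 8, 0, 5, 1, 18, 15, 21, 16, 11, 22, 14, 10, 13, 3, 4, 17, 6, 23, 7]),
   (3, 23, [2, 17, 1, 14, 6, 3, 18, 9, 10, 12, 15, 4, 19, 11, 0, 7, 20, 5, 8, 21, 16, 22, 13, 23]),
   (3, 4, [21, 15, 16, 11, 8, 10, 23, 1, 3, 17, 5, 13, 12, 14, 6, 20, 0, 18, 2, 9, 7, 19, 22, 4]),
   (3, 7, [8, 20, 12, 22, 4, 19, 16, 23, 21, 3, 10, 15, 0, 11, 9, 14, 1, 13, 2, 18, 6, 5, 17, 7]),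
   (4, 23, [3, 0, 14, 1, 22, 5, 19, 16, 11, 18, 20, 12, 10, 4, 17, 8, 7, 2, 9, 21, 15, 13, 6, 23]),
   (4, 4, [6, 18, 11, 16, 23, 15, 17, 2, 3, 13, 7, 19, 22, 12, 21, 1, 20, 10, 5, 8, 0, 9, 14, 4]),
   (4, 7, [19, 9, 22, 12, 1, 13, 3, 21, 18, 4, 5, 0, 6, 10, 20, 14, 2, 8, 17, 11, 15, 23, 16, 7]),
   (5, 23, [14, 2, 0, 17, 18, 1, 4, 19, 16, 22, 21, 10, 8, 6, 3, 20, 13, 5, 7, 15, 11, 12, 9, 23]),
   (5, 4, [11, 21, 18, 15, 17, 10, 12, 9, 20, 13, 19, 0, 5, 22, 16, 23, 7, 6, 8, 1, 2, 3, 14, 4]),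
   (5, 7, [22, 8, 9, 20, 2, 13, 4, 16, 15, 11, 18, 3, 0, 6, 12, 5, 21, 19, 10, 23, 1, 17, 14, 7]),
   (6, 23, [17, 14, 3, 2, 20, 1, 10, 22, 15, 19, 18, 12, 6, 11, 5, 4, 7, 0, 13, 8, 9, 21, 16, 23]),
   (6, 4, [15, 11, 6, 21, 20, 16, 3, 8, 23, 13, 14, 19, 17, 5, 10, 2, 9, 18, 7, 12, 22, 0, 1, 4]),
   (6, 7, [20, 22, 19, 8, 4, 9, 11, 1, 21, 23, 16, 18, 5, 10, 12, 0, 3, 13, 2, 6, 15, 14, 17, 7])]

/-- The elements `g` of the normalizer (up to powers of `x`). -/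
def sT : List (List ℕ) :=
  [[0, 1, 2, 3, 4, 5, 6, 7, 8, 9, 10, 11, 12, 13, 14, 15, 16, 17, 18, 19, 20, 21, 22, 23],
   [0, 1, 2, 3, 20, 5, 8, 18, 6, 16, 13, 19, 21, 10, 14, 22, 9, 17, 7, 11, 4, 12, 15, 23],
   [18, 16, 21, 6, 17, 10, 2, 8, 20, 19, 5, 3, 22, 13, 11, 14, 0, 15, 23, 7, 12, 1, 9, 4],
   [18, 16, 21, 6, 12, 10, 20, 23, 2, 0, 13, 7, 1, 5, 11, 9, 19, 15, 8, 3, 17, 22, 14, 4],
   [9, 12, 8, 19, 6, 13, 18, 0, 3, 1, 10, 16, 2, 5, 22, 21, 15, 20, 11, 14, 23, 4, 17, 7],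
   [9, 12, 8, 19, 23, 13, 3, 11, 18, 15, 5, 14, 4, 10, 22, 17, 1, 20, 0, 16, 6, 2, 21, 7],
   [1, 3, 17, 0, 12, 5, 8, 11, 6, 4, 13, 22, 16, 10, 2, 7, 20, 14, 19, 15, 21, 9, 18, 23],
   [1, 3, 17, 0, 21, 5, 6, 19, 8, 20, 10, 15, 9, 13, 2, 18, 4, 14, 11, 22, 12, 16, 7, 23],
   [16, 6, 15, 18, 1, 10, 2, 7, 20, 12, 5, 14, 19, 13, 21, 23, 17, 11, 3, 9, 22, 0, 8, 4],
   [16, 6, 15, 18, 22, 10, 20, 3, 2, 17, 13, 9, 0, 5, 21, 8, 12, 11, 7, 14, 1, 19, 23, 4],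
   [12, 19, 20, 9, 2, 13, 3, 16, 18, 6, 5, 17, 15, 10, 8, 0, 23, 22, 14, 21, 4, 1, 11, 7],
   [12, 19, 20, 9, 4, 13, 18, 14, 3, 23, 10, 21, 1, 5, 8, 11, 6, 22, 16, 17, 2, 15, 0, 7],
   [3, 0, 14, 1, 16, 5, 6, 22, 8, 12, 10, 18, 20, 13, 17, 11, 21, 2, 15, 7, 9, 4, 19, 23],
   [3, 0, 14, 1, 9, 5, 8, 15, 6, 21, 13, 7, 4, 10, 17, 19, 12, 2, 22, 18, 16, 20, 11, 23],
   [6, 18, 11, 16, 19, 10, 20, 14, 2, 1, 13, 8, 17, 5, 15, 7, 22, 21, 9, 23, 0, 12, 3, 4],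
   [6, 18, 11, 16, 0, 10, 2, 9, 20, 22, 5, 23, 12, 13, 15, 3, 1, 21, 14, 8, 19, 17, 7, 4],
   [19, 9, 22, 12, 1, 13, 3, 21, 18, 4, 5, 0, 6, 10, 20, 14, 2, 8, 17, 11, 15, 23, 16, 7],
   [19, 9, 22, 12, 15, 13, 18, 17, 3, 2, 10, 11, 23, 5, 20, 16, 4, 8, 21, 0, 1, 6, 14, 7]]

theorem nd : ndOK 7 xT reps dat sT = true := by decide +kernel

theorem ord : (List.range 24).all (fun i => iterT xT 7 i == i) = true := by decide +kernel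

theorem xT_ok : permOK xT = true ∧ tableOK xT = true := by decide +kernel

/-- The element of order 7 of `M24`. -/
def x : ↥M24 := ⟨tperm xT, tperm_mem_M24 xT_ok.1 xT_ok.2⟩

theorem x_bound : orderOf x = 7 ∧
    Nat.card ↥(Subgroup.normalizer ((Subgroup.zpowers x : Subgroup ↥M24) : Set ↥M24)) ≤
      126 :=
  normalizer_bound (by norm_num) nd ord x rfl

/-- A subgroup of order 2 of the centralizer. -/
def tL : List (List ℕ) :=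
  [[0, 1, 2, 3, 4, 5, 6, 7, 8, 9, 10, 11, 12, 13, 14, 15, 16, 17, 18, 19, 20, 21, 22, 23],
   [0, 1, 2, 3, 20, 5, 8, 18, 6, 16, 13, 19, 21, 10, 14, 22, 9, 17, 7, 11, 4, 12, 15, 23]]

theorem tL_group : tabGroupOK tL = true := by decide +kernel

theorem tL_nodup : tL.Nodup := by decide +kernel

theorem tL_ok : tL.all (fun A => tableOK A && (compT xT A == compT A xT)) = true := by
  decide +kernel

/-- `M24` has an element of order 7 whose cyclic subgroup has a normalizer of order at most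
126, and whose centralizer contains a subgroup of order 2. -/
theorem main : ∃ (x : ↥M24) (T : Subgroup ↥M24), orderOf x = 7 ∧
    Nat.card ↥(Subgroup.normalizer ((Subgroup.zpowers x : Subgroup ↥M24) : Set ↥M24)) ≤
      126 ∧ T ≤ Subgroup.centralizer ({x} : Set ↥M24) ∧ Nat.card T = 2 := by
  obtain ⟨T, hT, hc⟩ := exists_cent_sub xT_ok.1 tL tL_group tL_nodup tL_ok x rfl
  exact ⟨x, T, x_bound.1, x_bound.2, hT, hc⟩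

end Cfsg.Agent.Lib.Helper95.B7
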