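import Mathlib
import Cfsg.Agent.Lib.Helper95.NormBound2
import Cfsg.Agent.Lib.Helper95.M24BlockB11
import Cfsg.Agent.Lib.Helper95.M24BlockB7
import Cfsg.Agent.Lib.Helper95.M24BlockB5

/-!
# Normalizers of subgroups of order 11, 7, 5 in `M22`

They have order at most 55, 21, 20; an element of order 5 is conjugate to its square.
-/

set_option autoImplicit false

namespace Cfsg.Agent.Lib.Helper95.C11

open Cfsg Cfsg.Agent.Lib.Helper9 Cfsg.Agent.Lib.Helper95

/-- An element of `M24` mapping the points `23, 0` to two fixed points of the element of order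
11 of `B11`. -/
def hT : List ℕ := [19, 5, 3, 8, 22, 6, 10, 17, 15, 4, 9, 14, 2, 1, 16, 20, 7, 12, 18, 11, 21, 23, 0, 13]

/-- The conjugate element of order 11, in `M22`. -/
def xT : List ℕ := [0, 16, 9, 4, 15, 14, 21, 6, 11, 18, 7, 17, 2, 12, 20, 1, 8, 5, 19, 10, 3, 22, 13, 23]

theorem hT_ok : permOK hT = true ∧ tableOK hT = true := by decide +kernel

theorem xT_ok : permOK xT = true ∧ tableOK xT = true ∧ xT.getD 23 0 = 23 ∧ xT.getD 0 0 = 0 := by
  decide +kernel

theorem sT_perm : B11.sT.all permOK = true := by decide +kernel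

theorem conj : compT hT xT = compT B11.xT hT := by decide +kernel

theorem ord : (List.range 24).all (fun i => iterT xT 11 i == i) = true := by decide +kernel

theorem flen : (B11.sT.filter (fun T => T.getD 13 0 == 13 && T.getD 19 0 == 19)).length = 5 := by
  decide +kernel

/-- The element of order 11 of `M22`. -/
def x : ↥Spor.M22 :=
  ⟨tperm xT, mem_sporM22_of_table xT_ok.1 xT_ok.2.1 xT_ok.2.2.1 xT_ok.2.2.2⟩

theorem x_bound : orderOf x = 11 ∧
    Nat.card ↥(Subgroup.normalizer ((Subgroup.zpowers x : Subgroup ↥Spor.M22) : Set ↥Spor.M22)) ≤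
      55 := by
  have h := m22_normalizer_bound (p := 11) (by norm_num) B11.nd sT_perm (a := 13) (b := 19)
    (by norm_num) (by norm_num) (by decide) (by decide) hT_ok (by decide) (by decide) xT_ok.1 conj
    ord (j := 1) (by norm_num) (by decide) x rfl
  rw [flen] at h
  exact h

theorem main : ∃ x : ↥Spor.M22, orderOf x = 11 ∧
    Nat.card ↥(Subgroup.normalizer ((Subgroup.zpowers x : Subgroup ↥Spor.M22) : Set ↥Spor.M22)) ≤
      55 :=
  ⟨x, x_bound⟩

end Cfsg.Agent.Lib.Helper95.C11

namespace Cfsg.Agent.Lib.Helper95.C7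

open Cfsg Cfsg.Agent.Lib.Helper9 Cfsg.Agent.Lib.Helper95

/-- An element of `M24` mapping the points `23, 0` to two fixed points of the element of order
7 of `B7`. -/
def hT : List ℕ := [10, 13, 2, 12, 3, 22, 7, 18, 8, 15, 11, 14, 6, 0, 19, 20, 16, 4, 17, 1, 21, 23, 9, 5]

/-- The conjugate element of order 7, in `M22`. -/
def xT : List ℕ := [0, 1, 4, 8, 11, 15, 22, 16, 14, 17, 9, 18, 10, 19, 5, 6, 20, 7, 21, 2, 12, 13, 3, 23]

theorem hT_ok : permOK hT = true ∧ tableOK hT = true := by decide +kernel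

theorem xT_ok : permOK xT = true ∧ tableOK xT = true ∧ xT.getD 23 0 = 23 ∧ xT.getD 0 0 = 0 := by
  decide +kernel

theorem sT_perm : B7.sT.all permOK = true := by decide +kernel

theorem conj : compT hT xT = compT B7.xT hT := by decide +kernel

theorem ord : (List.range 24).all (fun i => iterT xT 7 i == i) = true := by decide +kernel

theorem flen : (B7.sT.filter (fun T => T.getD 5 0 == 5 && T.getD 10 0 == 10)).length = 3 := by
  decide +kernel

/-- The element of order 7 of `M22`. -/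
def x : ↥Spor.M22 :=
  ⟨tperm xT, mem_sporM22_of_table xT_ok.1 xT_ok.2.1 xT_ok.2.2.1 xT_ok.2.2.2⟩

theorem x_bound : orderOf x = 7 ∧
    Nat.card ↥(Subgroup.normalizer ((Subgroup.zpowers x : Subgroup ↥Spor.M22) : Set ↥Spor.M22)) ≤
      21 := by
  have h := m22_normalizer_bound (p := 7) (by norm_num) B7.nd sT_perm (a := 5) (b := 10)
    (by norm_num) (by norm_num) (by decide) (by decide) hT_ok (by decide) (by decide) xT_ok.1 conj
    ord (j := 2) (by norm_num) (by decide) x rfl
  rw [flen] at h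
  exact h

theorem main : ∃ x : ↥Spor.M22, orderOf x = 7 ∧
    Nat.card ↥(Subgroup.normalizer ((Subgroup.zpowers x : Subgroup ↥Spor.M22) : Set ↥Spor.M22)) ≤
      21 :=
  ⟨x, x_bound⟩

end Cfsg.Agent.Lib.Helper95.C7

namespace Cfsg.Agent.Lib.Helper95.C5

open Cfsg Cfsg.Agent.Lib.Helper9 Cfsg.Agent.Lib.Helper95

/-- An element of `M24` mapping the points `23, 0` to two fixed points of the element of order
5 of `B5`. -/
def hT : List ℕ := [14, 10, 8, 7, 2, 21, 20, 23, 19, 12, 16, 3, 0, 13, 15, 9, 17, 18, 4, 11, 22, 1, 6, 5]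

/-- The conjugate element of order 5, in `M22`. -/
def xT : List ℕ := [0, 17, 9, 22, 11, 20, 6, 12, 15, 18, 8, 7, 21, 2, 13, 5, 16, 3, 14, 1, 10, 4, 19, 23]

theorem hT_ok : permOK hT = true ∧ tableOK hT = true := by decide +kernel

theorem xT_ok : permOK xT = true ∧ tableOK xT = true ∧ xT.getD 23 0 = 23 ∧ xT.getD 0 0 = 0 := by
  decide +kernel

theorem sT_perm : B5.sT.all permOK = true := by decide +kernel

theorem conj : compT hT xT = compT B5.xT hT := by decide +kernel

theorem ord : (List.range 24).all (fun i => iterT xT 5 i == i) = true := by decide +kernel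

theorem flen : (B5.sT.filter (fun T => T.getD 5 0 == 5 && T.getD 14 0 == 14)).length = 4 := by
  decide +kernel

/-- The element of order 5 of `M22`. -/
def x : ↥Spor.M22 :=
  ⟨tperm xT, mem_sporM22_of_table xT_ok.1 xT_ok.2.1 xT_ok.2.2.1 xT_ok.2.2.2⟩

theorem x_bound : orderOf x = 5 ∧
    Nat.card ↥(Subgroup.normalizer ((Subgroup.zpowers x : Subgroup ↥Spor.M22) : Set ↥Spor.M22)) ≤
      20 := by
  have h := m22_normalizer_bound (p := 5) (by norm_num) B5.nd sT_perm (a := 5) (b := 14)
    (by norm_num) (by norm_num) (by decide) (by decide) hT_ok (by decide) (by decide) xT_ok.1 conj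
    ord (j := 1) (by norm_num) (by decide) x rfl
  rw [flen] at h
  exact h

/-- An element conjugating `x` to its square. -/
def gT : List ℕ := [0, 3, 7, 17, 14, 8, 16, 18, 15, 21, 10, 2, 13, 4, 12, 20, 6, 19, 11, 1, 5, 9, 22, 23]

theorem gT_ok : permOK gT = true ∧ tableOK gT = true ∧ gT.getD 23 0 = 23 ∧ gT.getD 0 0 = 0 := by
  decide +kernel

theorem g_rel : compT gT xT = compT (compT xT xT) gT := by decide +kernel

def g : ↥Spor.M22 :=
  ⟨tperm gT, mem_sporM22_of_table gT_ok.1 gT_ok.2.1 gT_ok.2.2.1 gT_ok.2.2.2⟩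

theorem g_conj : g * x * g⁻¹ = x ^ 2 := by
  rw [mul_inv_eq_iff_eq_mul]
  apply Subtype.ext
  show tperm gT * tperm xT = (tperm xT) ^ 2 * tperm gT
  rw [pow_two, tperm_mul gT_ok.1 xT_ok.1, tperm_mul xT_ok.1 xT_ok.1,
    tperm_mul (permOK_compT xT_ok.1 xT_ok.1) gT_ok.1, g_rel]

theorem main : ∃ x g : ↥Spor.M22, orderOf x = 5 ∧
    Nat.card ↥(Subgroup.normalizer ((Subgroup.zpowers x : Subgroup ↥Spor.M22) : Set ↥Spor.M22)) ≤
      20 ∧ g * x * g⁻¹ = x ^ 2 :=
  ⟨x, g, x_bound.1, x_bound.2, g_conj⟩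

end Cfsg.Agent.Lib.Helper95.C5

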