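import Mathlib
import Cfsg.Agent.Lib.Helper95.NormBound

/-!
# The normalizer of a subgroup of order 23 of `M24` has order at most 253
-/

set_option autoImplicit false

namespace Cfsg.Agent.Lib.Helper95.B23

open Cfsg Cfsg.Agent.Lib.Helper9 Cfsg.Agent.Lib.Helper95

/-- An element of order 23. -/
def xT : List ℕ := [1, 2, 3, 19, 21, 15, 12, 4, 17, 9, 22, 23, 14, 20, 8, 11, 18, 16, 5, 7, 6, 10, 13, 0]

def reps : List ℕ := [23]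

def dat : List (ℕ × ℕ × List ℕ) :=
  [(1, 23, [0, 1, 2, 3, 4, 5, 6, 7, 8, 9, 10, 11, 12, 13, 14, 15, 16, 17, 18, 19, 20, 21, 22, 23]),
   (2, 23, [1, 3, 7, 21, 19, 13, 11, 12, 2, 0, 16, 8, 20, 10, 17, 9, 15, 4, 22, 5, 18, 6, 14, 23]),
   (3, 23, [2, 7, 10, 20, 8, 19, 17, 9, 18, 21, 4, 1, 5, 0, 12, 15, 16, 11, 13, 3, 22, 6, 14, 23]),
   (4, 23, [3, 21, 20, 8, 19, 13, 7, 0, 16, 9, 6, 18, 22, 15, 12, 14, 2, 11, 4, 5, 1, 10, 17, 23]),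
   (5, 23, [19, 22, 14, 5, 0, 12, 15, 6, 11, 7, 2, 4, 16, 1, 3, 13, 8, 20, 10, 21, 17, 18, 9, 23]),
   (6, 23, [7, 20, 16, 0, 9, 19, 14, 17, 1, 18, 12, 6, 10, 13, 15, 5, 2, 22, 4, 11, 8, 3, 21, 23]),
   (7, 23, [4, 12, 15, 19, 6, 0, 20, 9, 17, 11, 13, 21, 18, 16, 2, 1, 5, 14, 8, 3, 10, 7, 22, 23]),
   (8, 23, [21, 8, 0, 10, 5, 19, 17, 1, 3, 7, 22, 4, 2, 14, 15, 18, 12, 11, 9, 16, 13, 20, 6, 23]),
   (9, 23, [10, 16, 3, 6, 2, 14, 20, 8, 7, 17, 4, 13, 22, 1, 18, 0, 11, 5, 12, 19, 15, 9, 21, 23]),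
   (10, 23, [22, 5, 4, 17, 6, 0, 3, 1, 18, 13, 7, 14, 2, 15, 19, 20, 12, 21, 8, 9, 11, 10, 16, 23]),
   (11, 23, [13, 11, 22, 15, 19, 17, 2, 10, 3, 4, 7, 14, 18, 0, 16, 5, 12, 21, 1, 9, 20, 8, 6, 23]),
   (12, 23, [20, 0, 6, 1, 4, 22, 9, 8, 10, 16, 2, 19, 14, 15, 18, 12, 21, 5, 17, 11, 3, 7, 13, 23]),
   (13, 23, [6, 2, 8, 7, 17, 13, 21, 20, 1, 14, 19, 9, 16, 0, 12, 11, 15, 4, 5, 10, 3, 18, 22, 23]),
   (14, 23, [12, 19, 18, 22, 2, 1, 0, 9, 13, 15, 11, 8, 14, 6, 7, 3, 17, 4, 10, 21, 16, 20, 5, 23]),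
   (15, 23, [14, 4, 11, 12, 1, 6, 15, 5, 19, 17, 0, 16, 22, 2, 18, 13, 7, 20, 10, 3, 8, 21, 9, 23]),
   (16, 23, [8, 10, 1, 16, 21, 18, 3, 6, 20, 17, 19, 5, 14, 9, 15, 2, 12, 22, 11, 13, 4, 0, 7, 23]),
   (17, 23, [17, 13, 19, 11, 18, 3, 4, 16, 8, 22, 14, 9, 6, 0, 5, 2, 15, 10, 21, 12, 7, 20, 1, 23]),
   (18, 23, [16, 6, 21, 2, 5, 14, 22, 10, 18, 15, 7, 1, 12, 11, 17, 3, 19, 4, 13, 9, 8, 0, 20, 23]),
   (19, 23, [18, 14, 13, 4, 11, 15, 8, 10, 2, 21, 5, 6, 9, 22, 7, 17, 1, 16, 0, 12, 20, 19, 3, 23]),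
   (20, 23, [5, 17, 12, 13, 6, 22, 15, 11, 9, 10, 4, 16, 21, 2, 8, 14, 19, 1, 3, 0, 7, 20, 18, 23]),
   (21, 23, [15, 18, 17, 14, 1, 11, 8, 21, 20, 22, 3, 9, 16, 0, 2, 7, 19, 10, 6, 12, 5, 4, 13, 23]),
   (22, 23, [11, 15, 5, 18, 1, 13, 9, 10, 4, 17, 0, 21, 3, 22, 6, 12, 2, 8, 14, 7, 20, 16, 19, 23])]

/-- The elements `g` of the normalizer (up to powers of `x`). -/
def sT : List (List ℕ) :=
  [[0, 1, 2, 3, 4, 5, 6, 7, 8, 9, 10, 11, 12, 13, 14, 15, 16, 17, 18, 19, 20, 21, 22, 23],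
   [1, 3, 7, 21, 12, 17, 2, 20, 10, 9, 16, 15, 19, 11, 4, 18, 6, 13, 14, 22, 0, 8, 5, 23],
   [2, 7, 10, 20, 15, 12, 8, 16, 1, 9, 3, 5, 18, 22, 11, 17, 21, 19, 13, 14, 6, 0, 4, 23],
   [3, 21, 20, 8, 19, 13, 7, 0, 16, 9, 6, 18, 22, 15, 12, 14, 2, 11, 4, 5, 1, 10, 17, 23],
   [7, 20, 16, 0, 18, 19, 10, 6, 3, 9, 21, 17, 14, 5, 15, 13, 8, 22, 11, 4, 2, 1, 12, 23],
   [21, 8, 0, 10, 22, 11, 20, 1, 6, 9, 2, 14, 5, 18, 19, 4, 7, 15, 12, 17, 3, 16, 13, 23],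
   [10, 16, 3, 6, 17, 18, 1, 21, 7, 9, 20, 12, 13, 4, 5, 19, 0, 14, 22, 11, 8, 2, 15, 23],
   [20, 0, 6, 1, 14, 22, 16, 2, 21, 9, 8, 13, 4, 17, 18, 11, 10, 5, 15, 12, 7, 3, 19, 23],
   [6, 2, 8, 7, 11, 4, 21, 10, 0, 9, 1, 22, 15, 19, 13, 5, 3, 12, 17, 18, 16, 20, 14, 23],
   [8, 10, 1, 16, 5, 15, 0, 3, 2, 9, 7, 4, 17, 14, 22, 12, 20, 18, 19, 13, 21, 6, 11, 23],
   [16, 6, 21, 2, 13, 14, 3, 8, 20, 9, 0, 19, 11, 12, 17, 22, 1, 4, 5, 15, 10, 7, 18, 23]]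

theorem nd : ndOK 23 xT reps dat sT = true := by decide +kernel

theorem ord : (List.range 24).all (fun i => iterT xT 23 i == i) = true := by decide +kernel

theorem xT_ok : permOK xT = true ∧ tableOK xT = true := by decide +kernel

/-- The element of order 23 of `M24`. -/
def x : ↥M24 := ⟨tperm xT, tperm_mem_M24 xT_ok.1 xT_ok.2⟩

theorem x_bound : orderOf x = 23 ∧
    Nat.card ↥(Subgroup.normalizer ((Subgroup.zpowers x : Subgroup ↥M24) : Set ↥M24)) ≤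
      253 :=
  normalizer_bound (by norm_num) nd ord x rfl

/-- `M24` has an element of order 23 whose cyclic subgroup has a normalizer of order at most
253. -/
theorem main : ∃ x : ↥M24, orderOf x = 23 ∧
    Nat.card ↥(Subgroup.normalizer ((Subgroup.zpowers x : Subgroup ↥M24) : Set ↥M24)) ≤
      253 :=
  ⟨x, x_bound⟩

end Cfsg.Agent.Lib.Helper95.B23
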