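import Mathlib
import Cfsg.Agent.Lib.Helper95.M24BlockA
import Cfsg.Agent.Lib.Helper95.M24BlockB23
import Cfsg.Agent.Lib.Helper95.M24BlockB11
import Cfsg.Agent.Lib.Helper95.M24BlockB7
import Cfsg.Agent.Lib.Helper95.M24BlockB5

/-!
# Group-theoretic facts on `M24` used for its 2-blocks

* `factI`: a non-trivial 2-subgroup `D` with `O_2(N(D)) = D` contains its centralizer;
* `fact23`, `fact11`, `fact5`, `fact7`: elements of order 23, 11, 5, 7 whose cyclic subgroups have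
  normalizers of order at most 253, 110, 240, 126 (with a subgroup of order 4, resp. 2, in the
  centralizer for 5, resp. 7).
-/

set_option autoImplicit false

namespace Cfsg.Agent.Lib.Helper95.M24Block

open Cfsg

theorem factI : ∀ D : Subgroup ↥Cfsg.M24, IsPGroup 2 D → D ≠ ⊥ →
    (Cfsg.pCore 2 ↥(Subgroup.normalizer (D : Set ↥Cfsg.M24))).map
      (Subgroup.normalizer (D : Set ↥Cfsg.M24)).subtype = D →
    Subgroup.centralizer (D : Set ↥Cfsg.M24) ≤ D :=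
  Cfsg.Agent.Lib.Helper95.m24_radical_cent_le

theorem fact23 : ∃ x : ↥Cfsg.M24, orderOf x = 23 ∧
    Nat.card ↥(Subgroup.normalizer ((Subgroup.zpowers x : Subgroup ↥Cfsg.M24) : Set ↥Cfsg.M24))
      ≤ 253 :=
  Cfsg.Agent.Lib.Helper95.B23.main

theorem fact11 : ∃ x : ↥Cfsg.M24, orderOf x = 11 ∧
    Nat.card ↥(Subgroup.normalizer ((Subgroup.zpowers x : Subgroup ↥Cfsg.M24) : Set ↥Cfsg.M24))
      ≤ 110 :=
  Cfsg.Agent.Lib.Helper95.B11.main

theorem fact5 : ∃ (x : ↥Cfsg.M24) (T : Subgroup ↥Cfsg.M24), orderOf x = 5 ∧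
    Nat.card ↥(Subgroup.normalizer ((Subgroup.zpowers x : Subgroup ↥Cfsg.M24) : Set ↥Cfsg.M24))
      ≤ 240 ∧ T ≤ Subgroup.centralizer ({x} : Set ↥Cfsg.M24) ∧ Nat.card T = 4 :=
  Cfsg.Agent.Lib.Helper95.B5.main

theorem fact7 : ∃ (x : ↥Cfsg.M24) (T : Subgroup ↥Cfsg.M24), orderOf x = 7 ∧
    Nat.card ↥(Subgroup.normalizer ((Subgroup.zpowers x : Subgroup ↥Cfsg.M24) : Set ↥Cfsg.M24))
      ≤ 126 ∧ T ≤ Subgroup.centralizer ({x} : Set ↥Cfsg.M24) ∧ Nat.card T = 2 :=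
  Cfsg.Agent.Lib.Helper95.B7.main

end Cfsg.Agent.Lib.Helper95.M24Block
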