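import Mathlib
import Cfsg.Agent.Lib.Helper52.SP8EBDefs

/-! SP8-EB (sub-project of S5823, architect helper52), piece PERMG (helper95):
transported factor permutations lie in `G`. -/

set_option autoImplicit false
set_option linter.unusedSectionVars false

namespace Cfsg.Agent.Lib.Helper52.SP8EB

open Matrix Cfsg.Geo Cfsg.Agent.Lib.Helper71.Asch

variable {n : ℕ} {F : Type*} [Field F] [Fintype F]

/-- `permM σ * permM σ⁻¹ = 1` -/
theorem permgH95_mul_symm (σ : Equiv.Perm (Fin 3)) :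
    (permM σ : Matrix (Fin 3 → Fin 2) (Fin 3 → Fin 2) F) * permM σ.symm = 1 := by
  ext x z
  rw [Matrix.mul_apply, Finset.sum_eq_single (x ∘ σ)]
  · have h0 : (x ∘ σ) ∘ σ.symm = x := by
      funext j
      simp
    have h1 : (permM σ : Matrix (Fin 3 → Fin 2) (Fin 3 → Fin 2) F) x (x ∘ σ) = 1 := by
      show (if x ∘ σ = x ∘ σ then (1 : F) else 0) = 1
      rw [if_pos rfl]
    have h2 : (permM σ.symm : Matrix (Fin 3 → Fin 2) (Fin 3 → Fin 2) F) (x ∘ σ) z =
        if z = x then 1 else 0 := by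
      show (if z = (x ∘ σ) ∘ σ.symm then (1 : F) else 0) = _
      rw [h0]
    rw [h1, h2, one_mul, Matrix.one_apply]
    by_cases h : x = z
    · rw [if_pos h, if_pos h.symm]
    · rw [if_neg h, if_neg (fun h' => h h'.symm)]
  · intro b _ hb
    have h1 : (permM σ : Matrix (Fin 3 → Fin 2) (Fin 3 → Fin 2) F) x b = 0 := by
      show (if b = x ∘ σ then (1 : F) else 0) = 0
      rw [if_neg hb]
    rw [h1, zero_mul]
  · intro h
    exact absurd (Finset.mem_univ _) h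

/-- the action of `permM σ` on vectors -/
theorem permgH95_mulVec (σ : Equiv.Perm (Fin 3)) (w : (Fin 3 → Fin 2) → F) (a : Fin 3 → Fin 2) :
    ((permM σ : Matrix (Fin 3 → Fin 2) (Fin 3 → Fin 2) F) *ᵥ w) a = w (a ∘ σ) := by
  show ∑ z, (permM σ : Matrix (Fin 3 → Fin 2) (Fin 3 → Fin 2) F) a z * w z = _
  rw [Finset.sum_eq_single (a ∘ σ)]
  · have h1 : (permM σ : Matrix (Fin 3 → Fin 2) (Fin 3 → Fin 2) F) a (a ∘ σ) = 1 := by
      show (if a ∘ σ = a ∘ σ then (1 : F) else 0) = 1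
      rw [if_pos rfl]
    rw [h1, one_mul]
  · intro b _ hb
    have h1 : (permM σ : Matrix (Fin 3 → Fin 2) (Fin 3 → Fin 2) F) a b = 0 := by
      show (if b = a ∘ σ then (1 : F) else 0) = 0
      rw [if_neg hb]
    rw [h1, zero_mul]
  · intro h
    exact absurd (Finset.mem_univ _) h

/-- precomposition with a permutation of the factors, as a permutation of the index set -/
def permgH95Equiv (σ : Equiv.Perm (Fin 3)) : (Fin 3 → Fin 2) ≃ (Fin 3 → Fin 2) where
  toFun a := a ∘ σ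
  invFun a := a ∘ σ.symm
  left_inv a := by
    funext j
    simp
  right_inv a := by
    funext j
    simp

/-- the tensor power Gram form is invariant under permuting the factors -/
theorem permgH95_key (σ : Equiv.Perm (Fin 3)) (G₁ : Matrix (Fin 2) (Fin 2) F)
    (x y : (Fin 3 → Fin 2) → F) :
    ∑ a, ∑ b, x (a ∘ σ) * (∏ i, G₁ (a i) (b i)) * y (b ∘ σ) =
      ∑ a, ∑ b, x a * (∏ i, G₁ (a i) (b i)) * y b := by
  have hG : ∀ a b : Fin 3 → Fin 2,
      (∏ i, G₁ ((a ∘ σ) i) ((b ∘ σ) i)) = ∏ i, G₁ (a i) (b i) := by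
    intro a b
    exact Equiv.prod_comp σ (fun j => G₁ (a j) (b j))
  refine Eq.trans ?_
    (Equiv.sum_comp (permgH95Equiv σ) (fun a => ∑ b, x a * (∏ i, G₁ (a i) (b i)) * y b))
  refine Finset.sum_congr rfl fun a _ => ?_
  refine Eq.trans ?_
    (Equiv.sum_comp (permgH95Equiv σ)
      (fun b => x (permgH95Equiv σ a) * (∏ i, G₁ (permgH95Equiv σ a i) (b i)) * y b))
  refine Finset.sum_congr rfl fun b _ => ?_
  show x (a ∘ σ) * (∏ i, G₁ (a i) (b i)) * y (b ∘ σ) =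
    x (a ∘ σ) * (∏ i, G₁ ((a ∘ σ) i) ((b ∘ σ) i)) * y (b ∘ σ)
  rw [hG]

/-- PERMG. -/
theorem PERMG (f : (Fin n → F) → (Fin n → F) → F) (e : Fin n ≃ (Fin 3 → Fin 2)) (P : GL (Fin n) F)
    (f₁ : (Fin 2 → F) → (Fin 2 → F) → F)
    (htp : IsTensorPowerFormStructure id f f₁ e P) : HPermG f e P := by
  intro σ g hg
  have h1 : (permM σ : Matrix (Fin 3 → Fin 2) (Fin 3 → Fin 2) F) * permM σ.symm = 1 :=
    permgH95_mul_symm σ
  have h2 : (permM σ.symm : Matrix (Fin 3 → Fin 2) (Fin 3 → Fin 2) F) * permM σ = 1 := by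
    have h := permgH95_mul_symm (F := F) σ.symm
    rw [Equiv.symm_symm] at h
    exact h
  have hPP : P.1 * (P⁻¹ : GL (Fin n) F).1 = 1 := by
    rw [← Units.val_mul, mul_inv_cancel, Units.val_one]
  have hPP' : (P⁻¹ : GL (Fin n) F).1 * P.1 = 1 := by
    rw [← Units.val_mul, inv_mul_cancel, Units.val_one]
  refine ⟨?_, ?_⟩
  · refine (mem_tensorWreathSubgroup_iff e P g).mpr ?_
    exact ⟨⟨permM σ, permM σ.symm, h1, h2⟩,
      Subgroup.subset_closure (Or.inr ⟨σ, fun x y => rfl⟩), hg⟩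
  · show ∀ u v, f (g.1 *ᵥ u) (g.1 *ᵥ v) = f u v
    obtain ⟨c, hc, hform⟩ := htp
    have hrep : ∀ u : Fin n → F, ∃ x : (Fin 3 → Fin 2) → F, u = P.1 *ᵥ (x ∘ e) := by
      intro u
      refine ⟨((P⁻¹ : GL (Fin n) F).1 *ᵥ u) ∘ e.symm, ?_⟩
      have h0 : (((P⁻¹ : GL (Fin n) F).1 *ᵥ u) ∘ e.symm) ∘ e = (P⁻¹ : GL (Fin n) F).1 *ᵥ u := by
        funext i
        simp
      rw [h0, Matrix.mulVec_mulVec, hPP, Matrix.one_mulVec]
    have hact : ∀ w : (Fin 3 → Fin 2) → F,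
        g.1 *ᵥ (P.1 *ᵥ (w ∘ e)) = P.1 *ᵥ ((fun a => w (a ∘ σ)) ∘ e) := by
      intro w
      rw [hg]
      unfold tw
      rw [Matrix.mulVec_mulVec]
      have h0 : P.1 * Matrix.reindex e.symm e.symm (permM σ) * (P⁻¹ : GL (Fin n) F).1 * P.1 =
          P.1 * Matrix.reindex e.symm e.symm (permM σ) := by
        rw [Matrix.mul_assoc, hPP', Matrix.mul_one]
      rw [h0, ← Matrix.mulVec_mulVec]
      congr 1
      funext i
      have h3 : (Matrix.reindex e.symm e.symm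
          (permM σ : Matrix (Fin 3 → Fin 2) (Fin 3 → Fin 2) F) *ᵥ (w ∘ e)) i =
          ∑ j, (permM σ : Matrix (Fin 3 → Fin 2) (Fin 3 → Fin 2) F) (e i) (e j) * w (e j) := by
        simp [Matrix.mulVec, dotProduct]
      rw [h3, Equiv.sum_comp e
        (fun b => (permM σ : Matrix (Fin 3 → Fin 2) (Fin 3 → Fin 2) F) (e i) b * w b)]
      exact permgH95_mulVec σ w (e i)
    intro u v
    obtain ⟨x, rfl⟩ := hrep u
    obtain ⟨y, rfl⟩ := hrep v
    rw [hact, hact, hform, hform]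
    congr 1
    exact permgH95_key σ (gramMatrix f₁) x y

end Cfsg.Agent.Lib.Helper52.SP8EB
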